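import Groth.Agent.L23.CohProp.Main
import Groth.Agent.L23.LocAcycSets.Main

/-! # Constructible sheaves have finite bases of sections -/

universe u

open CategoryTheory CategoryTheory.Limits AlgebraicGeometry TopologicalSpace Topology

set_option autoImplicit false
set_option maxHeartbeats 800000
set_option maxSynthPendingDepth 3
set_option backward.isDefEq.respectTransparency.types false
set_option linter.style.haveILetI false
set_option linter.unusedSectionVars false

noncomputable section

namespace Groth.L23.CohProp

open Groth.L23.LocAcycSets (Basis)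

theorem hasBases_of_isConstructibleSet {X : Scheme.{u}} [AlgebraicGeometry.IsNoetherian X] (F : EtDesc.Sh X)
    (hF : CohProp.IsConstructibleSet F) : HasBases (fun _ : PUnit.{1} => F) := by
  intro x
  obtain ⟨W', C, hW', hlt, hsub, Z, g, hg, hr, htr⟩ := Groth.L23.LocAcycSets.exists_stratum F hF (closure {x})
    isClosed_closure ⟨x, subset_closure rfl⟩
  have hxW' : x ∉ W' := fun h => hlt.2 (closure_minimal (Set.singleton_subset_iff.2 h) hW')
  have hxC : x ∈ Set.range g := hr ▸ hsub ⟨subset_closure rfl, hxW'⟩
  obtain ⟨z, hz⟩ := hxC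
  obtain ⟨U, q, v, M, hq, hv, hM, hβ⟩ := htr z
  haveI := hg
  haveI := hq
  let ql : U.left ⟶ Z := q.left
  haveI : AlgebraicGeometry.Etale ql := hq
  have e : U.hom = ql ≫ g := (Over.w q).symm
  refine ⟨U, v, ?_, ?_, ?_, fun _ => ⟨M, hM, hβ⟩⟩
  · rw [e]; infer_instance
  · rw [e]; infer_instance
  · rw [e, Scheme.Hom.comp_apply]
    exact (congrArg g hv).trans hz

end Groth.L23.CohProp
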