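import Groth.Agent.L23.CohProp.Main
import Groth.Agent.L23.ZeroAcyc.Const
import Mathlib.Logic.Equiv.Basic

/-! # Constant sheaves and isomorphisms of coefficients -/

universe u

open CategoryTheory CategoryTheory.Limits AlgebraicGeometry TopologicalSpace Topology

set_option autoImplicit false
set_option maxHeartbeats 800000
set_option maxSynthPendingDepth 3
set_option backward.isDefEq.respectTransparency.types false
set_option linter.style.haveILetI false
set_option linter.unusedSectionVars false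

noncomputable section

namespace Groth.L23.CohProp

open Groth.L23.LocAcycSets (Basis)

/-- The base change morphism is natural. -/
theorem baseChange0Sh_naturality {X S X' S' : Scheme.{u}} (f : X ⟶ S) (g : S' ⟶ S) (f' : X' ⟶ S') (g' : X' ⟶ X)
    (w : g' ≫ f = f' ≫ g) {F F' : EtDesc.Sh X} (φ : F ⟶ F') :
    (EtDesc.pullSh g).map ((EtDesc.pushSh f).map φ) ≫ EtBC.baseChange0Sh f g f' g' w F' =
      EtBC.baseChange0Sh f g f' g' w F ≫ (EtDesc.pushSh f').map ((EtDesc.pullSh g').map φ) := by
  unfold EtBC.baseChange0Sh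
  rw [← Adjunction.homEquiv_naturality_left_symm, ← Adjunction.homEquiv_naturality_right_symm]
  congr 1
  rw [← Category.assoc, ← Functor.map_comp]
  have hu : φ ≫ (EtDesc.adjSh g').unit.app F' =
      (EtDesc.adjSh g').unit.app F ≫ (EtDesc.pushSh g').map ((EtDesc.pullSh g').map φ) :=
    (EtDesc.adjSh g').unit.naturality φ
  rw [hu, Functor.map_comp]
  simp only [Category.assoc]
  congr 1
  have h1 := (EtDesc.pushCompSh f g').hom.naturality ((EtDesc.pullSh g').map φ)
  have h2 := (EtBC.pushCongrSh w).hom.naturality ((EtDesc.pullSh g').map φ)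
  have h3 := (EtDesc.pushCompSh g f').inv.naturality ((EtDesc.pullSh g').map φ)
  simp only [Functor.comp_map] at h1 h2 h3
  rw [reassoc_of% h1, reassoc_of% h2, h3]

/-- Cohomological propriety only depends on the sheaf up to isomorphism. -/
theorem isCohPropSet_of_iso {X Y S : Scheme.{u}} (q : Y ⟶ S) (f : X ⟶ Y) {F F' : EtDesc.Sh X} (e : F ≅ F')
    (h : CohProp.IsCohPropSet q f F) : CohProp.IsCohPropSet q f F' := by
  intro S' Y' X' p g q' h' f' hsq sq
  haveI := h p g q' h' f' hsq sq
  have := baseChange0Sh_naturality f g f' h' sq.w e.hom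
  haveI : IsIso ((EtDesc.pullSh g).map ((EtDesc.pushSh f).map e.hom) ≫ EtBC.baseChange0Sh f g f' h' sq.w F') := by
    rw [this]; infer_instance
  exact IsIso.of_isIso_comp_left ((EtDesc.pullSh g).map ((EtDesc.pushSh f).map e.hom)) _

/-- The constant sheaf with values in a small type. -/
def constIsoK (X : Scheme.{u}) (E : Type) :
    CohProp.constSh X (ULift.{u + 1} E) ≅ ZeroAcyc.K (ULift.{u} E) X :=
  (constantSheaf X.smallEtaleTopology (Type (u + 1))).mapIso
    ((Equiv.ulift.{u + 1}.trans (Equiv.ulift.{u}.symm.trans Equiv.ulift.{u + 1}.symm)).toIso)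

/-- Inverse images of constant sheaves are constant. -/
def pullConstIso {T S : Scheme.{u}} (m : T ⟶ S) (E : Type) :
    (EtDesc.pullSh m).obj (CohProp.constSh S (ULift.{u + 1} E)) ≅ CohProp.constSh T (ULift.{u + 1} E) :=
  haveI : IsIso (ZeroAcyc.kappa (I := ULift.{u} E) m) := ZeroAcyc.isIso_kappa (I := ULift.{u} E) m
  (EtDesc.pullSh m).mapIso (constIsoK S E) ≪≫ asIso (ZeroAcyc.kappa (I := ULift.{u} E) m) ≪≫ (constIsoK T E).symm

/-- Constant sheaves have bases of sections. -/
theorem hasBases_const (X : Scheme.{u}) :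
    HasBases (fun E : {E : Type // Finite E} => CohProp.constSh X (ULift.{u + 1} E.1)) := by
  intro x
  let U : X.Etale := Scheme.Etale.mk (𝟙 X)
  refine ⟨(L27.Fppf.cT (𝟙 X)).obj U, x, ?_, ?_, ?_, fun E => ?_⟩
  · show LocallyOfFiniteType (𝟙 X ≫ 𝟙 X); infer_instance
  · show LocallyQuasiFinite (𝟙 X ≫ 𝟙 X); infer_instance
  · show (𝟙 X ≫ 𝟙 X : X ⟶ X) x = x; simp
  haveI := E.2
  exact ⟨ULift.{u + 1} E.1, inferInstance, LocAcycSets.exists_basis _ (𝟙 X) U _
    ((X.smallEtaleTopology.overPullback (Type (u + 1)) U).mapIso (pullConstIso (𝟙 X) E.1))⟩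

end Groth.L23.CohProp
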