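import Groth.Agent.L23.CohProp.Piece
import Mathlib.CategoryTheory.Sites.SheafOfTypes

/-! # Sections on strictly local schemes from pieces -/

universe u

open CategoryTheory CategoryTheory.Limits AlgebraicGeometry Opposite

set_option autoImplicit false
set_option maxHeartbeats 800000
set_option maxSynthPendingDepth 3
set_option backward.isDefEq.respectTransparency.types false
set_option linter.style.haveILetI false
set_option linter.unusedSectionVars false
set_option linter.unusedVariables false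

noncomputable section

namespace Groth.L23.CohProp

open Groth.L27.BigSets
open Groth.L27.Fppf (Jet mem_Jet exists_pullback comp_left_apply etale_comp)
open Groth.L23.LocAcycSets (Basis eqNear_trans eqNear_symm)

variable {X Y S : Scheme.{u}} {f : X ⟶ Y} {b : Y ⟶ S} {F : EtDesc.Sh X} {U : S.Opens}

theorem Lands.over {T T' : Over X} (hl : Lands (f ≫ b) U T.hom) (m : T' ⟶ T) : Lands (f ≫ b) U T'.hom := by
  rw [← Over.w m]; exact hl.comp _

theorem zMap_zMap {Z T T' T'' : Scheme.{u}} (q : Z ⟶ X) (t : T ⟶ X) (t' : T' ⟶ X) (t'' : T'' ⟶ X) (m : T' ⟶ T)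
    (hm : m ≫ t = t') (n : T'' ⟶ T') (hn : n ≫ t' = t'') (k : T'' ⟶ T) (hk : k ≫ t = t'') (e : n ≫ m = k) :
    zMap q t' t'' n hn ≫ zMap q t t' m hm = zMap q t t'' k hk := by
  refine pullback.hom_ext ?_ ?_
  · rw [Category.assoc, zMap_fst, ← Category.assoc, zMap_fst, Category.assoc, e, zMap_fst]
  · rw [Category.assoc, zMap_snd, zMap_snd, zMap_snd]

theorem isClopen_ne {A : Type*} [TopologicalSpace A] {M : Type*} (u v : LocallyConstant A M) :
    IsClopen {z | u z ≠ v z} :=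
  have h := u.isLocallyConstant.prodMk v.isLocallyConstant
  ⟨isOpen_compl_iff.1 (h {p : M × M | p.1 ≠ p.2}ᶜ), h {p : M × M | p.1 ≠ p.2}⟩

/-- Gluing of sections along étale coverings. -/
theorem exists_glue {T : Over X} {ι : Type u} (Tj : ι → Over X) (g : ∀ j, Tj j ⟶ T)
    (he : ∀ j, AlgebraicGeometry.Etale (g j).left) (hcov : ∀ t : T.left, ∃ j z, (g j).left z = t)
    (x : ∀ j, (G F).obj.obj (op (Tj j)))
    (hc : ∀ i j (Z : Over X) (a : Z ⟶ Tj i) (c : Z ⟶ Tj j), a ≫ g i = c ≫ g j →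
      (G F).obj.map a.op (x i) = (G F).obj.map c.op (x j)) :
    ∃ y : (G F).obj.obj (op T), ∀ j, (G F).obj.map (g j).op y = x j := by
  have hR : Sieve.generate (Presieve.ofArrows Tj g) ∈ Jet X T := mem_Jet.2 fun t => by
    obtain ⟨j, z, hz⟩ := hcov t
    exact ⟨Tj j, g j, z, Sieve.le_generate _ _ _ ⟨j⟩, he j, hz⟩
  have h := Presieve.isSheafFor_iff_generate _ |>.2 (((isSheaf_iff_isSheaf_of_type _ _).1 (G F).property) _ hR)
  obtain ⟨y, hy, -⟩ := (Presieve.isSheafFor_arrows_iff _ _).1 h x (fun i j Z a c e => hc i j Z a c e)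
  exact ⟨y, hy⟩

namespace Piece

variable (P : Piece f b F U)

/-- The base change of the piece. -/
abbrev ZT (T : Over X) : Over X := Over.mk (pullback.fst T.hom P.q ≫ T.hom)

/-- The projection of the base change. -/
abbrev zp (T : Over X) : P.ZT T ⟶ T := Over.homMk (pullback.fst T.hom P.q) rfl

/-- The values of a section on the base change of the piece. -/
def valT {T : Over X} (hl : Lands (f ≫ b) U T.hom) (x : (G F).obj.obj (op T)) :
    LocallyConstant ↥(pullback T.hom P.q) P.M :=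
  P.val (T := P.ZT T) (pullback.snd T.hom P.q) pullback.condition.symm (hl.over (P.zp T))
    ((G F).obj.map (P.zp T).op x)

theorem valT_map {T T₂ : Over X} (m : T₂ ⟶ T) (hl : Lands (f ≫ b) U T.hom) (hl₂ : Lands (f ≫ b) U T₂.hom)
    (x : (G F).obj.obj (op T)) (z : ↥(pullback T₂.hom P.q)) :
    P.valT hl₂ ((G F).obj.map m.op x) z = P.valT hl x (zMap P.q T.hom T₂.hom m.left (Over.w m) z) := by
  let k : P.ZT T₂ ⟶ P.ZT T := Over.homMk (zMap P.q T.hom T₂.hom m.left (Over.w m)) (by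
    show zMap P.q T.hom T₂.hom m.left (Over.w m) ≫ pullback.fst T.hom P.q ≫ T.hom = _
    rw [← Category.assoc, zMap_fst, Category.assoc, Over.w m]
    rfl)
  have e : P.zp T₂ ≫ m = k ≫ P.zp T :=
    Over.OverMorphism.ext (zMap_fst P.q T.hom T₂.hom m.left (Over.w m)).symm
  unfold valT
  rw [map_comp', e, ← map_comp']
  exact P.val_map _ _ k _ pullback.condition.symm (zMap_snd P.q T.hom T₂.hom m.left (Over.w m)) (hl.over (P.zp T)) _ _ z

theorem valT_eq_of_eqNear {T : Over X} (hl : Lands (f ≫ b) U T.hom) {x y : (G F).obj.obj (op T)}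
    (z : ↥(pullback T.hom P.q)) (h : EqNear F x y (pullback.fst T.hom P.q z)) : P.valT hl x z = P.valT hl y z :=
  P.val_eq_of_eqNear (T := P.ZT T) _ _ _ (EqNear.map F (P.zp T) x y z h)

/-- The part of the base change over the open with a basis. -/
abbrev WT (T : Over X) : Over X :=
  Over.mk ((pullback.snd T.hom P.q ⁻¹ᵁ P.W).ι ≫ pullback.fst T.hom P.q ≫ T.hom)

/-- The projection. -/
abbrev wp (T : Over X) : P.WT T ⟶ T :=
  Over.homMk ((pullback.snd T.hom P.q ⁻¹ᵁ P.W).ι ≫ pullback.fst T.hom P.q) (Category.assoc _ _ _)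

/-- The map to the open with a basis. -/
abbrev wq (T : Over X) : P.WT T ⟶ Over.mk (P.W.ι ≫ P.q) :=
  Over.homMk (pullback.snd T.hom P.q ∣_ P.W) (by
    show (pullback.snd T.hom P.q ∣_ P.W) ≫ P.W.ι ≫ P.q = _ ≫ pullback.fst T.hom P.q ≫ T.hom
    rw [← Category.assoc, morphismRestrict_ι, Category.assoc, pullback.condition])

theorem valT_eq_valB {T : Over X} (hl : Lands (f ≫ b) U T.hom) (x : (G F).obj.obj (op T))
    (z : ↥(pullback.snd T.hom P.q ⁻¹ᵁ P.W)) :
    P.valT hl x ((pullback.snd T.hom P.q ⁻¹ᵁ P.W).ι z) = valB P.β (P.wq T) ((G F).obj.map (P.wp T).op x) z := by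
  let k : P.WT T ⟶ P.ZT T := Over.homMk (pullback.snd T.hom P.q ⁻¹ᵁ P.W).ι rfl
  let r₂ : (P.WT T).left ⟶ P.Z := (pullback.snd T.hom P.q ⁻¹ᵁ P.W).ι ≫ pullback.snd T.hom P.q
  have hr₂ : r₂ ≫ P.q = (P.WT T).hom := by
    show ((pullback.snd T.hom P.q ⁻¹ᵁ P.W).ι ≫ _) ≫ P.q = _ ≫ pullback.fst T.hom P.q ≫ T.hom
    rw [Category.assoc, pullback.condition]
  have h1 := P.val_map (T := P.ZT T) (pullback.snd T.hom P.q) pullback.condition.symm k r₂ hr₂ rfl (hl.over (P.zp T))
    (hl.over (P.wp T)) ((G F).obj.map (P.zp T).op x) z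
  refine h1.symm.trans ?_
  rw [map_comp', show k ≫ P.zp T = P.wp T from Over.OverMorphism.ext rfl]
  exact P.val_spec r₂ hr₂ _ _ (P.wq T) (morphismRestrict_ι _ _) z

theorem eqNear_of_valT {T : Over X} (hl : Lands (f ≫ b) U T.hom) {x y : (G F).obj.obj (op T)}
    (z : ↥(pullback.snd T.hom P.q ⁻¹ᵁ P.W))
    (h : P.valT hl x ((pullback.snd T.hom P.q ⁻¹ᵁ P.W).ι z) = P.valT hl y ((pullback.snd T.hom P.q ⁻¹ᵁ P.W).ι z)) :
    EqNear F x y ((P.wp T).left z) := by
  rw [P.valT_eq_valB, P.valT_eq_valB] at h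
  refine EqNear.of_map F (P.wp T) x y z (eqNear_trans F (valB_spec P.β (P.wq T) _ z) ?_)
  rw [h]
  exact eqNear_symm F (valB_spec P.β (P.wq T) _ z)

end Piece

section Faithful

variable {ι : Type u} (P : ι → Piece f b F U)
  (hcov : ∀ x : X, (f ≫ b) x ∈ U → ∃ (i : ι) (w : (P i).W), (P i).q w.1 = x)

include hcov in
/-- Values on covering pieces determine sections. -/
theorem eq_of_valT_eq {T : Over X} (hl : Lands (f ≫ b) U T.hom) {x y : (G F).obj.obj (op T)}
    (h : ∀ i, (P i).valT hl x = (P i).valT hl y) : x = y := by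
  refine eq_of_eqNear F x y fun t => ?_
  obtain ⟨i, w, hw⟩ := hcov (T.hom t) (hl t)
  obtain ⟨z, hz, hz'⟩ := Scheme.exists_preimage_of_isPullback (IsPullback.of_hasPullback T.hom (P i).q) t w.1 hw.symm
  have hzW : z ∈ pullback.snd T.hom (P i).q ⁻¹ᵁ (P i).W := by
    show pullback.snd T.hom (P i).q z ∈ (P i).W
    rw [hz']; exact w.2
  have h1 := (P i).eqNear_of_valT hl (x := x) (y := y) ⟨z, hzW⟩
    (DFunLike.congr_fun (h i) z)
  rwa [show ((P i).wp T).left ⟨z, hzW⟩ = t from (Scheme.Hom.comp_apply _ _ _).trans hz] at h1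

variable {T T' : Over X} (ρ : T' ⟶ T) (hl : Lands (f ≫ b) U T.hom) (hl' : Lands (f ≫ b) U T'.hom)
  (hbij : ∀ i, Function.Bijective (lcMap (zMap (P i).q T.hom T'.hom ρ.left (Over.w ρ)) :
    LocallyConstant ↥(pullback T.hom (P i).q) (P i).M → _))

include hcov hl hl' hbij in
theorem injective_map : Function.Injective ((G F).obj.map ρ.op) := by
  intro x y h
  refine eq_of_valT_eq P hcov hl fun i => (hbij i).1 (LocallyConstant.ext fun z => ?_)
  exact (((P i).valT_map ρ hl hl' x z).symm.trans (by rw [h])).trans ((P i).valT_map ρ hl hl' y z)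

section Surjective

variable (c : ∀ i, LocallyConstant ↥(pullback T.hom (P i).q) (P i).M)

/-- A point near which the prescribed values are those of a section. -/
def Realised (t : T.left) : Prop :=
  ∃ (T₁ : Over X) (g : T₁ ⟶ T) (t₁ : T₁.left) (x : (G F).obj.obj (op T₁)),
    AlgebraicGeometry.Etale g.left ∧ g.left t₁ = t ∧ ∀ i (z : ↥(pullback T₁.hom (P i).q)),
      pullback.fst T₁.hom (P i).q z = t₁ →
        (P i).valT (hl.over g) x z = c i (zMap (P i).q T.hom T₁.hom g.left (Over.w g) z)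

/-- A germ with the prescribed values gives realisation. -/
theorem realised_of_germ {Q : Over X} (m : Q ⟶ T) (x : (G F).obj.obj (op Q)) (u : Q.left)
    (hx : ∀ i (z : ↥(pullback Q.hom (P i).q)), pullback.fst Q.hom (P i).q z = u →
      (P i).valT (hl.over m) x z = c i (zMap (P i).q T.hom Q.hom m.left (Over.w m) z)) :
    Realised P hl c (m.left u) := by
  obtain ⟨Q₁, g, u₁, V, cV, s, hg, hu, hs⟩ := exists_e F x u
  obtain ⟨T₁, a, a', haa, hP, hlift⟩ := exists_pullback (C := Over.mk (𝟙 X))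
    (Over.homMk T.hom (Category.comp_id _) : T ⟶ Over.mk (𝟙 X))
    (Over.homMk (U := (EtFppf.a X).obj V) V.hom (Category.comp_id _))
  haveI : AlgebraicGeometry.Etale V.hom := V.prop
  haveI : AlgebraicGeometry.Etale a.left :=
    MorphismProperty.of_isPullback (P := EtCoh.etaleMP.{u}) hP.flip (inferInstanceAs (AlgebraicGeometry.Etale V.hom))
  obtain ⟨l, hl₁, hl₂⟩ := hlift Q₁ (g ≫ m) cV (Over.OverMorphism.ext ((Over.w (g ≫ m)).trans (Over.w cV).symm))
  refine ⟨T₁, a, l.left u₁, e F a' s, inferInstance, ?_, fun i z hz => ?_⟩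
  · rw [← comp_left_apply l a, hl₁, comp_left_apply, hu]
  obtain ⟨w, hw, hw'⟩ := Scheme.exists_preimage_of_isPullback
    (isPullback_zMap (P i).q T₁.hom Q₁.hom l.left (Over.w l)) z u₁ hz
  have hle : (G F).obj.map l.op (e F a' s) = (G F).obj.map g.op x := by rw [e_map, hl₂, hs]
  rw [← hw, ← (P i).valT_map l (hl.over a) (hl.over (l ≫ a)), hle, (P i).valT_map g (hl.over m),
    hx i _ (by
      rw [← Scheme.Hom.comp_apply, zMap_fst, Scheme.Hom.comp_apply, hw', hu])]
  refine congrArg (c i) ?_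
  rw [← Scheme.Hom.comp_apply, ← Scheme.Hom.comp_apply]
  exact congrArg (fun k : pullback Q₁.hom (P i).q ⟶ pullback T.hom (P i).q => k w)
    ((zMap_zMap _ _ _ _ _ _ _ _ (g ≫ m).left (Over.w (g ≫ m)) rfl).trans
      (zMap_zMap _ _ _ _ _ _ _ _ (g ≫ m).left (Over.w (g ≫ m)) (congrArg (fun k => k.left) hl₁)).symm)

variable [Finite ι]

/-- Realisation extends to an étale neighbourhood. -/
theorem Realised.nbhd {t : T.left} (h : Realised P hl c t) :
    ∃ (T₁ : Over X) (g : T₁ ⟶ T) (t₁ : T₁.left) (x : (G F).obj.obj (op T₁)),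
      AlgebraicGeometry.Etale g.left ∧ g.left t₁ = t ∧
        ∀ i z, (P i).valT (hl.over g) x z = c i (zMap (P i).q T.hom T₁.hom g.left (Over.w g) z) := by
  obtain ⟨T₁, g, t₁, x, hg, ht, hx⟩ := h
  let B : ∀ i, Set ↥(pullback T₁.hom (P i).q) := fun i =>
    {z | (P i).valT (hl.over g) x z ≠ c i (zMap (P i).q T.hom T₁.hom g.left (Over.w g) z)}
  have hB : ∀ i, IsClosed (B i) := fun i => by
    exact (isClopen_ne ((P i).valT (hl.over g) x) (lcMap (zMap (P i).q T.hom T₁.hom g.left (Over.w g)) (c i))).1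
  let O : T₁.left.Opens := ⟨⋂ i, (pullback.fst T₁.hom (P i).q '' B i)ᶜ, isOpen_iInter_of_finite fun i => by
    haveI := (P i).finite T₁.hom (hl.over g)
    exact ((pullback.fst T₁.hom (P i).q).isClosedMap _ (hB i)).isOpen_compl⟩
  have htO : t₁ ∈ O := Set.mem_iInter.2 fun i => fun ⟨z, hz, hzt⟩ => hz (hx i z hzt)
  let T₂ : Over X := Over.mk (O.ι ≫ T₁.hom)
  let j : T₂ ⟶ T₁ := Over.homMk O.ι rfl
  haveI := hg
  refine ⟨T₂, j ≫ g, ⟨t₁, htO⟩, (G F).obj.map j.op x,
    inferInstanceAs (AlgebraicGeometry.Etale (O.ι ≫ g.left)), (comp_left_apply j g _).trans ht, fun i z => ?_⟩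
  rw [(P i).valT_map j (hl.over g)]
  let z₁ := zMap (P i).q T₁.hom T₂.hom j.left (Over.w j) z
  have hz₁ : pullback.fst T₁.hom (P i).q z₁ = O.ι (pullback.fst T₂.hom (P i).q z) := by
    rw [← Scheme.Hom.comp_apply, zMap_fst, Scheme.Hom.comp_apply]
    rfl
  have hne : z₁ ∉ B i := fun hB' => Set.mem_iInter.1 (pullback.fst T₂.hom (P i).q z).2 i ⟨z₁, hB', hz₁⟩
  refine (not_not.1 hne).trans (congrArg (c i) ?_)
  rw [← Scheme.Hom.comp_apply]
  exact congrArg (fun k : pullback T₂.hom (P i).q ⟶ pullback T.hom (P i).q => k z)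
    (zMap_zMap _ _ _ _ _ _ _ _ (j ≫ g).left (Over.w (j ≫ g)) rfl)

theorem isOpen_realised : IsOpen {t | Realised P hl c t} := by
  refine isOpen_iff_forall_mem_open.2 fun t ht => ?_
  obtain ⟨T₁, g, t₁, x, hg, ht₁, hx⟩ := Realised.nbhd P hl c ht
  haveI := hg
  refine ⟨Set.range g.left, ?_, g.left.isOpenMap.isOpen_range, t₁, ht₁⟩
  rintro _ ⟨u, rfl⟩
  exact ⟨T₁, g, u, x, hg, rfl, fun i z _ => hx i z⟩

include hcov in
theorem exists_section (h : ∀ t, Realised P hl c t) :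
    ∃ y : (G F).obj.obj (op T), ∀ i, (P i).valT hl y = c i := by
  choose T₁ g t₁ x hg ht hx using fun t => Realised.nbhd P hl c (h t)
  obtain ⟨y, hy⟩ := exists_glue T₁ g hg (fun t => ⟨t, t₁ t, ht t⟩) x fun s t Z a a' e => by
    refine eq_of_valT_eq P hcov (hl.over (a ≫ g s)) fun i => LocallyConstant.ext fun z => ?_
    rw [(P i).valT_map a (hl.over (g s)), (P i).valT_map a' (hl.over (g t)), hx s, hx t]
    refine congrArg (c i) ?_
    rw [← Scheme.Hom.comp_apply, ← Scheme.Hom.comp_apply]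
    exact congrArg (fun k : pullback Z.hom (P i).q ⟶ pullback T.hom (P i).q => k z)
      ((zMap_zMap _ _ _ _ _ _ _ _ (a ≫ g s).left (Over.w (a ≫ g s)) rfl).trans
        (zMap_zMap _ _ _ _ _ _ _ _ (a ≫ g s).left (Over.w (a ≫ g s)) (congrArg (fun k => k.left) e.symm)).symm)
  refine ⟨y, fun i => LocallyConstant.ext fun z => ?_⟩
  let t := pullback.fst T.hom (P i).q z
  obtain ⟨w, hw, -⟩ := Scheme.exists_preimage_of_isPullback
    (isPullback_zMap (P i).q T.hom (T₁ t).hom (g t).left (Over.w (g t))) z (t₁ t) (ht t).symm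
  rw [← hw, ← (P i).valT_map (g t) hl (hl.over (g t)), hy, hx t]

variable {κ : Type u} (P₂ : κ → Piece f b F U)
  (hflat : ∀ j i, Flat (pullback.fst ((P₂ j).W.ι ≫ (P₂ j).q) (P i).q) ∧
    LocallyOfFinitePresentation (pullback.fst ((P₂ j).W.ι ≫ (P₂ j).q) (P i).q))

include hflat in
theorem isClopen_realised (j : κ) :
    IsClopen {z : ↥(pullback.snd T.hom (P₂ j).q ⁻¹ᵁ (P₂ j).W) | Realised P hl c (((P₂ j).wp T).left z)} := by
  haveI := (P₂ j).finM
  let Q := (P₂ j).WT T
  let m : Q ⟶ T := (P₂ j).wp T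
  let h : Q ⟶ Over.mk ((P₂ j).W.ι ≫ (P₂ j).q) := (P₂ j).wq T
  let xa : (P₂ j).M → (G F).obj.obj (op Q) := fun a => (G F).obj.map h.op ((P₂ j).β.Φ a)
  let B : ∀ (a : (P₂ j).M) i, Set ↥(pullback Q.hom (P i).q) := fun a i =>
    {z | (P i).valT (hl.over m) (xa a) z ≠ c i (zMap (P i).q T.hom Q.hom m.left (Over.w m) z)}
  have hB : ∀ a i, IsClopen (B a i) := fun a i =>
    isClopen_ne ((P i).valT (hl.over m) (xa a)) (lcMap (zMap (P i).q T.hom Q.hom m.left (Over.w m)) (c i))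
  have himg : ∀ a i, IsClopen (pullback.fst Q.hom (P i).q '' B a i) := fun a i => by
    haveI := (P i).finite Q.hom (hl.over m)
    haveI := (hflat j i).1
    haveI := (hflat j i).2
    have hp := isPullback_zMap (P i).q ((P₂ j).W.ι ≫ (P₂ j).q) Q.hom h.left (Over.w h)
    haveI : Flat (pullback.fst Q.hom (P i).q) := MorphismProperty.of_isPullback (P := @Flat) hp inferInstance
    haveI : LocallyOfFinitePresentation (pullback.fst Q.hom (P i).q) :=
      MorphismProperty.of_isPullback (P := @LocallyOfFinitePresentation) hp inferInstance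
    exact ⟨(pullback.fst Q.hom (P i).q).isClosedMap _ (hB a i).1,
      (pullback.fst Q.hom (P i).q).isOpenMap _ (hB a i).2⟩
  have e : {z : Q.left | Realised P hl c (m.left z)} = ⋃ a, ⋂ i, (pullback.fst Q.hom (P i).q '' B a i)ᶜ := by
    ext u
    simp only [Set.mem_ofPred_eq, Set.mem_iUnion, Set.mem_iInter]
    constructor
    · rintro ⟨T₁, g, t₁, x, hg, ht, hx⟩
      obtain ⟨Q₁, a, a', haa, hQ, -⟩ := exists_pullback m g
      obtain ⟨p, hp, hp'⟩ := Scheme.exists_preimage_of_isPullback hQ u t₁ ht.symm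
      refine ⟨valB (P₂ j).β (a ≫ h) ((G F).obj.map a'.op x) p, fun i => fun ⟨z, hz, hzu⟩ => hz ?_⟩
      obtain ⟨w, hw, hw'⟩ := Scheme.exists_preimage_of_isPullback
        (isPullback_zMap (P i).q Q.hom Q₁.hom a.left (Over.w a)) z p (hzu.trans hp.symm)
      have hn := valB_spec (P₂ j).β (a ≫ h) ((G F).obj.map a'.op x) p
      rw [← map_comp' F a h] at hn
      rw [← hw, ← (P i).valT_map a (hl.over m) (hl.over (a ≫ m)),
        (P i).valT_eq_of_eqNear (hl.over (a ≫ m)) w (x := (G F).obj.map a.op (xa _)) (y := (G F).obj.map a'.op x)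
          (by rw [hw']; exact eqNear_symm F hn), (P i).valT_map a' (hl.over g),
        hx i _ (by rw [← Scheme.Hom.comp_apply, zMap_fst, Scheme.Hom.comp_apply, hw', hp'])]
      refine congrArg (c i) ?_
      rw [← Scheme.Hom.comp_apply, ← Scheme.Hom.comp_apply]
      exact congrArg (fun k : pullback Q₁.hom (P i).q ⟶ pullback T.hom (P i).q => k w)
        ((zMap_zMap _ _ _ _ _ _ _ _ (a ≫ m).left (Over.w (a ≫ m)) (congrArg (fun k => k.left) haa.symm)).trans
          (zMap_zMap _ _ _ _ _ _ _ _ (a ≫ m).left (Over.w (a ≫ m)) rfl).symm)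
    · rintro ⟨a, ha⟩
      exact realised_of_germ P hl c m (xa a) u fun i z hz => not_not.1 fun hne => ha i ⟨z, hne, hz⟩
  show IsClopen {z : Q.left | Realised P hl c (m.left z)}
  rw [e]
  exact isClopen_iUnion_of_finite fun a => isClopen_iInter_of_finite fun i => (himg a i).compl

end Surjective

variable [Finite ι] {κ : Type u} (P₂ : κ → Piece f b F U)
  (hcov₂ : ∀ x : X, (f ≫ b) x ∈ U → ∃ (j : κ) (w : (P₂ j).W), (P₂ j).q w.1 = x)
  (hflat : ∀ j i, Flat (pullback.fst ((P₂ j).W.ι ≫ (P₂ j).q) (P i).q) ∧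
    LocallyOfFinitePresentation (pullback.fst ((P₂ j).W.ι ≫ (P₂ j).q) (P i).q))
  (hdom : ∀ j (A : Set ↥(pullback.snd T.hom (P₂ j).q ⁻¹ᵁ (P₂ j).W)), IsClopen A → A.Nonempty →
    ∃ (z' : ↥(pullback T'.hom (P₂ j).q))
      (h : zMap (P₂ j).q T.hom T'.hom ρ.left (Over.w ρ) z' ∈ pullback.snd T.hom (P₂ j).q ⁻¹ᵁ (P₂ j).W),
      (⟨_, h⟩ : ↥(pullback.snd T.hom (P₂ j).q ⁻¹ᵁ (P₂ j).W)) ∈ A)

include hcov hcov₂ hflat hdom hl hl' hbij in
theorem bijective_map : Function.Bijective ((G F).obj.map ρ.op) := by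
  refine ⟨injective_map P hcov ρ hl hl' hbij, fun σ => ?_⟩
  choose c hc using fun i => (hbij i).2 ((P i).valT hl' σ)
  have him : ∀ t', Realised P hl c (ρ.left t') := fun t' =>
    realised_of_germ P hl c ρ σ t' fun i z _ => (DFunLike.congr_fun (hc i) z).symm
  have hall : ∀ t, Realised P hl c t := by
    intro t
    by_contra hne
    obtain ⟨j, w, hw⟩ := hcov₂ (T.hom t) (hl t)
    obtain ⟨z, hz, hz'⟩ := Scheme.exists_preimage_of_isPullback (IsPullback.of_hasPullback T.hom (P₂ j).q) t w.1 hw.symm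
    have hzW : z ∈ pullback.snd T.hom (P₂ j).q ⁻¹ᵁ (P₂ j).W := by
      show pullback.snd T.hom (P₂ j).q z ∈ (P₂ j).W
      rw [hz']; exact w.2
    obtain ⟨z', hz'W, hmem⟩ := hdom j _ (isClopen_realised P hl c P₂ hflat j).compl
      ⟨⟨z, hzW⟩, fun h => hne (by
        have := h
        rwa [Set.mem_ofPred_eq, show ((P₂ j).wp T).left ⟨z, hzW⟩ = t from (Scheme.Hom.comp_apply _ _ _).trans hz] at this)⟩
    refine hmem ?_
    rw [Set.mem_ofPred_eq, show ((P₂ j).wp T).left ⟨_, hz'W⟩ = ρ.left (pullback.fst T'.hom (P₂ j).q z') from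
      (Scheme.Hom.comp_apply _ _ _).trans (by
        show pullback.fst T.hom (P₂ j).q (zMap (P₂ j).q T.hom T'.hom ρ.left (Over.w ρ) z') = _
        rw [← Scheme.Hom.comp_apply, zMap_fst, Scheme.Hom.comp_apply])]
    exact him _
  obtain ⟨y, hy⟩ := exists_section P hcov hl c hall
  refine ⟨y, eq_of_valT_eq P hcov hl' fun i => LocallyConstant.ext fun z => ?_⟩
  rw [(P i).valT_map ρ hl, hy i]
  exact DFunLike.congr_fun (hc i) z

end Faithful

end Groth.L23.CohProp
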