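import Groth.Agent.L23.CohProp.Glue
import Groth.Agent.L23.Rigidity.BaseChange
import Groth.Agent.L27.Acyclic0.BaseChange
import Groth.Agent.L27.StalkBC.Criterion

/-! # Cohomological propriety from bijectivity of restrictions -/

universe u

open CategoryTheory CategoryTheory.Limits AlgebraicGeometry Opposite IsLocalRing

set_option autoImplicit false
set_option maxHeartbeats 800000
set_option maxSynthPendingDepth 3
set_option backward.isDefEq.respectTransparency.types false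
set_option linter.style.haveILetI false
set_option linter.unusedSectionVars false
set_option linter.unusedVariables false

noncomputable section

namespace Groth.L23.CohProp

open Groth.L27 Groth.L27.BigSets
open Groth.L27.StalkRpush (toBase bPt)
open Groth.L23.Rigidity (bijective_map_of_square)

variable {X Y S : Scheme.{u}} {f : X ⟶ Y} {b : Y ⟶ S} {F : EtDesc.Sh X} {U : S.Opens}

/-- Pieces give bijective restrictions. -/
theorem good_of_pieces {ι κ : Type u} [Finite ι] (P : ι → Piece f b F U) (P₂ : κ → Piece f b F U)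
    (hcov : ∀ x : X, (f ≫ b) x ∈ U → ∃ (i : ι) (w : (P i).W), (P i).q w.1 = x)
    (hcov₂ : ∀ x : X, (f ≫ b) x ∈ U → ∃ (j : κ) (w : (P₂ j).W), (P₂ j).q w.1 = x)
    (hflat : ∀ j i, Flat (pullback.fst ((P₂ j).W.ι ≫ (P₂ j).q) (P i).q) ∧
      LocallyOfFinitePresentation (pullback.fst ((P₂ j).W.ι ≫ (P₂ j).q) (P i).q)) : Good f b F U := by
  intro R R' _ _ ψ η hsq T T' t τ h ρ π' hρ
  let σ := Spec.map (CommRingCat.ofHom ψ)
  let e : T ≅ pullback f η := h.isoPullback
  have het : e.hom ≫ pullback.fst f η = t := h.isoPullback_hom_fst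
  have heτ : e.hom ≫ pullback.snd f η = τ := h.isoPullback_hom_snd
  have hρ₁ : IsPullback (ρ ≫ e.hom) π' (pullback.snd f η) σ :=
    hρ.of_iso (Iso.refl _) e (Iso.refl _) (Iso.refl _) (by simp) (by simp) (by simp [heτ]) (by simp [σ])
  have hl : Lands (f ≫ b) U (Over.mk (pullback.fst f η)).hom := fun x => by
    show (f ≫ b) (pullback.fst f η x) ∈ U
    rw [← Scheme.Hom.comp_apply, ← Category.assoc, pullback.condition, Category.assoc, Scheme.Hom.comp_apply,
      Scheme.Hom.comp_apply]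
    exact hsq.mem _
  let T'₁ : Over X := Over.mk ((ρ ≫ e.hom) ≫ pullback.fst f η)
  let ρ₁ : T'₁ ⟶ Over.mk (pullback.fst f η) := Over.homMk (ρ ≫ e.hom) rfl
  have key := bijective_map P hcov ρ₁ hl (hl.comp _) (fun i => ((P i).sand R R' ψ η hsq _ π' hρ₁).1 _) P₂ hcov₂ hflat
    (fun j => ((P₂ j).sand R R' ψ η hsq _ π' hρ₁).2)
  refine bijective_map_of_square F _ ρ₁ (Over.isoMk (Iso.refl _) ?_) (Over.isoMk e ?_) ?_ key
  · show 𝟙 T' ≫ (ρ ≫ e.hom) ≫ pullback.fst f η = ρ ≫ t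
    rw [Category.id_comp, Category.assoc, het]
  · exact het
  · exact Over.OverMorphism.ext (Category.id_comp _).symm

/-- Pullback squares with a monomorphism at the corner. -/
theorem isPullback_of_mono {A B C D W : Scheme.{u}} {fst : A ⟶ B} {snd : A ⟶ C} {u : B ⟶ W} {v : C ⟶ W}
    (m : W ⟶ D) [Mono m] (h : IsPullback fst snd (u ≫ m) (v ≫ m)) : IsPullback fst snd u v := by
  have w : fst ≫ u = snd ≫ v := by
    rw [← cancel_mono m, Category.assoc, Category.assoc]; exact h.w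
  refine IsPullback.of_isLimit' ⟨w⟩ (PullbackCone.IsLimit.mk _
    (fun s => h.lift s.fst s.snd (by rw [reassoc_of% s.condition])) (fun s => h.lift_fst _ _ _)
    (fun s => h.lift_snd _ _ _) fun s m₀ h1 h2 => h.hom_ext (h1.trans (h.lift_fst _ _ _).symm)
      (h2.trans (h.lift_snd _ _ _).symm))

/-- Bijectivity from a chart. -/
theorem bijective_chart {X₀ Y₀ : Scheme.{u}} (iX : X₀ ⟶ X) (iY : Y₀ ⟶ Y) [IsOpenImmersion iX] [IsOpenImmersion iY]
    (f₀ : X₀ ⟶ Y₀) (hf : f₀ ≫ iY = iX ≫ f) (hgood : Good f₀ (iY ≫ b) ((EtDesc.pullSh iX).obj F) U)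
    {R R' : Type u} [CommRing R] [CommRing R'] {ψ : R →+* R'} {η : Spec (CommRingCat.of R) ⟶ Y}
    (hsq : SqOk b U R R' ψ η) (hη : Set.range η ⊆ Set.range iY) {T T' : Scheme.{u}} {t : T ⟶ X}
    {τ : T ⟶ Spec (CommRingCat.of R)} (h : IsPullback t τ f η) {ρ : T' ⟶ T} {π' : T' ⟶ Spec (CommRingCat.of R')}
    (hρ : IsPullback ρ π' τ (Spec.map (CommRingCat.ofHom ψ))) :
    Function.Bijective ((G F).obj.map
      (openMap (Over.homMk ρ rfl : Over.mk (ρ ≫ t) ⟶ Over.mk t) iX).op) := by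
  let η₀ := IsOpenImmersion.lift iY η hη
  have hη₀ : η₀ ≫ iY = η := IsOpenImmersion.lift_fac _ _ hη
  have hsq₀ : SqOk (iY ≫ b) U R R' ψ η₀ := by
    obtain ⟨h1, h2, h3, h4, h5, hwe, S', Y', p, g, q', η', hp, hsquare, hη', hcomp⟩ := hsq
    haveI := hwe; haveI := hη'
    haveI : WeaklyEtale (η₀ ≫ iY) := hη₀.symm ▸ hwe
    let Y₀' := pullback g iY
    have hr : Set.range η' ⊆ Set.range (pullback.fst g iY) := by
      rw [Scheme.Pullback.range_fst]
      rintro _ ⟨x, rfl⟩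
      show g (η' x) ∈ Set.range iY
      rw [← Scheme.Hom.comp_apply, hcomp, Scheme.Hom.comp_apply]
      exact hη ⟨_, rfl⟩
    let η'' := IsOpenImmersion.lift (pullback.fst g iY) η' hr
    have hη'' : η'' ≫ pullback.fst g iY = η' := IsOpenImmersion.lift_fac _ _ hr
    haveI : WeaklyEtale (η'' ≫ pullback.fst g iY) := hη''.symm ▸ hη'
    refine ⟨h1, h2, h3, h4, h5, WeaklyEtale.of_comp η₀ iY, S', Y₀', p, pullback.snd g iY, pullback.fst g iY ≫ q', η'',
      hp, ?_, WeaklyEtale.of_comp η'' (pullback.fst g iY), ?_⟩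
    · exact (IsPullback.of_hasPullback g iY).flip.paste_vert hsquare.flip.flip
    · rw [← cancel_mono iY, Category.assoc, ← pullback.condition, ← Category.assoc, hη'', hcomp, Category.assoc, hη₀]
  let ρO : Over.mk (ρ ≫ t) ⟶ Over.mk t := Over.homMk ρ rfl
  have hb : IsPullback (pullback.snd t iX) (pullback.fst t iX ≫ τ) f₀ η₀ := by
    refine isPullback_of_mono iY ?_
    rw [hf, hη₀]
    exact (IsPullback.of_hasPullback t iX).flip.paste_vert h
  have hb' : IsPullback (zMap iX t (ρ ≫ t) ρ rfl) (pullback.fst (ρ ≫ t) iX ≫ π') (pullback.fst t iX ≫ τ)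
      (Spec.map (CommRingCat.ofHom ψ)) :=
    (isPullback_zMap iX t (ρ ≫ t) ρ rfl).paste_vert hρ
  let zm := zMap iX t (ρ ≫ t) ρ rfl
  let r₁ : Over.mk (zm ≫ pullback.snd t iX) ⟶ Over.mk (pullback.snd t iX) := Over.homMk zm rfl
  have key : Function.Bijective ((G F).obj.map ((Over.map iX).map r₁).op) :=
    (bijective_pull_iff iX F r₁).1 (hgood R R' ψ η₀ hsq₀ (pullback.snd t iX) _ hb zm _ hb')
  let ea : openPart (Over.mk (ρ ≫ t)) iX ≅ (Over.map iX).obj (Over.mk (zm ≫ pullback.snd t iX)) :=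
    Over.isoMk (Iso.refl _) (by
      show 𝟙 _ ≫ (zm ≫ pullback.snd t iX) ≫ iX = pullback.fst (ρ ≫ t) iX ≫ ρ ≫ t
      rw [Category.id_comp, zMap_snd, ← pullback.condition])
  let eb : openPart (Over.mk t) iX ≅ (Over.map iX).obj (Over.mk (pullback.snd t iX)) :=
    Over.isoMk (Iso.refl _) (by
      show 𝟙 _ ≫ pullback.snd t iX ≫ iX = pullback.fst t iX ≫ t
      rw [Category.id_comp, ← pullback.condition])
  exact bijective_map_of_square F _ ((Over.map iX).map r₁) ea eb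
    (Over.OverMorphism.ext ((Category.comp_id _).trans (Category.id_comp _).symm)) key

/-- Bijective restrictions are checked on charts. -/
theorem good_of_charts {B : Type u} (Yb : B → Scheme.{u}) (iY : ∀ β, Yb β ⟶ Y) [∀ β, IsOpenImmersion (iY β)]
    (hY : ∀ y : Y, b y ∈ U → ∃ β, y ∈ Set.range (iY β))
    (C : B → Type u) (Xc : ∀ β, C β → Scheme.{u}) (iX : ∀ β c, Xc β c ⟶ X) [∀ β c, IsOpenImmersion (iX β c)]
    (fc : ∀ β c, Xc β c ⟶ Yb β) (hfc : ∀ β c, fc β c ≫ iY β = iX β c ≫ f)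
    (hX : ∀ β (x : X), f x ∈ Set.range (iY β) → ∃ c, x ∈ Set.range (iX β c))
    (E : B → Type u) (Xe : ∀ β, E β → Scheme.{u}) (kX : ∀ β e, Xe β e ⟶ X) [∀ β e, IsOpenImmersion (kX β e)]
    (fe : ∀ β e, Xe β e ⟶ Yb β) (hfe : ∀ β e, fe β e ≫ iY β = kX β e ≫ f)
    (hover : ∀ β c d (x : X), x ∈ Set.range (iX β c) → x ∈ Set.range (iX β d) →
      ∃ e, x ∈ Set.range (kX β e) ∧ Set.range (kX β e) ⊆ Set.range (iX β c) ∩ Set.range (iX β d))
    (hgc : ∀ β c, Good (fc β c) (iY β ≫ b) ((EtDesc.pullSh (iX β c)).obj F) U)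
    (hge : ∀ β e, Good (fe β e) (iY β ≫ b) ((EtDesc.pullSh (kX β e)).obj F) U) : Good f b F U := by
  intro R R' _ _ ψ η hsq T T' t τ h ρ π' hρ
  haveI := hsq.1
  obtain ⟨β, hβ⟩ := hY (η (closedPoint R)) (hsq.mem _)
  have hη : Set.range η ⊆ Set.range (iY β) := by
    rintro _ ⟨x, rfl⟩
    exact ((IsLocalRing.specializes_closedPoint x).map η.continuous).mem_open (iY β).isOpenEmbedding.isOpen_range hβ
  have hcov : ∀ x : T, ∃ c, t x ∈ Set.range (iX β c) := fun x => hX β (t x) (by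
    rw [← Scheme.Hom.comp_apply, h.w, Scheme.Hom.comp_apply]
    exact hη ⟨_, rfl⟩)
  exact bijective_of_parts (T := Over.mk t) (T' := Over.mk (ρ ≫ t)) (Over.homMk ρ rfl) (Xc β) (iX β) hcov (Xe β) (kX β)
    (hover β) (fun c => bijective_chart (iX β c) (iY β) (fc β c) (hfc β c) (hgc β c) hsq hη h hρ)
    (fun e => (bijective_chart (kX β e) (iY β) (fe β e) (hfe β e) (hge β e) hsq hη h hρ).1)

/-- Data of strictly local schemes at a point and its image. -/
theorem exists_strict_data {Y Y' : Scheme.{u}} (g : Y' ⟶ Y) (y' : Y') :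
    ∃ (B : Type u) (_ : CommRing B) (j : Spec (CommRingCat.of B) ⟶ Y) (_ : IsOpenImmersion j)
      (K : Type u) (_ : Field K) (_ : IsSepClosed K) (_ : Algebra B K)
      (R : Type u) (_ : CommRing R) (_ : Algebra B R) (e₀ : L05.Henselization.Col B K ≃ₐ[B] R)
      (B' : Type u) (_ : CommRing B') (j' : Spec (CommRingCat.of B') ⟶ Y') (_ : IsOpenImmersion j')
      (K' : Type u) (_ : Field K') (_ : IsSepClosed K') (_ : Algebra B' K')
      (R' : Type u) (_ : CommRing R') (_ : Algebra B' R') (e₁ : L05.Henselization.Col B' K' ≃ₐ[B'] R')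
      (ψ : R →+* R') (_ : Spec.map (CommRingCat.ofHom ψ) ≫ toBase B R ≫ j = (toBase B' R' ≫ j') ≫ g)
      (ρ : Spec (CommRingCat.of K') ⟶ Spec (CommRingCat.of K)),
      QC.cpt B' K' R' e₁ ≫ Spec.map (CommRingCat.ofHom ψ) = ρ ≫ QC.cpt B K R e₀ ∧ bPt B' j' K' default = y' ∧
        HenselianLocalRing R ∧ HenselianLocalRing R' ∧ (∀ [IsLocalRing R], IsSepClosed (ResidueField R)) ∧
        (∀ [IsLocalRing R'], IsSepClosed (ResidueField R')) ∧ IsLocalHom ψ ∧
        WeaklyEtale (toBase B R ≫ j) ∧ WeaklyEtale (toBase B' R' ≫ j') := by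
  obtain ⟨U, hU, hyU⟩ : ∃ U : Y.Opens, IsAffineOpen U ∧ g.base y' ∈ U := by
    obtain ⟨_, ⟨U, hU, rfl⟩, hyU, -⟩ :=
      Y.isBasis_affineOpens.exists_subset_of_mem_open (Set.mem_univ (g.base y')) isOpen_univ
    exact ⟨U, hU, hyU⟩
  obtain ⟨U', hU', hyU'⟩ : ∃ U' : Y'.Opens, IsAffineOpen U' ∧ y' ∈ U' := by
    obtain ⟨_, ⟨U', hU', rfl⟩, hyU', -⟩ :=
      Y'.isBasis_affineOpens.exists_subset_of_mem_open (Set.mem_univ y') isOpen_univ
    exact ⟨U', hU', hyU'⟩
  let O := Y.presheaf.stalk (g.base y')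
  let O' := Y'.presheaf.stalk y'
  obtain ⟨RS, _, _, _, _, hRS⟩ := L05.Henselization.exists_isStrictHenselization O
  obtain ⟨RX, _, _, _, _, hRX⟩ := L05.Henselization.exists_isStrictHenselization O'
  haveI := hRS; haveI := hRX
  haveI := hRS.henselian
  haveI := hRX.henselian
  haveI : IsSepClosed (ResidueField RS) := hRS.isSepClosure.sep_closed
  haveI : IsSepClosed (ResidueField RX) := hRX.isSepClosure.sep_closed
  obtain ⟨ψr, _, hψr⟩ := L27.StalkBC.exists_strictMap g y' RS RX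
  letI : Algebra Γ(Y, U) O := (Y.presheaf.germ U (g.base y') hyU).hom.toAlgebra
  haveI : IsLocalization.AtPrime O (hU.primeIdealOf ⟨g.base y', hyU⟩).asIdeal :=
    hU.isLocalization_stalk ⟨g.base y', hyU⟩
  letI : Algebra Γ(Y, U) RS := ((algebraMap O RS).comp (Y.presheaf.germ U (g.base y') hyU).hom).toAlgebra
  haveI : IsScalarTower Γ(Y, U) O RS := IsScalarTower.of_algebraMap_eq' rfl
  obtain ⟨e₀, he₀⟩ := StalkRpush.exists_algEquiv Γ(Y, U) (hU.primeIdealOf ⟨g.base y', hyU⟩).asIdeal O RS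
  letI : Algebra Γ(Y', U') O' := (Y'.presheaf.germ U' y' hyU').hom.toAlgebra
  haveI : IsLocalization.AtPrime O' (hU'.primeIdealOf ⟨y', hyU'⟩).asIdeal := hU'.isLocalization_stalk ⟨y', hyU'⟩
  letI : Algebra Γ(Y', U') RX := ((algebraMap O' RX).comp (Y'.presheaf.germ U' y' hyU').hom).toAlgebra
  haveI : IsScalarTower Γ(Y', U') O' RX := IsScalarTower.of_algebraMap_eq' rfl
  obtain ⟨e₁, he₁⟩ := StalkRpush.exists_algEquiv Γ(Y', U') (hU'.primeIdealOf ⟨y', hyU'⟩).asIdeal O' RX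
  have hη : toBase Γ(Y, U) RS ≫ hU.fromSpec = Hens2.specOf Y (g.base y') RS := by
    show _ = Spec.map (CommRingCat.ofHom (algebraMap O RS)) ≫ Y.fromSpecStalk (g.base y')
    rw [← hU.fromSpecStalk_eq_fromSpecStalk hyU]
    symm
    show Spec.map (CommRingCat.ofHom (algebraMap O RS)) ≫ Spec.map (Y.presheaf.germ U (g.base y') hyU) ≫ hU.fromSpec = _
    rw [← Spec.map_comp_assoc]
    rfl
  have hη' : toBase Γ(Y', U') RX ≫ hU'.fromSpec = Hens2.specOf Y' y' RX := by
    show _ = Spec.map (CommRingCat.ofHom (algebraMap O' RX)) ≫ Y'.fromSpecStalk y'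
    rw [← hU'.fromSpecStalk_eq_fromSpecStalk hyU']
    symm
    show Spec.map (CommRingCat.ofHom (algebraMap O' RX)) ≫ Spec.map (Y'.presheaf.germ U' y' hyU') ≫ hU'.fromSpec = _
    rw [← Spec.map_comp_assoc]
    rfl
  have hc₀ : QC.cpt Γ(Y, U) (ResidueField RS) RS e₀ = Spec.map (CommRingCat.ofHom (residue RS)) := by
    refine congrArg (fun g => Spec.map (CommRingCat.ofHom g)) (RingHom.ext fun x => ?_)
    refine (DFunLike.congr_fun he₀ (e₀.symm x)).symm.trans ?_
    exact congrArg (residue RS) (e₀.apply_symm_apply x)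
  have hc₁ : QC.cpt Γ(Y', U') (ResidueField RX) RX e₁ = Spec.map (CommRingCat.ofHom (residue RX)) := by
    refine congrArg (fun g => Spec.map (CommRingCat.ofHom g)) (RingHom.ext fun x => ?_)
    refine (DFunLike.congr_fun he₁ (e₁.symm x)).symm.trans ?_
    exact congrArg (residue RX) (e₁.apply_symm_apply x)
  refine ⟨Γ(Y, U), inferInstance, hU.fromSpec, inferInstance, ResidueField RS, inferInstance, inferInstance, inferInstance,
    RS, inferInstance, inferInstance, e₀, Γ(Y', U'), inferInstance, hU'.fromSpec, inferInstance, ResidueField RX,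
    inferInstance, inferInstance, inferInstance, RX, inferInstance, inferInstance, e₁, ψr, ?_,
    Spec.map (CommRingCat.ofHom (ResidueField.map ψr)), ?_, ?_, inferInstance, inferInstance,
    inferInstance, inferInstance, inferInstance, ?_, ?_⟩
  · rw [hη, hη']
    exact L27.StalkBC.specOf_comp g y' RS RX ψr hψr
  · rw [hc₀, hc₁, ← Spec.map_comp, ← Spec.map_comp]
    rfl
  · have hb : bPt Γ(Y', U') hU'.fromSpec (ResidueField RX) =
        Spec.map (CommRingCat.ofHom (residue RX)) ≫ Hens2.specOf Y' y' RX := by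
      rw [← hη', ← hc₁, ← Category.assoc, QC.cpt_toBase]
    rw [hb, Scheme.Hom.comp_apply,
      show (Spec.map (CommRingCat.ofHom (residue RX))) default = closedPoint RX by
        rw [show (default : Spec (CommRingCat.of (ResidueField RX))) = closedPoint (ResidueField RX) from
          Subsingleton.elim _ _]
        exact IsLocalRing.comap_closedPoint (residue RX)]
    exact (Scheme.Hom.comp_apply _ _ _).trans ((congrArg (Y'.fromSpecStalk y')
      (IsLocalRing.comap_closedPoint (algebraMap O' RX))).trans Scheme.fromSpecStalk_closedPoint)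
  · rw [hη]; exact L27.Acyclic0.weaklyEtale_fromStrict (g.base y') RS
  · rw [hη']; exact L27.Acyclic0.weaklyEtale_fromStrict y' RX

/-- Cohomological propriety from bijective restrictions. -/
theorem isCohPropSet_of_good {X₀ Y₀ S₀ : Scheme.{u}} (f₀ : X₀ ⟶ Y₀) (q₀ : Y₀ ⟶ S₀) [QuasiCompact f₀]
    [QuasiSeparated f₀] (iX : X₀ ⟶ X) (iY : Y₀ ⟶ Y) [IsOpenImmersion iY] (iS : S₀ ⟶ S)
    (hX : IsPullback iX f₀ f iY) (hY : IsPullback iY q₀ b iS) (hS : ∀ x, iS x ∈ U) (hgood : Good f b F U) :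
    CohProp.IsCohPropSet q₀ f₀ ((EtDesc.pullSh iX).obj F) := by
  intro S' Y' X' p g q' h f'' hsquare sq
  refine EtSite.isIso_of_some_stalks _ fun y' => ?_
  obtain ⟨B, _, j, _, K, _, _, _, R, _, _, e₀, B', _, j', _, K', _, _, _, R', _, _, e₁, ψ, hψ, ρ, hρ, hy, h1, h2, h3,
    h4, h5, hwe, hwe'⟩ := exists_strict_data g y'
  haveI : QuasiCompact f'' := MorphismProperty.of_isPullback sq inferInstance
  haveI : QuasiSeparated f'' := MorphismProperty.of_isPullback sq inferInstance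
  haveI := hwe; haveI := hwe'
  refine ⟨K', inferInstance, inferInstance, _, hy, ?_⟩
  refine QC.bijective_stalk sq B j K R e₀ B' j' K' R' e₁ _ hψ ρ hρ ((EtDesc.pullSh iX).obj F) ?_ _ fun V s => ?_
  swap
  · rw [EtBC.baseChange0Sh, Equiv.apply_symm_apply, EtSite.BC.psi, ← EtSite.BC.swap_eq sq.w V]
    exact EtSite.BC.map_map_map (EtSite.BC.P h ((EtDesc.pullSh iX).obj F)).obj _ _ _ _
  let η₀ := toBase B R ≫ j
  let η' := toBase B' R' ≫ j'
  let σ := Spec.map (CommRingCat.ofHom ψ)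
  have hsq : SqOk b U R R' ψ (η₀ ≫ iY) :=
    ⟨h1, h2, h3, h4, h5, inferInstance, S', Y', p ≫ iS, g ≫ iY, q', η', fun x => by
      rw [Scheme.Hom.comp_apply]; exact hS _, hsquare.paste_horiz hY, hwe', by
      rw [← Category.assoc, ← Category.assoc σ]; exact congrArg (· ≫ iY) hψ.symm⟩
  let mm₀ := QC.mm sq B j R B' j' R' σ hψ
  have hT : IsPullback (pullback.fst f₀ η₀ ≫ iX) (pullback.snd f₀ η₀) f (η₀ ≫ iY) :=
    ((IsPullback.of_hasPullback f₀ η₀).flip.paste_vert hX.flip).flip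
  have hρ' : IsPullback mm₀.left (pullback.snd f'' η') (pullback.snd f₀ η₀) σ := by
    have e1 : mm₀.left ≫ pullback.fst f₀ η₀ = pullback.fst f'' η' ≫ h := pullback.lift_fst _ _ _
    have e2 : mm₀.left ≫ pullback.snd f₀ η₀ = pullback.snd f'' η' ≫ σ := pullback.lift_snd _ _ _
    refine IsPullback.of_right ?_ e2 (IsPullback.of_hasPullback f₀ η₀)
    rw [e1, hψ]
    exact (IsPullback.of_hasPullback f'' η').paste_horiz sq
  have key := hgood R R' ψ (η₀ ≫ iY) hsq _ _ hT mm₀.left _ hρ'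
  refine (bijective_pull_iff iX F mm₀).2 ?_
  let r₀ : Over.mk (mm₀.left ≫ pullback.fst f₀ η₀ ≫ iX) ⟶ Over.mk (pullback.fst f₀ η₀ ≫ iX) := Over.homMk mm₀.left rfl
  let eb : (Over.map iX).obj (QC.pl f₀ (𝟙 X₀) B j R) ≅ Over.mk (pullback.fst f₀ η₀ ≫ iX) :=
    Over.isoMk (Iso.refl _) (by
      show 𝟙 _ ≫ pullback.fst f₀ η₀ ≫ iX = (pullback.fst f₀ η₀ ≫ 𝟙 X₀) ≫ iX
      rw [Category.id_comp, Category.comp_id])
  let ea : (Over.map iX).obj (QC.pl f'' h B' j' R') ≅ Over.mk (mm₀.left ≫ pullback.fst f₀ η₀ ≫ iX) :=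
    Over.isoMk (Iso.refl _) (by
      show 𝟙 _ ≫ mm₀.left ≫ pullback.fst f₀ η₀ ≫ iX = (pullback.fst f'' η' ≫ h) ≫ iX
      rw [Category.id_comp, ← Category.assoc]
      exact congrArg (· ≫ iX) (pullback.lift_fst _ _ _))
  exact bijective_map_of_square F _ r₀ ea eb
    (Over.OverMorphism.ext ((Category.comp_id _).trans (Category.id_comp _).symm)) key

end Groth.L23.CohProp
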