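import Groth.Agent.L23.CohProp.Model
import Groth.Agent.L23.CohProp.Reduce

/-! # Covering by pieces over a dense open of the base -/

universe u v

open CategoryTheory CategoryTheory.Limits AlgebraicGeometry TopologicalSpace Topology

set_option autoImplicit false
set_option maxHeartbeats 800000
set_option maxSynthPendingDepth 3
set_option backward.isDefEq.respectTransparency.types false
set_option linter.style.haveILetI false
set_option linter.unusedSectionVars false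
set_option linter.unusedVariables false

noncomputable section

namespace Groth.L23.CohProp

open Groth.L27.BigSets
open Groth.L23.LocAcycSets (Basis)

variable {X Y S : Scheme.{u}} {f : X ⟶ Y} {b : Y ⟶ S}

/-- The data over a smaller open. -/
def Pre.mono {U U' : S.Opens} {U₀ : Over X} (P : Pre f b U U₀) (h : U' ≤ U) : Pre f b U' U₀ :=
  { P with
    hπ := prop_restrict_le (P := @IsProper) P.π (b.preimage_mono h) P.hπ
    split := P.split.mono h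
    hfin := fun t ht => P.hfin t (ht.mono h) }

/-- Sheaves with finite bases of sections at every point. -/
def HasBases {Θ : Type v} (Fs : Θ → EtDesc.Sh X) : Prop :=
  ∀ u : X, ∃ (U₀ : Over X) (v₀ : U₀.left), LocallyOfFiniteType U₀.hom ∧ LocallyQuasiFinite U₀.hom ∧ U₀.hom v₀ = u ∧
    ∀ θ, ∃ M : Type (u + 1), Finite M ∧ Nonempty (Basis (Fs θ) U₀ M)

variable (f b)

/-- Finitely many pieces cover a closed subset over a dense open. -/
def Covers₁ {Θ : Type v} (Fs : Θ → EtDesc.Sh X) {κ : Type u} (Zk : κ → Scheme.{u}) (qk : ∀ k, Zk k ⟶ X) (C : Set X) :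
    Prop :=
  ∃ (U : S.Opens), Dense (U : Set S) ∧ ∃ (ι : Type u) (_ : Finite ι) (U₀ : ι → Over X) (P : ∀ i, Pre f b U (U₀ i)),
    (∀ i θ, ∃ M : Type (u + 1), Finite M ∧ Nonempty (Basis (Fs θ) (U₀ i) M)) ∧
    (∀ x ∈ C, (f ≫ b) x ∈ U → ∃ i, ∃ z ∈ (P i).W, (P i).q z = x) ∧
    ∀ i k, Flat (pullback.fst ((P i).W.ι ≫ (P i).q) (qk k)) ∧
      LocallyOfFinitePresentation (pullback.fst ((P i).W.ι ≫ (P i).q) (qk k))

theorem covers₁_union {Θ : Type v} (Fs : Θ → EtDesc.Sh X) {κ : Type u} (Zk : κ → Scheme.{u}) (qk : ∀ k, Zk k ⟶ X)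
    {A B : Set X} (hA : Covers₁ f b Fs Zk qk A) (hB : Covers₁ f b Fs Zk qk B) :
    Covers₁ f b Fs Zk qk (A ∪ B) := by
  obtain ⟨U₁, h1, ι₁, _, V₁, P₁, hb₁, hc₁, hf₁⟩ := hA
  obtain ⟨U₂, h2, ι₂, _, V₂, P₂, hb₂, hc₂, hf₂⟩ := hB
  refine ⟨U₁ ⊓ U₂, h1.inter_of_isOpen_left h2 U₁.2, ι₁ ⊕ ι₂, inferInstance, Sum.elim V₁ V₂,
    fun i => i.casesOn (fun j => (P₁ j).mono inf_le_left) (fun j => (P₂ j).mono inf_le_right), ?_, ?_, ?_⟩
  · rintro (i | i)
    · exact hb₁ i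
    · exact hb₂ i
  · rintro x (hx | hx) hU
    · obtain ⟨i, z, hz⟩ := hc₁ x hx hU.1
      exact ⟨Sum.inl i, z, hz⟩
    · obtain ⟨i, z, hz⟩ := hc₂ x hx hU.2
      exact ⟨Sum.inr i, z, hz⟩
  · rintro (i | i)
    · exact hf₁ i
    · exact hf₂ i

theorem covers₁_mono_set {Θ : Type v} (Fs : Θ → EtDesc.Sh X) {κ : Type u} (Zk : κ → Scheme.{u}) (qk : ∀ k, Zk k ⟶ X)
    {A C : Set X} (h : C ⊆ A) (hA : Covers₁ f b Fs Zk qk A) : Covers₁ f b Fs Zk qk C := by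
  obtain ⟨U, h1, ι, hι, V, P, hb, hc, hf⟩ := hA
  exact ⟨U, h1, ι, hι, V, P, hb, fun x hx => hc x (h hx), hf⟩

/-- Pieces cover everything over a dense open. -/
theorem covers₁_of_hasBases [AlgebraicGeometry.IsNoetherian S] [IsAffine X] [IsAffine Y] [LocallyOfFiniteType f]
    [LocallyOfFiniteType b] {V : S.Opens} (hV : IsAffineOpen V) (hb : ∀ y, b y ∈ V) {Θ : Type v}
    (Fs : Θ → EtDesc.Sh X) (hbase : HasBases Fs) {κ : Type u} [Finite κ] (Zk : κ → Scheme.{u}) (qk : ∀ k, Zk k ⟶ X)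
    (hl : ∀ k, LocallyOfFiniteType (qk k)) (hc : ∀ k, QuasiCompact (qk k)) {C : Set X} (hC : IsClosed C) :
    Covers₁ f b Fs Zk qk C := by
  haveI : IsLocallyNoetherian Y := LocallyOfFiniteType.isLocallyNoetherian b
  haveI : IsLocallyNoetherian X := LocallyOfFiniteType.isLocallyNoetherian f
  haveI : AlgebraicGeometry.IsNoetherian X := { }
  refine Groth.L06.Constr.closed_induction (P := Covers₁ f b Fs Zk qk) ?_ ?_ (fun A B _ _ => covers₁_union f b Fs Zk qk) hC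
  · exact ⟨⊤, dense_univ, PEmpty, inferInstance, PEmpty.elim, fun i => i.elim, fun i => i.elim,
      fun x hx => hx.elim, fun i => i.elim⟩
  intro C hC hCirr ih
  let u₀ := hCirr.genericPoint
  have hu : closure ({u₀} : Set X) = C := hCirr.genericPoint_closure_eq.trans hC.closure_eq
  obtain ⟨U₀, v, h1, h2, hv, hM⟩ := hbase u₀
  obtain ⟨U₁, O, hU₁, hvO, hcase⟩ := exists_pre f b hV hb U₀ v Zk qk hl hc
  rw [hv] at hvO hcase
  obtain ⟨U₂, hU₂, ι, hι, V', P, hb', hc', hf'⟩ := ih (C \ O) (hC.sdiff O.2)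
    (Set.sdiff_subset.ssubset_of_ne fun he => ((Set.ext_iff.1 he u₀).2 (hu ▸ subset_closure rfl)).2 hvO)
  have hspec : ∀ x ∈ C, u₀ ⤳ x := fun x hx => specializes_iff_mem_closure.2 (hu.symm ▸ hx)
  rcases hcase with hnone | ⟨P₀, hcov, hflat⟩
  · refine ⟨U₁ ⊓ U₂, hU₁.inter_of_isOpen_left hU₂ U₁.2, ι, hι, V', fun i => (P i).mono inf_le_right, hb', ?_, hf'⟩
    intro x hx hxU
    exact hc' x ⟨hx, fun hO => hnone x hO (hspec x hx) hxU.1⟩ hxU.2
  · refine covers₁_mono_set f b Fs Zk qk (A := {x | x ∈ O ∧ u₀ ⤳ x} ∪ (C \ O))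
      (fun x hx => (em (x ∈ O)).elim (fun h => Or.inl ⟨h, hspec x hx⟩) fun h => Or.inr ⟨hx, h⟩)
      (covers₁_union f b Fs Zk qk ?_ ⟨U₂, hU₂, ι, hι, V', P, hb', hc', hf'⟩)
    refine ⟨U₁, hU₁, PUnit, inferInstance, fun _ => U₀, fun _ => P₀, fun _ => hM, ?_, fun _ => hflat⟩
    rintro x ⟨hxO, hx⟩ hxU
    exact ⟨⟨⟩, hcov x hxO hx hxU⟩

/-- Bijective restrictions over a dense open. -/
theorem exists_dense_open_good [AlgebraicGeometry.IsNoetherian S] [IsAffine X] [IsAffine Y] [LocallyOfFiniteType f]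
    [LocallyOfFiniteType b] {V : S.Opens} (hV : IsAffineOpen V) (hb : ∀ y, b y ∈ V) {Θ : Type v}
    (Fs : Θ → EtDesc.Sh X) (hbase : HasBases Fs) :
    ∃ U : S.Opens, Dense (U : Set S) ∧ ∀ θ, Good f b (Fs θ) U := by
  obtain ⟨U₁, hU₁, ι₁, _, V₁, P₁, hb₁, hc₁, -⟩ := covers₁_of_hasBases f b hV hb Fs hbase (κ := PEmpty.{u+1})
    PEmpty.elim (fun k => k.elim) (fun k => k.elim) (fun k => k.elim) isClosed_univ
  obtain ⟨U₂, hU₂, ι₂, _, V₂, P₂, hb₂, hc₂, hf₂⟩ := covers₁_of_hasBases f b hV hb Fs hbase (κ := ι₁)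
    (fun i => (P₁ i).Z) (fun i => (P₁ i).q) (fun i => (P₁ i).lft) (fun i => (P₁ i).qc) isClosed_univ
  refine ⟨U₁ ⊓ U₂, hU₁.inter_of_isOpen_left hU₂ U₁.2, fun θ => ?_⟩
  choose M₁ hM₁ hβ₁ using fun i => hb₁ i θ
  choose M₂ hM₂ hβ₂ using fun i => hb₂ i θ
  haveI := hM₁; haveI := hM₂
  refine good_of_pieces (fun i => ((P₁ i).mono inf_le_left).toPiece (hβ₁ i).some)
    (fun j => ((P₂ j).mono inf_le_right).toPiece (hβ₂ j).some) (fun x hx => ?_) (fun x hx => ?_) fun j i => hf₂ j i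
  · obtain ⟨i, z, hz, e⟩ := hc₁ x trivial hx.1
    exact ⟨i, ⟨z, hz⟩, e⟩
  · obtain ⟨i, z, hz, e⟩ := hc₂ x trivial hx.2
    exact ⟨i, ⟨z, hz⟩, e⟩

end Groth.L23.CohProp
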