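import Groth.Agent.L23.CohProp.Cover
import Groth.Agent.L19.Approx.IdealExt

/-! # Generic cohomological propriety for sheaves of sets -/

universe u v

open CategoryTheory CategoryTheory.Limits AlgebraicGeometry TopologicalSpace Topology

set_option autoImplicit false
set_option maxHeartbeats 800000
set_option maxSynthPendingDepth 3
set_option backward.isDefEq.respectTransparency.types false
set_option linter.style.haveILetI false
set_option linter.unusedSectionVars false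
set_option linter.unusedVariables false

noncomputable section

namespace Groth.L23.CohProp

open Groth.L27.BigSets
open Groth.L23.LocAcycSets (Basis)

/-- Dense opens for finitely many monotone conditions. -/
theorem exists_dense_forall {S : Scheme.{u}} {α : Type u} [Finite α] (P : α → S.Opens → Prop)
    (hmono : ∀ a U U', U' ≤ U → P a U → P a U') (h : ∀ a, ∃ U : S.Opens, Dense (U : Set S) ∧ P a U) :
    ∃ U : S.Opens, Dense (U : Set S) ∧ ∀ a, P a U := by
  classical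
  haveI := Fintype.ofFinite α
  choose U hd hP using h
  suffices ∀ s : Finset α, ∃ W : S.Opens, Dense (W : Set S) ∧ ∀ a ∈ s, W ≤ U a by
    obtain ⟨W, hW, hle⟩ := this Finset.univ
    exact ⟨W, hW, fun a => hmono a _ _ (hle a (Finset.mem_univ _)) (hP a)⟩
  intro s
  induction s using Finset.induction with
  | empty => exact ⟨⊤, dense_univ, fun a ha => by simp at ha⟩
  | insert a s ha ih =>
    obtain ⟨W, hW, hle⟩ := ih
    refine ⟨U a ⊓ W, (hd a).inter_of_isOpen_left hW (U a).2, fun c hc => ?_⟩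
    rcases Finset.mem_insert.1 hc with rfl | hc
    · exact inf_le_left
    · exact inf_le_right.trans (hle c hc)

/-- Bases of sections restrict to open parts. -/
theorem HasBases.pull {X X' : Scheme.{u}} {Θ : Type v} {Fs : Θ → EtDesc.Sh X} (h : HasBases Fs) (i : X' ⟶ X)
    [IsOpenImmersion i] : HasBases (fun θ => (EtDesc.pullSh i).obj (Fs θ)) := by
  intro x
  obtain ⟨U₀, v, hl, hq, hv, hM⟩ := h (i x)
  haveI := hl; haveI := hq
  obtain ⟨z, hz, -⟩ := Scheme.Pullback.exists_preimage_pullback (f := i) (g := U₀.hom) x v hv.symm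
  refine ⟨Over.mk (pullback.fst i U₀.hom), z, MorphismProperty.pullback_fst _ _ hl,
    MorphismProperty.pullback_fst _ _ hq, hz, fun θ => ?_⟩
  obtain ⟨M, hMf, ⟨β⟩⟩ := hM θ
  let m : (Over.map i).obj (Over.mk (pullback.fst i U₀.hom)) ⟶ U₀ :=
    Over.homMk (pullback.snd i U₀.hom) pullback.condition.symm
  exact ⟨M, hMf, ⟨Basis.toPull i (Fs θ) (Basis.pull (Fs θ) β m)⟩⟩

/-- Generic cohomological propriety for sheaves with finite bases of sections. -/
theorem exists_dense_open_isCohPropSet {X Y S : Scheme.{u}} [AlgebraicGeometry.IsNoetherian S] (f : X ⟶ Y) (b : Y ⟶ S)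
    [LocallyOfFiniteType f] [QuasiCompact f] [LocallyOfFiniteType b] [QuasiCompact b] {Θ : Type v}
    (Fs : Θ → EtDesc.Sh X) (hbase : HasBases Fs) :
    ∃ U : S.Opens, Dense (U : Set S) ∧ ∀ θ, Good f b (Fs θ) U ∧
      CohProp.IsCohPropSet (b ∣_ U) (f ∣_ b ⁻¹ᵁ U) ((EtDesc.pullSh (f ⁻¹ᵁ b ⁻¹ᵁ U).ι).obj (Fs θ)) := by
  classical
  haveI : CompactSpace Y := QuasiCompact.compactSpace_of_compactSpace b
  haveI : IsLocallyNoetherian Y := LocallyOfFiniteType.isLocallyNoetherian b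
  haveI : AlgebraicGeometry.IsNoetherian Y := { }
  haveI : CompactSpace X := QuasiCompact.compactSpace_of_compactSpace f
  haveI : IsLocallyNoetherian X := LocallyOfFiniteType.isLocallyNoetherian f
  haveI : AlgebraicGeometry.IsNoetherian X := { }
  obtain ⟨SV, hSV, hSVe⟩ := Groth.L19.Approx.exists_finite_affineOpens (show IsCompact ((⊤ : S.Opens) : Set S) from isCompact_univ)
  haveI := hSV.to_subtype
  have hY : ∀ m : SV, ∃ (s : Set Y.affineOpens), s.Finite ∧ b ⁻¹ᵁ m.1.1 = ⨆ W : s, W.1.1 := fun m =>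
    Groth.L19.Approx.exists_finite_affineOpens (NoetherianSpace.isCompact _)
  choose sY hsY hsYe using hY
  haveI := fun m => (hsY m).to_subtype
  let B : Type u := Σ m : SV, sY m
  let Wb : B → Y.Opens := fun β => β.2.1.1
  have hWb : ∀ β, IsAffineOpen (Wb β) := fun β => β.2.1.2
  have hWle : ∀ β : B, Wb β ≤ b ⁻¹ᵁ β.1.1.1 := fun β => by
    rw [hsYe β.1]
    exact le_iSup (fun W : sY β.1 => W.1.1) β.2
  have hX : ∀ β : B, ∃ (s : Set X.affineOpens), s.Finite ∧ f ⁻¹ᵁ Wb β = ⨆ W : s, W.1.1 := fun β =>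
    Groth.L19.Approx.exists_finite_affineOpens (NoetherianSpace.isCompact _)
  choose sX hsX hsXe using hX
  haveI := fun β => (hsX β).to_subtype
  have hE : ∀ (β : B) (c d : sX β), ∃ (s : Set X.affineOpens), s.Finite ∧ c.1.1 ⊓ d.1.1 = ⨆ W : s, W.1.1 := fun β c d =>
    Groth.L19.Approx.exists_finite_affineOpens (NoetherianSpace.isCompact _)
  choose sE hsE hsEe using hE
  haveI := fun β c d => (hsE β c d).to_subtype
  let E : B → Type u := fun β => Σ p : sX β × sX β, sE β p.1 p.2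
  let Xc : ∀ β, sX β → X.Opens := fun β c => c.1.1
  let Xe : ∀ β, E β → X.Opens := fun β e => e.2.1.1
  have hXc : ∀ β c, Xc β c ≤ f ⁻¹ᵁ Wb β := fun β c => by
    rw [hsXe β]
    exact le_iSup (fun W : sX β => W.1.1) c
  have hXe₀ : ∀ β (e : E β), Xe β e ≤ Xc β e.1.1 ⊓ Xc β e.1.2 := fun β e => by
    show _ ≤ e.1.1.1.1 ⊓ e.1.2.1.1
    rw [hsEe β e.1.1 e.1.2]
    exact le_iSup (fun W : sE β e.1.1 e.1.2 => W.1.1) e.2
  have hXe : ∀ β e, Xe β e ≤ f ⁻¹ᵁ Wb β := fun β e => ((hXe₀ β e).trans inf_le_left).trans (hXc β _)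
  let ch : ∀ (β : B) (O : X.Opens), O ≤ f ⁻¹ᵁ Wb β → (O.toScheme ⟶ (Wb β).toScheme) :=
    fun β O h => X.homOfLE h ≫ (f ∣_ Wb β)
  have hch : ∀ (β : B) (O : X.Opens) (h : O ≤ f ⁻¹ᵁ Wb β), ch β O h ≫ (Wb β).ι = O.ι ≫ f := fun β O h => by
    show (X.homOfLE h ≫ (f ∣_ Wb β)) ≫ (Wb β).ι = O.ι ≫ f
    rw [Category.assoc, morphismRestrict_ι, Scheme.homOfLE_ι_assoc]
  let α : Type u := Σ β : B, sX β ⊕ E β
  let op' : α → X.Opens := fun a => Sum.elim (Xc a.1) (Xe a.1) a.2
  have hop : ∀ a : α, op' a ≤ f ⁻¹ᵁ Wb a.1 := fun a => by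
    rcases a with ⟨β, c | e⟩
    · exact hXc β c
    · exact hXe β e
  have haff : ∀ a : α, IsAffineOpen (op' a) := fun a => by
    rcases a with ⟨β, c | e⟩
    · exact c.1.2
    · exact e.2.1.2
  obtain ⟨U, hU, hgood⟩ := exists_dense_forall (fun (a : α) (U : S.Opens) => ∀ θ,
      Good (ch a.1 (op' a) (hop a)) ((Wb a.1).ι ≫ b) ((EtDesc.pullSh (op' a).ι).obj (Fs θ)) U)
    (fun a U U' hle h θ => (h θ).mono hle) (fun a => by
      haveI : IsAffine (Wb a.1).toScheme := hWb a.1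
      haveI : IsAffine (op' a).toScheme := haff a
      haveI : LocallyOfFiniteType (ch a.1 (op' a) (hop a)) := by
        show LocallyOfFiniteType (X.homOfLE (hop a) ≫ (f ∣_ Wb a.1))
        infer_instance
      exact exists_dense_open_good _ _ a.1.1.1.2
        (fun y => by rw [Scheme.Hom.comp_apply]; exact hWle a.1 y.2) _ (hbase.pull (op' a).ι))
  refine ⟨U, hU, fun θ => ?_⟩
  have hG : Good f b (Fs θ) U := by
    refine good_of_charts (fun β : B => (Wb β).toScheme) (fun β => (Wb β).ι) ?_ (fun β => sX β)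
      (fun β c => (Xc β c).toScheme) (fun β c => (Xc β c).ι) (fun β c => ch β _ (hXc β c))
      (fun β c => hch β _ _) ?_ E (fun β e => (Xe β e).toScheme) (fun β e => (Xe β e).ι)
      (fun β e => ch β _ (hXe β e)) (fun β e => hch β _ _) ?_ (fun β c => hgood ⟨β, Sum.inl c⟩ θ)
      (fun β e => hgood ⟨β, Sum.inr e⟩ θ)
    · intro y _
      have h1 : b y ∈ (⊤ : S.Opens) := trivial
      rw [hSVe] at h1
      obtain ⟨m, hm⟩ := Opens.mem_iSup.1 h1
      have h2 : y ∈ b ⁻¹ᵁ m.1.1 := hm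
      rw [hsYe m] at h2
      obtain ⟨W, hW⟩ := Opens.mem_iSup.1 h2
      exact ⟨⟨m, W⟩, by rw [Scheme.Opens.range_ι]; exact hW⟩
    · intro β x hx
      rw [Scheme.Opens.range_ι] at hx
      have h2 : x ∈ f ⁻¹ᵁ Wb β := hx
      rw [hsXe β] at h2
      obtain ⟨c, hc⟩ := Opens.mem_iSup.1 h2
      exact ⟨c, by rw [Scheme.Opens.range_ι]; exact hc⟩
    · intro β c d x hxc hxd
      rw [Scheme.Opens.range_ι] at hxc hxd
      have h2 : x ∈ c.1.1 ⊓ d.1.1 := ⟨hxc, hxd⟩
      rw [hsEe β c d] at h2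
      obtain ⟨W, hW⟩ := Opens.mem_iSup.1 h2
      refine ⟨⟨(c, d), W⟩, by rw [Scheme.Opens.range_ι]; exact hW, ?_⟩
      rw [Scheme.Opens.range_ι, Scheme.Opens.range_ι, Scheme.Opens.range_ι]
      exact fun z hz => hXe₀ β ⟨(c, d), W⟩ hz
  refine ⟨hG, isCohPropSet_of_good (U := U) (f ∣_ b ⁻¹ᵁ U) (b ∣_ U) (f ⁻¹ᵁ b ⁻¹ᵁ U).ι (b ⁻¹ᵁ U).ι U.ι
    (isPullback_morphismRestrict f _).flip (isPullback_morphismRestrict b U).flip (fun x => x.2) hG⟩

end Groth.L23.CohProp
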