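import Groth.Agent.L23.CohProp.GeoSand
import Groth.Agent.L23.CohProp.Main

/-! # Sections on geometric fibres over strictly local schemes of a dense open -/

universe u v

open CategoryTheory CategoryTheory.Limits AlgebraicGeometry TopologicalSpace IsLocalRing Opposite Topology

set_option autoImplicit false
set_option maxHeartbeats 800000
set_option maxSynthPendingDepth 3
set_option backward.isDefEq.respectTransparency.types false
set_option linter.style.haveILetI false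
set_option linter.unusedSectionVars false
set_option linter.unusedVariables false

noncomputable section

namespace Groth.L23.CohProp

open Groth.L27.BigSets
open Groth.L23.Rigidity (bijective_map_of_square)
open Groth.L23.LocAcycSets (Basis)

variable {X Y S : Scheme.{u}}

/-- Sections over strictly local schemes over `U` are finitely many and agree with those on geometric fibres. -/
def Geo (f : X ⟶ Y) (b : Y ⟶ S) (F : EtDesc.Sh X) (U : S.Opens) : Prop :=
  ∀ (R : Type u) [CommRing R] [HenselianLocalRing R] [IsSepClosed (ResidueField R)] (η : Spec (CommRingCat.of R) ⟶ Y),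
    (∀ x, b (η x) ∈ U) → ∀ (Ω : Type u) [Field Ω] [IsAlgClosed Ω] (ψ : R →+* Ω) {T T' : Scheme.{u}} (t : T ⟶ X)
      (τ : T ⟶ Spec (CommRingCat.of R)), IsPullback t τ f η → ∀ (ρ : T' ⟶ T) (π' : T' ⟶ Spec (CommRingCat.of Ω)),
        IsPullback ρ π' τ (Spec.map (CommRingCat.ofHom ψ)) →
          Finite ((G F).obj.obj (op (Over.mk (ρ ≫ t)))) ∧
            Function.Bijective ((G F).obj.map (Over.homMk ρ rfl : Over.mk (ρ ≫ t) ⟶ Over.mk t).op)

theorem Geo.mono {f : X ⟶ Y} {b : Y ⟶ S} {F : EtDesc.Sh X} {U U' : S.Opens} (h : Geo f b F U) (hle : U' ≤ U) :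
    Geo f b F U' :=
  fun R _ _ _ η hη => h R η fun x => hle (hη x)

/-- Finitely many locally constant functions with finite values on a Noetherian space. -/
theorem finite_locallyConstant (T : Type u) [TopologicalSpace T] [NoetherianSpace T] (M : Type v) [Finite M] :
    Finite (LocallyConstant T M) := by
  classical
  haveI : Finite (irreducibleComponents T) := (NoetherianSpace.finite_irreducibleComponents (α := T)).to_subtype
  let pt : irreducibleComponents T → T := fun Z => (Z.2.1.nonempty).some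
  refine Finite.of_injective (fun c Z => c (pt Z)) fun c d h => LocallyConstant.ext fun x => ?_
  let Z : irreducibleComponents T := ⟨irreducibleComponent x, irreducibleComponent_mem_irreducibleComponents x⟩
  have hc : ∀ e : LocallyConstant T M, e x = e (pt Z) := fun e =>
    e.isLocallyConstant.apply_eq_of_isPreconnected isIrreducible_irreducibleComponent.isPreirreducible.isPreconnected
      mem_irreducibleComponent (Z.2.1.nonempty).some_mem
  rw [hc c, hc d]
  exact congrFun h Z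

variable {f : X ⟶ Y} {b : Y ⟶ S} {F : EtDesc.Sh X} {U : S.Opens}

/-- Pieces from models give the comparison with geometric fibres. -/
theorem geo_of_pre [Mono b] [LocallyOfFiniteType f] [QuasiCompact f] {ι κ : Type u} [Finite ι] {U₁ : ι → Over X}
    {U₂ : κ → Over X} (P : ∀ i, Pre f b U (U₁ i)) {M₁ : ι → Type (u + 1)} [∀ i, Finite (M₁ i)]
    (β₁ : ∀ i, Basis F (U₁ i) (M₁ i)) (P₂ : ∀ j, Pre f b U (U₂ j)) {M₂ : κ → Type (u + 1)} [∀ j, Finite (M₂ j)]
    (β₂ : ∀ j, Basis F (U₂ j) (M₂ j))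
    (hcov : ∀ x : X, (f ≫ b) x ∈ U → ∃ (i : ι) (w : (P i).W), (P i).q w.1 = x)
    (hcov₂ : ∀ x : X, (f ≫ b) x ∈ U → ∃ (j : κ) (w : (P₂ j).W), (P₂ j).q w.1 = x)
    (hflat : ∀ j i, Flat (pullback.fst ((P₂ j).W.ι ≫ (P₂ j).q) (P i).q) ∧
      LocallyOfFinitePresentation (pullback.fst ((P₂ j).W.ι ≫ (P₂ j).q) (P i).q)) : Geo f b F U := by
  intro R _ _ _ η hU Ω _ _ ψ T T' t τ h ρ π' hρ
  let σ := Spec.map (CommRingCat.ofHom ψ)
  let e : T ≅ pullback f η := h.isoPullback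
  have het : e.hom ≫ pullback.fst f η = t := h.isoPullback_hom_fst
  have heτ : e.hom ≫ pullback.snd f η = τ := h.isoPullback_hom_snd
  have hρ₁ : IsPullback (ρ ≫ e.hom) π' (pullback.snd f η) σ :=
    hρ.of_iso (Iso.refl _) e (Iso.refl _) (Iso.refl _) (by simp) (by simp) (by simp [heτ]) (by simp [σ])
  have hl : Lands (f ≫ b) U (Over.mk (pullback.fst f η)).hom := fun x => by
    show (f ≫ b) (pullback.fst f η x) ∈ U
    rw [← Scheme.Hom.comp_apply, ← Category.assoc, pullback.condition, Category.assoc, Scheme.Hom.comp_apply,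
      Scheme.Hom.comp_apply]
    exact hU _
  let Ps : ι → Piece f b F U := fun i => (P i).toPiece (β₁ i)
  let Ps₂ : κ → Piece f b F U := fun j => (P₂ j).toPiece (β₂ j)
  constructor
  · have htρ : IsPullback (ρ ≫ t) π' f (σ ≫ η) := hρ.paste_horiz h
    haveI : LocallyOfFiniteType π' := MorphismProperty.of_isPullback htρ inferInstance
    haveI : QuasiCompact π' := MorphismProperty.of_isPullback htρ inferInstance
    haveI : CompactSpace T' := QuasiCompact.compactSpace_of_compactSpace π'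
    have hl' : Lands (f ≫ b) U (Over.mk (ρ ≫ t)).hom := fun x => by
      show (f ≫ b) ((ρ ≫ t) x) ∈ U
      rw [← Scheme.Hom.comp_apply, ← Category.assoc, htρ.w, Category.assoc, Category.assoc, Scheme.Hom.comp_apply,
        Scheme.Hom.comp_apply, Scheme.Hom.comp_apply]
      exact hU _
    haveI : ∀ i, Finite (LocallyConstant ↥(pullback (Over.mk (ρ ≫ t)).hom (Ps i).q) (Ps i).M) := fun i => by
      haveI := (Ps i).finM
      haveI : IsFinite (pullback.fst (ρ ≫ t) (Ps i).q) := (Ps i).finite _ hl'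
      haveI : IsLocallyNoetherian T' := LocallyOfFiniteType.isLocallyNoetherian π'
      haveI : IsLocallyNoetherian (pullback (ρ ≫ t) (Ps i).q) :=
        LocallyOfFiniteType.isLocallyNoetherian (pullback.fst (ρ ≫ t) (Ps i).q)
      haveI : CompactSpace ↥(pullback (ρ ≫ t) (Ps i).q) :=
        QuasiCompact.compactSpace_of_compactSpace (pullback.fst (ρ ≫ t) (Ps i).q)
      haveI : AlgebraicGeometry.IsNoetherian (pullback (ρ ≫ t) (Ps i).q) := { }
      exact finite_locallyConstant ↥(pullback (ρ ≫ t) (Ps i).q) (Ps i).M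
    exact Finite.of_injective (fun x i => (Ps i).valT hl' x) fun x y hxy => eq_of_valT_eq Ps hcov hl' (congrFun hxy)
  let T'₁ : Over X := Over.mk ((ρ ≫ e.hom) ≫ pullback.fst f η)
  let ρ₁ : T'₁ ⟶ Over.mk (pullback.fst f η) := Over.homMk (ρ ≫ e.hom) rfl
  have key := bijective_map Ps hcov ρ₁ hl (hl.comp _) (fun i => ((P i).geoSand R η hU Ω ψ _ π' hρ₁).1 _) Ps₂ hcov₂
    hflat (fun j => ((P₂ j).geoSand R η hU Ω ψ _ π' hρ₁).2)
  refine bijective_map_of_square F _ ρ₁ (Over.isoMk (Iso.refl _) ?_) (Over.isoMk e ?_) ?_ key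
  · show 𝟙 T' ≫ (ρ ≫ e.hom) ≫ pullback.fst f η = ρ ≫ t
    rw [Category.id_comp, Category.assoc, het]
  · exact het
  · exact Over.OverMorphism.ext (Category.id_comp _).symm

/-- Comparison with geometric fibres over a dense open. -/
theorem exists_dense_open_geo [AlgebraicGeometry.IsNoetherian S] [IsAffine X] [IsAffine Y] [LocallyOfFiniteType f]
    [Mono b] [LocallyOfFiniteType b] {V : S.Opens} (hV : IsAffineOpen V) (hb : ∀ y, b y ∈ V) {Θ : Type v}
    (Fs : Θ → EtDesc.Sh X) (hbase : HasBases Fs) :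
    ∃ U : S.Opens, Dense (U : Set S) ∧ ∀ θ, Geo f b (Fs θ) U := by
  obtain ⟨U₁, hU₁, ι₁, _, V₁, P₁, hb₁, hc₁, -⟩ := covers₁_of_hasBases f b hV hb Fs hbase (κ := PEmpty.{u+1})
    PEmpty.elim (fun k => k.elim) (fun k => k.elim) (fun k => k.elim) isClosed_univ
  obtain ⟨U₂, hU₂, ι₂, _, V₂, P₂, hb₂, hc₂, hf₂⟩ := covers₁_of_hasBases f b hV hb Fs hbase (κ := ι₁)
    (fun i => (P₁ i).Z) (fun i => (P₁ i).q) (fun i => (P₁ i).lft) (fun i => (P₁ i).qc) isClosed_univ
  refine ⟨U₁ ⊓ U₂, hU₁.inter_of_isOpen_left hU₂ U₁.2, fun θ => ?_⟩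
  choose M₁ hM₁ hβ₁ using fun i => hb₁ i θ
  choose M₂ hM₂ hβ₂ using fun i => hb₂ i θ
  haveI := hM₁; haveI := hM₂
  refine geo_of_pre (fun i => (P₁ i).mono inf_le_left) (fun i => (hβ₁ i).some)
    (fun j => (P₂ j).mono inf_le_right) (fun j => (hβ₂ j).some) (fun x hx => ?_) (fun x hx => ?_) fun j i => hf₂ j i
  · obtain ⟨i, z, hz, e⟩ := hc₁ x trivial hx.1
    exact ⟨i, ⟨z, hz⟩, e⟩
  · obtain ⟨i, z, hz, e⟩ := hc₂ x trivial hx.2
    exact ⟨i, ⟨z, hz⟩, e⟩

/-- Comparison with geometric fibres from a chart. -/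
theorem geo_chart {X₀ Y₀ : Scheme.{u}} (iX : X₀ ⟶ X) (iY : Y₀ ⟶ Y) [IsOpenImmersion iX] [IsOpenImmersion iY]
    (f₀ : X₀ ⟶ Y₀) (hf : f₀ ≫ iY = iX ≫ f) (hgeo : Geo f₀ (iY ≫ b) ((EtDesc.pullSh iX).obj F) U)
    {R : Type u} [CommRing R] [HenselianLocalRing R] [IsSepClosed (ResidueField R)] {η : Spec (CommRingCat.of R) ⟶ Y}
    (hU : ∀ x, b (η x) ∈ U) (hη : Set.range η ⊆ Set.range iY) {Ω : Type u} [Field Ω] [IsAlgClosed Ω] {ψ : R →+* Ω}
    {T T' : Scheme.{u}} {t : T ⟶ X} {τ : T ⟶ Spec (CommRingCat.of R)} (h : IsPullback t τ f η) {ρ : T' ⟶ T}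
    {π' : T' ⟶ Spec (CommRingCat.of Ω)} (hρ : IsPullback ρ π' τ (Spec.map (CommRingCat.ofHom ψ))) :
    Finite ((G F).obj.obj (op (openPart (Over.mk (ρ ≫ t)) iX))) ∧
    Function.Bijective ((G F).obj.map
      (openMap (Over.homMk ρ rfl : Over.mk (ρ ≫ t) ⟶ Over.mk t) iX).op) := by
  let η₀ := IsOpenImmersion.lift iY η hη
  have hη₀ : η₀ ≫ iY = η := IsOpenImmersion.lift_fac _ _ hη
  have hU₀ : ∀ x, (iY ≫ b) (η₀ x) ∈ U := fun x => by
    rw [← Scheme.Hom.comp_apply, ← Category.assoc, hη₀, Scheme.Hom.comp_apply]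
    exact hU x
  have hb : IsPullback (pullback.snd t iX) (pullback.fst t iX ≫ τ) f₀ η₀ := by
    refine isPullback_of_mono iY ?_
    rw [hf, hη₀]
    exact (IsPullback.of_hasPullback t iX).flip.paste_vert h
  have hb' : IsPullback (zMap iX t (ρ ≫ t) ρ rfl) (pullback.fst (ρ ≫ t) iX ≫ π') (pullback.fst t iX ≫ τ)
      (Spec.map (CommRingCat.ofHom ψ)) :=
    (isPullback_zMap iX t (ρ ≫ t) ρ rfl).paste_vert hρ
  let zm := zMap iX t (ρ ≫ t) ρ rfl
  let r₁ : Over.mk (zm ≫ pullback.snd t iX) ⟶ Over.mk (pullback.snd t iX) := Over.homMk zm rfl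
  obtain ⟨hfin, hbij⟩ := hgeo R η₀ hU₀ Ω ψ (pullback.snd t iX) _ hb zm _ hb'
  let ea : openPart (Over.mk (ρ ≫ t)) iX ≅ (Over.map iX).obj (Over.mk (zm ≫ pullback.snd t iX)) :=
    Over.isoMk (Iso.refl _) (by
      show 𝟙 _ ≫ (zm ≫ pullback.snd t iX) ≫ iX = pullback.fst (ρ ≫ t) iX ≫ ρ ≫ t
      rw [Category.id_comp, zMap_snd, ← pullback.condition])
  let eb : openPart (Over.mk t) iX ≅ (Over.map iX).obj (Over.mk (pullback.snd t iX)) :=
    Over.isoMk (Iso.refl _) (by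
      show 𝟙 _ ≫ pullback.snd t iX ≫ iX = pullback.fst t iX ≫ t
      rw [Category.id_comp, ← pullback.condition])
  refine ⟨?_, bijective_map_of_square F _ ((Over.map iX).map r₁) ea eb
    (Over.OverMorphism.ext ((Category.comp_id _).trans (Category.id_comp _).symm))
    ((bijective_pull_iff iX F r₁).1 hbij)⟩
  haveI := hfin
  haveI := isIso_pullCmp iX F
  have h1 : Function.Bijective ((pullCmp iX F).hom.app (op (Over.mk (zm ≫ pullback.snd t iX)))) :=
    ConcreteCategory.bijective_of_isIso (((sheafToPresheaf _ _).map (pullCmp iX F)).app _)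
  haveI : Finite ((G F).obj.obj (op ((Over.map iX).obj (Over.mk (zm ≫ pullback.snd t iX))))) :=
    Finite.of_equiv _ (Equiv.ofBijective _ h1)
  exact Finite.of_equiv _ (((G F).obj.mapIso ea.op).toEquiv)

/-- Comparison with geometric fibres on a dense open of the base. -/
theorem exists_dense_open_geo_id [AlgebraicGeometry.IsNoetherian S] (f : X ⟶ S) [LocallyOfFiniteType f]
    [QuasiCompact f] {Θ : Type v} (Fs : Θ → EtDesc.Sh X) (hbase : HasBases Fs) :
    ∃ U : S.Opens, Dense (U : Set S) ∧ ∀ θ, Geo f (𝟙 S) (Fs θ) U := by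
  classical
  haveI : CompactSpace X := QuasiCompact.compactSpace_of_compactSpace f
  haveI : IsLocallyNoetherian X := LocallyOfFiniteType.isLocallyNoetherian f
  haveI : AlgebraicGeometry.IsNoetherian X := { }
  obtain ⟨SV, hSV, hSVe⟩ :=
    Groth.L19.Approx.exists_finite_affineOpens (show IsCompact ((⊤ : S.Opens) : Set S) from isCompact_univ)
  haveI := hSV.to_subtype
  have hX : ∀ β : SV, ∃ (s : Set X.affineOpens), s.Finite ∧ f ⁻¹ᵁ β.1.1 = ⨆ W : s, W.1.1 := fun β =>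
    Groth.L19.Approx.exists_finite_affineOpens (NoetherianSpace.isCompact _)
  choose sX hsX hsXe using hX
  haveI := fun β => (hsX β).to_subtype
  have hE : ∀ (β : SV) (c d : sX β), ∃ (s : Set X.affineOpens), s.Finite ∧ c.1.1 ⊓ d.1.1 = ⨆ W : s, W.1.1 :=
    fun β c d => Groth.L19.Approx.exists_finite_affineOpens (NoetherianSpace.isCompact _)
  choose sE hsE hsEe using hE
  haveI := fun β c d => (hsE β c d).to_subtype
  let E : SV → Type u := fun β => Σ p : sX β × sX β, sE β p.1 p.2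
  let Xc : ∀ β, sX β → X.Opens := fun β c => c.1.1
  let Xe : ∀ β, E β → X.Opens := fun β e => e.2.1.1
  have hXc : ∀ β c, Xc β c ≤ f ⁻¹ᵁ β.1.1 := fun β c => by
    rw [hsXe β]
    exact le_iSup (fun W : sX β => W.1.1) c
  have hXe₀ : ∀ β (e : E β), Xe β e ≤ Xc β e.1.1 ⊓ Xc β e.1.2 := fun β e => by
    show _ ≤ e.1.1.1.1 ⊓ e.1.2.1.1
    rw [hsEe β e.1.1 e.1.2]
    exact le_iSup (fun W : sE β e.1.1 e.1.2 => W.1.1) e.2
  have hXe : ∀ β e, Xe β e ≤ f ⁻¹ᵁ β.1.1 := fun β e => ((hXe₀ β e).trans inf_le_left).trans (hXc β _)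
  let ch : ∀ (β : SV) (O : X.Opens), O ≤ f ⁻¹ᵁ β.1.1 → (O.toScheme ⟶ β.1.1.toScheme) :=
    fun β O h => X.homOfLE h ≫ (f ∣_ β.1.1)
  have hch : ∀ (β : SV) (O : X.Opens) (h : O ≤ f ⁻¹ᵁ β.1.1), ch β O h ≫ β.1.1.ι = O.ι ≫ f := fun β O h => by
    show (X.homOfLE h ≫ (f ∣_ β.1.1)) ≫ β.1.1.ι = O.ι ≫ f
    rw [Category.assoc, morphismRestrict_ι, Scheme.homOfLE_ι_assoc]
  let α : Type u := Σ β : SV, sX β ⊕ E β
  let op' : α → X.Opens := fun a => Sum.elim (Xc a.1) (Xe a.1) a.2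
  have hop : ∀ a : α, op' a ≤ f ⁻¹ᵁ a.1.1.1 := fun a => by
    rcases a with ⟨β, c | e⟩
    · exact hXc β c
    · exact hXe β e
  have haff : ∀ a : α, IsAffineOpen (op' a) := fun a => by
    rcases a with ⟨β, c | e⟩
    · exact c.1.2
    · exact e.2.1.2
  obtain ⟨U, hU, hgood⟩ := exists_dense_forall (fun (a : α) (U : S.Opens) => ∀ θ,
      Geo (ch a.1 (op' a) (hop a)) (a.1.1.1.ι ≫ 𝟙 S) ((EtDesc.pullSh (op' a).ι).obj (Fs θ)) U)
    (fun a U U' hle h θ => (h θ).mono hle) (fun a => by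
      haveI : IsAffine a.1.1.1.toScheme := a.1.1.2
      haveI : IsAffine (op' a).toScheme := haff a
      haveI : LocallyOfFiniteType (ch a.1 (op' a) (hop a)) := by
        show LocallyOfFiniteType (X.homOfLE (hop a) ≫ (f ∣_ a.1.1.1))
        infer_instance
      exact exists_dense_open_geo a.1.1.2 (fun (y : a.1.1.1.toScheme) => by rw [Category.comp_id]; exact y.2) _ (hbase.pull (op' a).ι))
  refine ⟨U, hU, fun θ => ?_⟩
  intro R _ _ _ η hη Ω _ _ ψ T T' t τ h ρ π' hρ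
  have h1 : η (closedPoint R) ∈ (⊤ : S.Opens) := trivial
  rw [hSVe] at h1
  obtain ⟨β, hβ⟩ := Opens.mem_iSup.1 h1
  have hr : Set.range η ⊆ Set.range β.1.1.ι := by
    rw [Scheme.Opens.range_ι]
    rintro _ ⟨x, rfl⟩
    exact ((IsLocalRing.specializes_closedPoint x).map η.continuous).mem_open β.1.1.2 hβ
  have hcov : ∀ x : T, ∃ c, t x ∈ Set.range (Xc β c).ι := fun x => by
    have h2 : t x ∈ f ⁻¹ᵁ β.1.1 := by
      show f (t x) ∈ β.1.1
      rw [← Scheme.Hom.comp_apply, h.w, Scheme.Hom.comp_apply]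
      have := hr ⟨τ x, rfl⟩
      rwa [Scheme.Opens.range_ι] at this
    rw [hsXe β] at h2
    obtain ⟨c, hc⟩ := Opens.mem_iSup.1 h2
    exact ⟨c, by rw [Scheme.Opens.range_ι]; exact hc⟩
  have hover : ∀ c d (x : X), x ∈ Set.range (Xc β c).ι → x ∈ Set.range (Xc β d).ι →
      ∃ e, x ∈ Set.range (Xe β e).ι ∧ Set.range (Xe β e).ι ⊆ Set.range (Xc β c).ι ∩ Set.range (Xc β d).ι := by
    intro c d x hxc hxd
    rw [Scheme.Opens.range_ι] at hxc hxd
    have h2 : x ∈ c.1.1 ⊓ d.1.1 := ⟨hxc, hxd⟩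
    rw [hsEe β c d] at h2
    obtain ⟨W, hW⟩ := Opens.mem_iSup.1 h2
    refine ⟨⟨(c, d), W⟩, by rw [Scheme.Opens.range_ι]; exact hW, ?_⟩
    rw [Scheme.Opens.range_ι, Scheme.Opens.range_ι, Scheme.Opens.range_ι]
    exact fun z hz => hXe₀ β ⟨(c, d), W⟩ hz
  have hC := fun c => geo_chart (Xc β c).ι β.1.1.ι (ch β _ (hXc β c)) (hch β _ _) (hgood ⟨β, Sum.inl c⟩ θ) hη hr h hρ
  have hEe := fun e => geo_chart (Xe β e).ι β.1.1.ι (ch β _ (hXe β e)) (hch β _ _) (hgood ⟨β, Sum.inr e⟩ θ) hη hr h hρ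
  refine ⟨?_, bijective_of_parts (T := Over.mk t) (T' := Over.mk (ρ ≫ t)) (Over.homMk ρ rfl)
    (fun c => (Xc β c).toScheme) (fun c => (Xc β c).ι) hcov (fun e => (Xe β e).toScheme) (fun e => (Xe β e).ι)
    hover (fun c => (hC c).2) fun e => (hEe e).2.1⟩
  haveI := fun c => (hC c).1
  have hcov' : ∀ x : T', ∃ c, (ρ ≫ t) x ∈ Set.range (Xc β c).ι := fun x => by
    rw [Scheme.Hom.comp_apply]; exact hcov _
  exact Finite.of_injective (fun x c => (G (Fs θ)).obj.map (openIncl (Over.mk (ρ ≫ t)) (Xc β c).ι).op x)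
    fun x y hxy => eqNear_of_parts (T := Over.mk (ρ ≫ t)) (fun c => (Xc β c).toScheme) (fun c => (Xc β c).ι) hcov'
      (fun _ => True) (𝟙 _) x y (congrFun hxy)

end Groth.L23.CohProp
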