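import Groth.Agent.L23.CohProp.TopExt
import Groth.Agent.L27.HenselProperGen
import Groth.Agent.L27.SGA1.FieldFibres
import Groth.Agent.L23.Rigidity.BaseChange

/-! # Locally constant functions on proper schemes over strictly henselian rings -/

universe u v

open CategoryTheory CategoryTheory.Limits AlgebraicGeometry TopologicalSpace IsLocalRing

set_option autoImplicit false
set_option maxHeartbeats 800000
set_option maxSynthPendingDepth 3
set_option backward.isDefEq.respectTransparency.types false
set_option linter.style.haveILetI false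
set_option linter.unusedSectionVars false
set_option linter.unusedVariables false

noncomputable section

namespace Groth.L23.CohProp

/-- Pullback of locally constant functions along a morphism of schemes. -/
def lcMap {A B : Scheme.{u}} (θ : A ⟶ B) {M : Type v} (c : LocallyConstant B M) : LocallyConstant A M :=
  c.comap ⟨⇑θ, θ.continuous⟩

@[simp] theorem lcMap_apply {A B : Scheme.{u}} (θ : A ⟶ B) {M : Type v} (c : LocallyConstant B M) (x : A) :
    lcMap θ c x = c (θ x) := rfl

theorem lcMap_comp {A B C : Scheme.{u}} (θ : A ⟶ B) (φ : B ⟶ C) {M : Type v} (c : LocallyConstant C M) :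
    lcMap θ (lcMap φ c) = lcMap (θ ≫ φ) c :=
  LocallyConstant.ext fun x => (congrArg c (Scheme.Hom.comp_apply θ φ x)).symm

/-- Bijectivity on clopens gives bijectivity on locally constant functions. -/
theorem bijective_lcMap_of_clopen {A B : Scheme.{u}} (θ : A ⟶ B) [CompactSpace A]
    (hinj : ∀ U V : Set B, IsClopen U → IsClopen V → θ ⁻¹' U = θ ⁻¹' V → U = V)
    (hsurj : ∀ V : Set A, IsClopen V → ∃ U : Set B, IsClopen U ∧ θ ⁻¹' U = V) (M : Type v) :
    Function.Bijective (lcMap θ : LocallyConstant B M → LocallyConstant A M) := by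
  classical
  refine ⟨fun c d h => LocallyConstant.ext fun x => ?_, fun c' => ?_⟩
  · have e := hinj (c ⁻¹' {c x}) (d ⁻¹' {c x}) (c.isLocallyConstant.isClopen_fiber _)
      (d.isLocallyConstant.isClopen_fiber _) (Set.ext fun y => by
        have := DFunLike.congr_fun h y
        simp only [lcMap_apply] at this
        simp [this])
    exact ((Set.ext_iff.1 e x).1 rfl).symm
  choose U hU hUe using fun a : M => hsurj (c' ⁻¹' {a}) (c'.isLocallyConstant.isClopen_fiber a)
  have hfin : (Set.range c').Finite := c'.range_finite
  have hdis : ∀ a b x, x ∈ U a → x ∈ U b → a = b := fun a b x ha hb => by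
    by_contra hab
    have h0 : θ ⁻¹' (U a ∩ U b) = θ ⁻¹' (∅ : Set B) := by
      rw [Set.preimage_inter, hUe, hUe, Set.preimage_empty, ← Set.preimage_inter]
      simp [hab]
    exact (Set.ext_iff.1 (hinj _ _ ((hU a).inter (hU b)) isClopen_empty h0) x).1 ⟨ha, hb⟩
  have hcov : ∀ x, ∃ a, x ∈ U a := fun x => by
    have h0 : θ ⁻¹' (⋃ a ∈ Set.range c', U a) = θ ⁻¹' (Set.univ : Set B) := by
      refine Set.Subset.antisymm (fun _ _ => trivial) fun y _ => ?_
      exact Set.mem_biUnion ⟨y, rfl⟩ (show y ∈ θ ⁻¹' U (c' y) by rw [hUe]; rfl)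
    have := (Set.ext_iff.1 (hinj _ _ (hfin.isClopen_biUnion fun a _ => hU a) isClopen_univ h0) x).2 trivial
    obtain ⟨a, -, ha⟩ := Set.mem_iUnion₂.1 this
    exact ⟨a, ha⟩
  choose g hg using hcov
  have hlc : IsLocallyConstant g := (IsLocallyConstant.iff_exists_open g).2 fun x =>
    ⟨U (g x), (hU _).2, hg x, fun y hy => hdis _ _ y (hg y) hy⟩
  refine ⟨⟨g, hlc⟩, LocallyConstant.ext fun y => ?_⟩
  exact hdis _ _ (θ y) (hg (θ y)) (show y ∈ θ ⁻¹' U (c' y) by rw [hUe]; rfl)

/-- Quotient maps with connected fibres do not change locally constant functions. -/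
theorem bijective_lcMap_of_quotient {A B : Scheme.{u}} (θ : A ⟶ B) (hq : Topology.IsQuotientMap ⇑θ)
    (hc : ∀ b : B, _root_.IsPreconnected (θ ⁻¹' {b})) (M : Type v) :
    Function.Bijective (lcMap θ : LocallyConstant B M → LocallyConstant A M) := by
  refine ⟨fun c d h => LocallyConstant.ext fun x => ?_, fun c' => ?_⟩
  · obtain ⟨y, rfl⟩ := hq.surjective x
    exact DFunLike.congr_fun h y
  let g : B → M := fun b => c' (hq.surjective b).choose
  have hg : ∀ y, g (θ y) = c' y := fun y =>
    c'.isLocallyConstant.apply_eq_of_isPreconnected (hc (θ y)) (hq.surjective (θ y)).choose_spec rfl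
  have hlc : IsLocallyConstant g := fun s => by
    rw [← hq.isOpen_preimage]
    have : θ ⁻¹' (g ⁻¹' s) = c' ⁻¹' s := Set.ext fun y => by simp [hg]
    rw [this]
    exact c'.isLocallyConstant s
  exact ⟨⟨g, hlc⟩, LocallyConstant.ext hg⟩

/-- Locally constant functions on a proper scheme over a henselian local ring and on its closed fibre. -/
theorem bijective_lcMap_closedFibre {R : Type u} [CommRing R] [HenselianLocalRing R]
    {N : Scheme.{u}} (f : N ⟶ Spec (CommRingCat.of R)) [IsProper f] (M : Type v) :
    Function.Bijective (lcMap (pullback.fst f (Spec.map (CommRingCat.ofHom (residue R)))) :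
      LocallyConstant N M → _) := by
  haveI : HenselianRing R (maximalIdeal R) := inferInstance
  haveI : IsClosedImmersion (Spec.map (CommRingCat.ofHom (residue R))) :=
    IsClosedImmersion.spec_of_surjective _ residue_surjective
  haveI : CompactSpace N := QuasiCompact.compactSpace_of_compactSpace f
  haveI : CompactSpace ↥(pullback f (Spec.map (CommRingCat.ofHom (residue R)))) :=
    QuasiCompact.compactSpace_of_compactSpace (pullback.fst f (Spec.map (CommRingCat.ofHom (residue R))))
  refine bijective_lcMap_of_clopen _ (fun U V hU hV e => ?_) (fun V hV => ?_) M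
  · exact (L27.HenselProper.clopen_lift_general (maximalIdeal R) f _
      (hU.preimage (pullback.fst f (Spec.map (CommRingCat.ofHom (residue R)))).continuous)).unique ⟨hU, rfl⟩ ⟨hV, e.symm⟩
  · obtain ⟨U, hU, -⟩ := L27.HenselProper.clopen_lift_general (maximalIdeal R) f V hV
    exact ⟨U, hU⟩

/-- Locally constant functions after an extension of a separably closed base field. -/
theorem bijective_lcMap_field {k K : Type u} [Field k] [IsSepClosed k] [Field K] [Algebra k K]
    {N : Scheme.{u}} (a : N ⟶ Spec (CommRingCat.of k)) (M : Type v) :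
    Function.Bijective (lcMap (pullback.fst a (Spec.map (CommRingCat.ofHom (algebraMap k K)))) :
      LocallyConstant N M → _) := by
  let θ := pullback.fst a (Spec.map (CommRingCat.ofHom (algebraMap k K)))
  refine bijective_lcMap_of_quotient θ ?_ (fun b => ?_) M
  · exact (L27.SGA1Conn.univSubmersive_fieldExt (K := K) a) _ _ θ (IsPullback.of_id_snd (f := θ))
  · let L := AlgebraicClosure (N.residueField b)
    let s : Spec (CommRingCat.of L) ⟶ N :=
      Spec.map (CommRingCat.ofHom (algebraMap (N.residueField b) L)) ≫ N.fromSpecResidueField b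
    haveI : ConnectedSpace ↥(pullback θ s) := L27.SGA1Conn.connectedSpace_fibre a s
    have hs : Set.range s = {b} := by
      rw [Set.range_eq_iff]
      refine ⟨fun z => ?_, fun c hc => ⟨default, ?_⟩⟩
      · show _ ∈ ({b} : Set N)
        rw [Scheme.Hom.comp_apply]
        exact N.fromSpecResidueField_apply b _
      · rw [Set.mem_singleton_iff.1 hc, Scheme.Hom.comp_apply]
        exact N.fromSpecResidueField_apply b _
    have e : θ ⁻¹' {b} = Set.range (pullback.fst θ s) := by rw [Scheme.Pullback.range_fst, hs]
    rw [e, ← Set.image_univ]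
    exact isPreconnected_univ.image _ (pullback.fst θ s).continuous.continuousOn

/-- Locally constant functions on proper schemes do not change along local maps of strictly henselian rings. -/
theorem bijective_lcMap_strictLocal {R R' : Type u} [CommRing R] [HenselianLocalRing R]
    [IsSepClosed (ResidueField R)] [CommRing R'] [HenselianLocalRing R']
    (ψ : R →+* R') [IsLocalHom ψ] {N N' : Scheme.{u}} (π : N ⟶ Spec (CommRingCat.of R)) [IsProper π]
    (π' : N' ⟶ Spec (CommRingCat.of R')) (ρ : N' ⟶ N)
    (h : IsPullback ρ π' π (Spec.map (CommRingCat.ofHom ψ))) (M : Type v) :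
    Function.Bijective (lcMap ρ : LocallyConstant N M → LocallyConstant N' M) := by
  haveI : IsProper π' := MorphismProperty.of_isPullback h inferInstance
  let c := Spec.map (CommRingCat.ofHom (residue R))
  let c' := Spec.map (CommRingCat.ofHom (residue R'))
  let p := Spec.map (CommRingCat.ofHom ψ)
  letI : Algebra (ResidueField R) (ResidueField R') := (ResidueField.map ψ).toAlgebra
  let τ := Spec.map (CommRingCat.ofHom (algebraMap (ResidueField R) (ResidueField R')))
  have hw : τ ≫ c = c' ≫ p := by
    simp only [τ, c, c', p, ← Spec.map_comp]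
    congr 1
  let A := pullback π c
  let A' := pullback π' c'
  let θ := pullback.fst (pullback.snd π c) τ
  let m : A' ⟶ pullback (pullback.snd π c) τ := pullback.lift
    (pullback.lift (pullback.fst π' c' ≫ ρ) (pullback.snd π' c' ≫ τ) (by
      rw [Category.assoc, h.w, ← Category.assoc, pullback.condition, Category.assoc, Category.assoc, hw]))
    (pullback.snd π' c') (by rw [pullback.lift_snd])
  have hm : IsIso m := by
    have h1 : IsPullback (θ ≫ pullback.fst π c) (pullback.snd (pullback.snd π c) τ) π (c' ≫ p) := by
      rw [← hw]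
      exact (IsPullback.of_hasPullback _ _).paste_horiz (IsPullback.of_hasPullback π c)
    have h2 : IsPullback (pullback.fst π' c' ≫ ρ) (pullback.snd π' c') π (c' ≫ p) :=
      (IsPullback.of_hasPullback π' c').paste_horiz h
    rw [show m = (h2.isoIsPullback _ _ h1).hom from h1.hom_ext ?_ ?_]
    · infer_instance
    · rw [IsPullback.isoIsPullback_hom_fst, ← Category.assoc, pullback.lift_fst, pullback.lift_fst]
    · rw [IsPullback.isoIsPullback_hom_snd, pullback.lift_snd]
  have hmb : Function.Bijective (lcMap m : LocallyConstant _ M → LocallyConstant A' M) := by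
    refine Function.bijective_iff_has_inverse.2 ⟨lcMap (inv m), fun x => ?_, fun x => ?_⟩
    · rw [lcMap_comp, IsIso.inv_hom_id]; rfl
    · rw [lcMap_comp, IsIso.hom_inv_id]; rfl
  have h3 := bijective_lcMap_field (K := ResidueField R') (pullback.snd π c) M
  have hsq : (lcMap (pullback.fst π' c') ∘ lcMap ρ : LocallyConstant N M → LocallyConstant A' M) =
      lcMap m ∘ lcMap θ ∘ lcMap (pullback.fst π c) := funext fun x => by
    simp only [Function.comp_apply, lcMap_comp]
    refine congrArg (fun k => lcMap k x) ?_
    rw [show m ≫ θ ≫ pullback.fst π c = (m ≫ θ) ≫ pullback.fst π c from (Category.assoc _ _ _).symm,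
      show m ≫ θ = _ from pullback.lift_fst _ _ _, pullback.lift_fst]
  refine (Function.Bijective.of_comp_iff' (bijective_lcMap_closedFibre π' M) (lcMap ρ)).1 ?_
  rw [hsq]
  exact hmb.comp (h3.comp (bijective_lcMap_closedFibre π M))

end Groth.L23.CohProp
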