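import Groth.Agent.L23.CohProp.Milnor
import Groth.Agent.L23.CohProp.Proper
import Groth.Agent.L27.StalkBC.Criterion

/-! # Connected components of geometric fibres of proper flat schemes over strictly henselian rings -/

universe u v

open CategoryTheory CategoryTheory.Limits AlgebraicGeometry TopologicalSpace IsLocalRing

set_option autoImplicit false
set_option maxHeartbeats 800000
set_option maxSynthPendingDepth 3
set_option backward.isDefEq.respectTransparency.types false
set_option linter.style.haveILetI false
set_option linter.unusedSectionVars false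

noncomputable section

namespace Groth.L23.CohProp

/-- Locally constant functions do not change along a map which, over each point of a closed subscheme seeing all
locally constant functions, has connected preimage of the set of generisations. -/
theorem bijective_lcMap_of_generations {P Q A : Scheme.{u}} (θ : P ⟶ Q) (i : A ⟶ Q) [IsClosedImmersion i]
    [CompactSpace P] [QuasiSeparatedSpace P] [CompactSpace Q] [QuasiSeparatedSpace Q] (M : Type v)
    (hi : Function.Bijective (lcMap i : LocallyConstant Q M → LocallyConstant A M))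
    (hspec : ∀ q : Q, ∃ x : A, q ⤳ i x)
    (hconn : ∀ x : A, _root_.IsConnected (θ ⁻¹' {d | d ⤳ i x})) :
    Function.Bijective (lcMap θ : LocallyConstant Q M → LocallyConstant P M) := by
  haveI : SpectralSpace P := {}
  haveI : SpectralSpace Q := {}
  haveI : QuasiCompact θ := quasiCompact_of_compactSpace θ
  have hconst : ∀ (c : LocallyConstant Q M) (d m : Q), d ⤳ m → c d = c m := fun c d m h =>
    (h.mem_open (c.isLocallyConstant.isOpen_fiber (c m)) rfl :)
  refine ⟨fun c d h => hi.1 (LocallyConstant.ext fun x => ?_), fun f => ?_⟩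
  · obtain ⟨v, hv⟩ := (hconn x).1
    show c (i x) = d (i x)
    rw [← hconst c _ _ hv, ← hconst d _ _ hv]
    exact DFunLike.congr_fun h v
  choose w hw using fun x => (hconn x).1
  let g : A → M := fun x => f (w x)
  have hg : ∀ (v : P) (x : A), θ v ⤳ i x → f v = g x := fun v x hv =>
    f.isLocallyConstant.apply_eq_of_isPreconnected (hconn x).2 hv (hw x)
  have hfib : ∀ a, g ⁻¹' {a} = i ⁻¹' closure (θ '' (f ⁻¹' {a})) := fun a => by
    ext x
    refine ⟨fun hx => (hw x).mem_closed isClosed_closure (subset_closure ⟨w x, hx, rfl⟩), fun hx => ?_⟩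
    have hcl := L06.Spectral.isClosed_cons_image θ.isSpectralMap
      (L06.Spectral.isClosed_cons_of_isClosed (f.isLocallyConstant.isClopen_fiber a).1)
    obtain ⟨e, ⟨v, hv, rfl⟩, he⟩ := L06.Spectral.exists_specializes_of_mem_closure hcl hx
    exact (hg v x he).symm.trans hv
  have hgc : ∀ a, IsClosed (g ⁻¹' {a}) := fun a => by
    rw [hfib]
    exact isClosed_closure.preimage i.continuous
  have hfin : (Set.range g).Finite := f.range_finite.subset (Set.range_comp_subset_range w f)
  have hgl : IsLocallyConstant g := (IsLocallyConstant.iff_isOpen_fiber).2 fun a => by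
    have hc : (g ⁻¹' {a})ᶜ = ⋃ b ∈ (Set.range g \ {a}), g ⁻¹' {b} := by
      ext x
      simp only [Set.mem_compl_iff, Set.mem_preimage, Set.mem_singleton_iff, Set.mem_iUnion, Set.mem_sdiff,
        exists_prop]
      constructor
      · exact fun hx => ⟨g x, ⟨⟨_, rfl⟩, hx⟩, rfl⟩
      · rintro ⟨b, ⟨-, hb⟩, rfl⟩; exact hb
    show IsOpen (g ⁻¹' {a})
    rw [← isClosed_compl_iff, hc]
    exact (hfin.subset Set.sdiff_subset).isClosed_biUnion fun b _ => hgc b
  obtain ⟨c, hc⟩ := hi.2 ⟨g, hgl⟩
  refine ⟨c, LocallyConstant.ext fun v => ?_⟩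
  obtain ⟨x, hx⟩ := hspec (θ v)
  exact (hconst c _ _ hx).trans ((DFunLike.congr_fun hc x).trans (hg v x hx).symm)

/-- A strictly henselian local ring is the strict henselization at its closed point. -/
theorem exists_strict_self (R : Type u) [CommRing R] [HenselianLocalRing R] [IsSepClosed (ResidueField R)]
    (x : Spec (CommRingCat.of R)) (hx : x = closedPoint R) :
    ∃ (_ : Algebra ((Spec (CommRingCat.of R)).presheaf.stalk x) R)
      (_ : IsLocalHom (algebraMap ((Spec (CommRingCat.of R)).presheaf.stalk x) R))
      (_ : Hensel.IsStrictHenselization ((Spec (CommRingCat.of R)).presheaf.stalk x) R),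
      Hens2.specOf (Spec (CommRingCat.of R)) x R = 𝟙 _ := by
  subst hx
  let e := stalkClosedPointIso (CommRingCat.of R)
  let O := (Spec (CommRingCat.of R)).presheaf.stalk (closedPoint R)
  letI : Algebra O R := e.hom.hom.toAlgebra
  haveI : IsLocalHom (algebraMap O R) := by
    haveI : IsIso e.hom := inferInstance
    exact isLocalHom_of_isIso e.hom
  haveI : Algebra.WeaklyEtale O R := (L20.weaklyEtale_specMap_iff e.hom).1 inferInstance
  refine ⟨inferInstance, inferInstance, L05.HensTensor.isStrictHenselization_of_weaklyEtale O R, ?_⟩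
  show Spec.map e.hom ≫ (Spec (CommRingCat.of R)).fromSpecStalk (closedPoint R) = 𝟙 _
  rw [← Spec_stalkClosedPointIso, ← Spec.map_comp, Iso.inv_hom_id, Spec.map_id]

/-- Connected components of a proper flat scheme over a strictly henselian ring with geometrically reduced fibres do
not change on passing to a geometric fibre. -/
theorem bijective_lcMap_geomFibre {R : Type u} [CommRing R] [HenselianLocalRing R] [IsSepClosed (ResidueField R)]
    {N : Scheme.{u}} (a : N ⟶ Spec (CommRingCat.of R)) [IsProper a] [Flat a] [LocallyOfFinitePresentation a]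
    (hred : ∀ (K : Type u) [Field K] (k : Spec (CommRingCat.of K) ⟶ Spec (CommRingCat.of R)),
      AlgebraicGeometry.IsReduced (pullback a k))
    (Ω : Type u) [Field Ω] [IsAlgClosed Ω] (σ : Spec (CommRingCat.of Ω) ⟶ Spec (CommRingCat.of R)) (M : Type v) :
    Function.Bijective (lcMap (pullback.fst a σ) : LocallyConstant N M → _) := by
  let cl := Spec.map (CommRingCat.ofHom (residue R))
  haveI : IsClosedImmersion cl := IsClosedImmersion.spec_of_surjective _ residue_surjective
  haveI : CompactSpace N := QuasiCompact.compactSpace_of_compactSpace a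
  haveI : QuasiSeparatedSpace N := quasiSeparatedSpace_of_quasiSeparated a
  haveI : CompactSpace ↥(pullback a σ) := QuasiCompact.compactSpace_of_compactSpace (pullback.snd a σ)
  haveI : QuasiSeparatedSpace ↥(pullback a σ) := quasiSeparatedSpace_of_quasiSeparated (pullback.snd a σ)
  have hcl : ∀ z : Spec (CommRingCat.of (ResidueField R)), cl z = closedPoint R := fun z => by
    rw [Subsingleton.elim (α := Spec (CommRingCat.of (ResidueField R))) z (closedPoint (ResidueField R))]
    exact IsLocalRing.comap_closedPoint (residue R)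
  refine bijective_lcMap_of_generations _ (pullback.fst a cl) M (bijective_lcMap_closedFibre a M) (fun q => ?_)
    fun x => ?_
  · have hq : closedPoint R ∈ a '' closure {q} :=
      (IsLocalRing.specializes_closedPoint (a q)).mem_closed (a.isClosedMap _ isClosed_closure)
        ⟨q, subset_closure rfl, rfl⟩
    obtain ⟨y, hy, hay⟩ := hq
    obtain ⟨z, hz, -⟩ := Scheme.exists_preimage_of_isPullback (IsPullback.of_hasPullback a cl) y
      (closedPoint (ResidueField R)) (hay.trans (hcl _).symm)
    exact ⟨z, hz.symm ▸ specializes_iff_mem_closure.2 hy⟩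
  let m := pullback.fst a cl x
  have hm : a.base m = closedPoint R := by
    show a (pullback.fst a cl x) = _
    rw [← Scheme.Hom.comp_apply, pullback.condition, Scheme.Hom.comp_apply, hcl]
  obtain ⟨halg, hlocal, hstrict, hid⟩ := exists_strict_self R (a.base m) hm
  letI := halg; haveI := hlocal; haveI := hstrict
  let O' := N.presheaf.stalk m
  obtain ⟨C, _, _, _, _, hC⟩ := L05.Henselization.exists_isStrictHenselization O'
  haveI := hC
  haveI : HenselianLocalRing C := hC.henselian
  haveI : IsSepClosed (ResidueField C) := hC.isSepClosure.sep_closed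
  obtain ⟨ψ, hψl, hψ⟩ := L27.StalkBC.exists_strictMap a m R C
  haveI := hψl
  let bC := Hens2.specOf N m C
  let sψ := Spec.map (CommRingCat.ofHom ψ)
  have hsq : sψ = bC ≫ a :=
    (Category.comp_id _).symm.trans ((congrArg (sψ ≫ ·) hid.symm).trans (L27.StalkBC.specOf_comp a m R C ψ hψ))
  haveI : ConnectedSpace ↥(pullback sψ σ) :=
    L27.Acyclic0.shConnected_of_flat_geomReduced a hred (Or.inr inferInstance) m R C ψ hψ Ω σ
  let l : pullback sψ σ ⟶ pullback a σ := pullback.lift (pullback.fst sψ σ ≫ bC) (pullback.snd sψ σ)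
    (by rw [Category.assoc, ← hsq]; exact pullback.condition)
  have hp : IsPullback (pullback.fst sψ σ) l bC (pullback.fst a σ) := by
    refine IsPullback.of_bot (v₂₁ := pullback.snd a σ) (v₂₂ := a) ?_ (pullback.lift_fst _ _ _).symm
      (IsPullback.of_hasPullback a σ)
    rw [pullback.lift_snd, ← hsq]
    exact IsPullback.of_hasPullback sψ σ
  have hrange : Set.range bC = {d | d ⤳ m} := by
    show Set.range (Spec.map (CommRingCat.ofHom (algebraMap O' C)) ≫ N.fromSpecStalk m) = _
    haveI := L05.Henselization.flat_of_isStrictHenselization O' C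
    haveI : Module.FaithfullyFlat O' C := L05.Henselization.faithfullyFlat_of_flat_local
    have hs : Function.Surjective (Spec.map (CommRingCat.ofHom (algebraMap O' C))) :=
      PrimeSpectrum.comap_surjective_of_faithfullyFlat
    rw [Scheme.Hom.comp_base, TopCat.coe_comp, hs.range_comp, Scheme.range_fromSpecStalk]
  have e : pullback.fst a σ ⁻¹' {d | d ⤳ m} = Set.range l := by
    rw [← hrange]
    ext v
    refine ⟨fun ⟨c, hc⟩ => ?_, ?_⟩
    · obtain ⟨z, -, hz⟩ := Scheme.exists_preimage_of_isPullback hp c v hc
      exact ⟨z, hz⟩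
    · rintro ⟨z, rfl⟩
      exact ⟨pullback.fst sψ σ z, by rw [← Scheme.Hom.comp_apply, ← Scheme.Hom.comp_apply, hp.w]⟩
  rw [e]
  exact isConnected_range l.continuous

/-- Locally constant functions glue along a finite disjoint closed cover. -/
theorem bijective_lcMap_of_cover {P Q : Scheme.{u}} (θ : P ⟶ Q) {ι : Type u} [Finite ι] (Qi : ι → Scheme.{u})
    (c : ∀ i, Qi i ⟶ Q) [∀ i, IsClosedImmersion (c i)] (hcov : ∀ q : Q, ∃ i, q ∈ Set.range (c i))
    (hdis : ∀ i j, i ≠ j → Disjoint (Set.range (c i)) (Set.range (c j))) (M : Type v)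
    (h : ∀ i, Function.Bijective (lcMap (pullback.snd θ (c i)) : LocallyConstant (Qi i) M → _)) :
    Function.Bijective (lcMap θ : LocallyConstant Q M → LocallyConstant P M) := by
  classical
  refine ⟨fun a b hab => LocallyConstant.ext fun q => ?_, fun f => ?_⟩
  · obtain ⟨i, x, rfl⟩ := hcov q
    have e : lcMap (c i) a = lcMap (c i) b := (h i).1 (by
      rw [lcMap_comp, lcMap_comp, ← pullback.condition, ← lcMap_comp, ← lcMap_comp, hab])
    exact DFunLike.congr_fun e x
  choose g hg using fun i => (h i).2 (lcMap (pullback.fst θ (c i)) f)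
  choose ix xx hxx using hcov
  let G : Q → M := fun q => g (ix q) (xx q)
  have hG : ∀ i x, G (c i x) = g i x := fun i x => by
    have hi : ix (c i x) = i := by
      by_contra hne
      exact (hdis _ _ hne).le_bot ⟨⟨_, hxx _⟩, ⟨x, rfl⟩⟩
    have key : ∀ j (y : Qi j), j = i → c j y = c i x → g j y = g i x := by
      rintro j y rfl e
      rw [(c j).isClosedEmbedding.injective e]
    exact key _ _ hi (hxx _)
  have hopen : ∀ i, IsOpen (Set.range (c i)) := fun i => by
    have e : Set.range (c i) = (⋃ j : {j // j ≠ i}, Set.range (c j.1))ᶜ := by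
      ext q
      simp only [Set.mem_compl_iff, Set.mem_iUnion, not_exists]
      refine ⟨fun hq j hj => (hdis _ _ j.2).le_bot ⟨hj, hq⟩, fun hq => ?_⟩
      by_cases hi : ix q = i
      · exact hi ▸ ⟨_, hxx q⟩
      · exact absurd ⟨_, hxx q⟩ (hq ⟨ix q, hi⟩)
    rw [e]
    exact (isClosed_iUnion_of_finite fun (j : {j // j ≠ i}) => (c j.1).isClosedEmbedding.isClosed_range).isOpen_compl
  have hGl : IsLocallyConstant G := (IsLocallyConstant.iff_exists_open _).2 fun q => by
    let i := ix q
    obtain ⟨O, hO, hOe⟩ := (c i).isClosedEmbedding.isInducing.isOpen_iff.1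
      ((g i).isLocallyConstant.isOpen_fiber (g i (xx q)))
    refine ⟨O ∩ Set.range (c i), hO.inter (hopen i), ⟨?_, ⟨_, hxx q⟩⟩, ?_⟩
    · have hmem : xx q ∈ c i ⁻¹' O := by rw [hOe]; rfl
      exact hxx q ▸ hmem
    · rintro _ ⟨hy, ⟨x, rfl⟩⟩
      rw [hG]
      exact (hOe ▸ hy : x ∈ {x | g i x = g i (xx q)})
  refine ⟨⟨G, hGl⟩, LocallyConstant.ext fun v => ?_⟩
  obtain ⟨z, hz, hz'⟩ := Scheme.exists_preimage_of_isPullback (IsPullback.of_hasPullback θ (c (ix (θ v)))) v
    (xx (θ v)) (hxx (θ v)).symm
  exact (congrArg (g (ix (θ v))) hz'.symm).trans ((DFunLike.congr_fun (hg (ix (θ v))) z).trans (congrArg f hz))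

end Groth.L23.CohProp
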