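import Groth.Agent.L23.CohProp.Model
import Groth.Agent.L23.CohProp.GeomConn

/-! # Pieces under passage to geometric fibres of strictly local schemes -/

universe u

open CategoryTheory CategoryTheory.Limits AlgebraicGeometry TopologicalSpace IsLocalRing

set_option autoImplicit false
set_option maxHeartbeats 800000
set_option maxSynthPendingDepth 3
set_option backward.isDefEq.respectTransparency.types false
set_option linter.style.haveILetI false
set_option linter.unusedSectionVars false
set_option linter.unusedVariables false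

noncomputable section

namespace Groth.L23.CohProp

/-- The graph square of a monomorphism. -/
theorem isPullback_mono_comp {A Y S : Scheme.{u}} (η : A ⟶ Y) (b : Y ⟶ S) [Mono b] :
    IsPullback η (𝟙 A) b (η ≫ b) := by
  refine IsPullback.of_isLimit' ⟨(Category.id_comp _).symm⟩ (PullbackCone.IsLimit.mk _ (fun s => s.snd)
    (fun s => (cancel_mono b).1 ?_) (fun s => Category.comp_id _) fun s m _ h2 => (Category.comp_id m).symm.trans h2)
  rw [Category.assoc]
  exact s.condition.symm

/-- Locally constant functions on the proper model do not change on passing to geometric fibres. -/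
theorem bijective_lcMap_split {N S₁ Y S : Scheme.{u}} (a : N ⟶ S₁) [Flat a] [LocallyOfFinitePresentation a]
    (hn : NormFib a) (π : N ⟶ Y) (b : Y ⟶ S) [Mono b] (s : S₁ ⟶ S) (hw : π ≫ b = a ≫ s) {U : S.Opens}
    (hs : Split s U) {R : Type u} [CommRing R] [HenselianLocalRing R] [IsSepClosed (ResidueField R)]
    (η : Spec (CommRingCat.of R) ⟶ Y) (hU : ∀ x, b (η x) ∈ U) [IsProper (pullback.snd π η)]
    (Ω : Type u) [Field Ω] [IsAlgClosed Ω] (σ : Spec (CommRingCat.of Ω) ⟶ Spec (CommRingCat.of R))
    (ρN : pullback π (σ ≫ η) ⟶ pullback π η)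
    (hρN : IsPullback ρN (pullback.snd π (σ ≫ η)) (pullback.snd π η) σ) (M : Type (u + 1)) :
    Function.Bijective (lcMap ρN : LocallyConstant ↥(pullback π η) M → _) := by
  let e := η ≫ b
  let aR : pullback π η ⟶ pullback s e := pullback.lift (pullback.fst π η ≫ a) (pullback.snd π η) (by
    rw [Category.assoc, ← hw, ← Category.assoc, pullback.condition, Category.assoc])
  have hsnd : aR ≫ pullback.snd s e = pullback.snd π η := pullback.lift_snd _ _ _
  have haR : IsPullback (pullback.fst π η) aR a (pullback.fst s e) := by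
    refine IsPullback.of_bot (v₂₁ := pullback.snd s e) (v₂₂ := s) ?_ (pullback.lift_fst _ _ _).symm
      (IsPullback.of_hasPullback s e)
    rw [hsnd, ← hw]
    have := (IsPullback.of_hasPullback π η).paste_vert (isPullback_mono_comp η b)
    rwa [Category.comp_id] at this
  haveI : Flat aR := MorphismProperty.of_isPullback (P := @Flat) haR inferInstance
  haveI : LocallyOfFinitePresentation aR :=
    MorphismProperty.of_isPullback (P := @LocallyOfFinitePresentation) haR inferInstance
  have hnR : NormFib aR := hn.baseChange haR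
  obtain ⟨ι, _, Ri, c, hc, hR, hcov, hdis, hpt⟩ := hs R e (fun x => by rw [Scheme.Hom.comp_apply]; exact hU x)
  haveI := hc
  have hrange : ∀ i, Set.range (pullback.fst aR (c i)) = aR ⁻¹' Set.range (c i) := fun i =>
    Scheme.Pullback.range_fst aR (c i)
  refine bijective_lcMap_of_cover ρN (fun i => pullback aR (c i)) (fun i => pullback.fst aR (c i)) (fun q => ?_)
    (fun i j hij => ?_) M fun i => ?_
  · obtain ⟨i, hi⟩ := hcov (aR q)
    exact ⟨i, (hrange i).symm ▸ hi⟩
  · rw [hrange, hrange]
    exact (hdis i j hij).preimage aR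
  obtain ⟨hRi, hRi'⟩ := hR i
  haveI := hRi; haveI := hRi'
  let ai := pullback.snd aR (c i)
  let ci' := pullback.fst aR (c i)
  let r := c i ≫ pullback.snd s e
  haveI : Flat ai := inferInstance
  haveI : LocallyOfFinitePresentation ai := inferInstance
  haveI : IsProper ai := by
    haveI : IsProper (ai ≫ r) := by
      show IsProper (ai ≫ c i ≫ pullback.snd s e)
      rw [← Category.assoc, ← pullback.condition, Category.assoc, hsnd]
      infer_instance
    exact IsProper.of_comp ai r
  obtain ⟨l, hl⟩ := hpt Ω σ i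
  haveI := hl
  let P := pullback ρN ci'
  let k : P ⟶ pullback r σ := pullback.lift (pullback.snd ρN ci' ≫ ai)
    (pullback.fst ρN ci' ≫ pullback.snd π (σ ≫ η)) (by
    rw [Category.assoc, Category.assoc, ← hρN.w, ← Category.assoc (pullback.fst ρN ci'), pullback.condition,
      Category.assoc, ← hsnd, ← Category.assoc ci', pullback.condition, Category.assoc])
  have hk : IsPullback (pullback.snd ρN ci') k ai (pullback.fst r σ) := by
    refine IsPullback.of_bot (v₂₁ := pullback.snd r σ) (v₂₂ := r) ?_ (pullback.lift_fst _ _ _).symm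
      (IsPullback.of_hasPullback r σ)
    rw [pullback.lift_snd, show ai ≫ r = ci' ≫ pullback.snd π η by
      show ai ≫ c i ≫ pullback.snd s e = _
      rw [← Category.assoc, ← pullback.condition, Category.assoc, hsnd]]
    exact (IsPullback.of_hasPullback ρN ci').flip.paste_vert hρN
  let ε := l ≫ pullback.fst r σ
  let h : pullback ai ε ⟶ P := hk.lift (pullback.fst ai ε) (pullback.snd ai ε ≫ l)
    (by rw [Category.assoc]; exact pullback.condition)
  have hh : IsPullback h (pullback.snd ai ε) k l := by
    refine IsPullback.of_right ?_ (hk.lift_snd _ _ _) hk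
    rw [hk.lift_fst]
    exact IsPullback.of_hasPullback ai ε
  haveI : Surjective h := MorphismProperty.of_isPullback (P := @Surjective) hh.flip hl
  have h1 : Function.Bijective (lcMap (pullback.fst ai ε) : LocallyConstant ↥(pullback aR (c i)) M → _) :=
    bijective_lcMap_geomFibre ai
      (fun K _ k' => (hnR.baseChange (IsPullback.of_hasPullback aR (c i))).isReduced K k') Ω ε M
  have e1 : (lcMap h ∘ lcMap (pullback.snd ρN ci') : LocallyConstant ↥(pullback aR (c i)) M → _) =
      lcMap (pullback.fst ai ε) := funext fun x => by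
    show lcMap h (lcMap _ x) = _
    rw [lcMap_comp]
    exact congrArg (fun m => lcMap m x) (hk.lift_fst _ _ _)
  have hinj : Function.Injective (lcMap h : LocallyConstant P M → _) := fun x y hxy => LocallyConstant.ext fun p => by
    obtain ⟨z, rfl⟩ := h.surjective p
    exact DFunLike.congr_fun hxy z
  refine ⟨fun x y hxy => h1.1 ?_, fun y => ?_⟩
  · rw [← e1, Function.comp_apply, Function.comp_apply, hxy]
  · obtain ⟨x, hx⟩ := h1.2 (lcMap h y)
    exact ⟨x, hinj (by rw [← hx, ← e1]; rfl)⟩

/-- Pieces on passing to geometric fibres of strictly local schemes. -/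
theorem Pre.geoSand {X Y S : Scheme.{u}} {f : X ⟶ Y} {b : Y ⟶ S} [Mono b] {U : S.Opens} {U₀ : Over X}
    (P : Pre f b U U₀) (R : Type u) [CommRing R] [HenselianLocalRing R] [IsSepClosed (ResidueField R)]
    (η : Spec (CommRingCat.of R) ⟶ Y) (hU : ∀ x, b (η x) ∈ U) (Ω : Type u) [Field Ω] [IsAlgClosed Ω] (ψ : R →+* Ω)
    {T' : Scheme.{u}} (ρ : T' ⟶ pullback f η) (π' : T' ⟶ Spec (CommRingCat.of Ω))
    (hρ : IsPullback ρ π' (pullback.snd f η) (Spec.map (CommRingCat.ofHom ψ))) :
    SandOk P.q P.W (pullback.fst f η) ρ := by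
  letI := P.flat
  letI := P.lfp
  letI := P.qs
  letI := P.jOpen
  let σ := Spec.map (CommRingCat.ofHom ψ)
  have hproper : ∀ {A : Scheme.{u}} (η' : A ⟶ Y), (∀ x, b (η' x) ∈ U) → IsProper (pullback.snd P.π η') := by
    intro A η' hη'
    have hr : Set.range η' ⊆ Set.range (b ⁻¹ᵁ U).ι := by
      rw [Scheme.Opens.range_ι]
      rintro _ ⟨x, rfl⟩
      exact hη' x
    let η₀ := IsOpenImmersion.lift (b ⁻¹ᵁ U).ι η' hr
    have hr' : Set.range (pullback.fst P.π η') ⊆ Set.range (P.π ⁻¹ᵁ b ⁻¹ᵁ U).ι := by
      rw [Scheme.Opens.range_ι]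
      rintro _ ⟨x, rfl⟩
      show P.π (pullback.fst P.π η' x) ∈ b ⁻¹ᵁ U
      rw [← Scheme.Hom.comp_apply, pullback.condition, Scheme.Hom.comp_apply]
      exact hη' _
    refine MorphismProperty.of_isPullback (P := @IsProper)
      (f' := IsOpenImmersion.lift (P.π ⁻¹ᵁ b ⁻¹ᵁ U).ι (pullback.fst P.π η') hr') (f := η₀) ?_ P.hπ
    refine IsPullback.of_right (h₁₂ := (P.π ⁻¹ᵁ b ⁻¹ᵁ U).ι) (v₁₃ := P.π) (h₂₂ := (b ⁻¹ᵁ U).ι) ?_ ?_
      (isPullback_morphismRestrict P.π (b ⁻¹ᵁ U)).flip
    · rw [IsOpenImmersion.lift_fac, IsOpenImmersion.lift_fac]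
      exact IsPullback.of_hasPullback P.π η'
    · rw [← cancel_mono (b ⁻¹ᵁ U).ι, Category.assoc, morphismRestrict_ι, ← Category.assoc, IsOpenImmersion.lift_fac,
        pullback.condition, Category.assoc, IsOpenImmersion.lift_fac]
  haveI := hproper η hU
  haveI := hproper (σ ≫ η) (fun x => by rw [Scheme.Hom.comp_apply]; exact hU _)
  haveI : CompactSpace ↥(pullback P.π η) := QuasiCompact.compactSpace_of_compactSpace (pullback.snd P.π η)
  haveI : QuasiSeparatedSpace ↥(pullback P.π η) := quasiSeparatedSpace_of_quasiSeparated (pullback.snd P.π η)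
  haveI : CompactSpace ↥(pullback P.π (σ ≫ η)) := QuasiCompact.compactSpace_of_compactSpace (pullback.snd P.π (σ ≫ η))
  haveI : QuasiSeparatedSpace ↥(pullback P.π (σ ≫ η)) :=
    quasiSeparatedSpace_of_quasiSeparated (pullback.snd P.π (σ ≫ η))
  have hM : ∀ {A : Scheme.{u}} (η' : A ⟶ Y),
      Milnor (pullback.fst P.π η' ⁻¹' ((P.j ''ᵁ P.W : P.N.Opens) : Set P.N)) := by
    intro A η'
    let a'' : pullback P.π η' ⟶ pullback P.s (η' ≫ b) := pullback.lift (pullback.fst P.π η' ≫ P.a) (pullback.snd P.π η')
      (by rw [Category.assoc, ← P.hw, ← Category.assoc, pullback.condition, Category.assoc])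
    have hNY : IsPullback (pullback.fst P.π η') a'' P.a (pullback.fst P.s (η' ≫ b)) := by
      refine IsPullback.of_bot (v₂₁ := pullback.snd P.s (η' ≫ b)) (v₂₂ := P.s) ?_ (pullback.lift_fst _ _ _).symm
        (IsPullback.of_hasPullback P.s (η' ≫ b))
      rw [pullback.lift_snd, ← P.hw]
      have := (IsPullback.of_hasPullback P.π η').paste_vert (isPullback_mono_comp η' b)
      rwa [Category.comp_id] at this
    have h := milnor_image P.a P.norm P.j P.W P.hWc P.hd _ a'' _ hNY (𝟙 _)
    rwa [Category.id_comp] at h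
  exact sand_core P.π P.j P.q P.hq P.W P.hWc R Ω ψ η ρ π' hρ (hM η) (hM (σ ≫ η))
    fun ρN _ h M => bijective_lcMap_split P.a P.norm P.π b P.s P.hw P.split η hU Ω σ ρN h M

end Groth.L23.CohProp
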