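import Groth.Agent.L23.CohProp.Core
import Groth.Agent.L23.Rigidity.BaseChange
import Mathlib.AlgebraicGeometry.Morphisms.OpenImmersion

/-! # Gluing bijectivity of restrictions along opens -/

universe u

open CategoryTheory CategoryTheory.Limits AlgebraicGeometry Opposite IsLocalRing

set_option autoImplicit false
set_option maxHeartbeats 800000
set_option maxSynthPendingDepth 3
set_option backward.isDefEq.respectTransparency.types false
set_option linter.style.haveILetI false
set_option linter.unusedSectionVars false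
set_option linter.unusedVariables false

noncomputable section

namespace Groth.L23.CohProp

open Groth.L27.BigSets
open Groth.L27.Fppf (exists_pullback comp_left_apply etale_comp)
open Groth.L23.Rigidity (bijective_map_of_square)

variable {X Y S : Scheme.{u}}

/-- Restrictions between strictly local pieces over `U` are bijective. -/
def Good (f : X ⟶ Y) (b : Y ⟶ S) (F : EtDesc.Sh X) (U : S.Opens) : Prop :=
  ∀ (R R' : Type u) [CommRing R] [CommRing R'] (ψ : R →+* R') (η : Spec (CommRingCat.of R) ⟶ Y),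
    SqOk b U R R' ψ η → ∀ {T T' : Scheme.{u}} (t : T ⟶ X) (τ : T ⟶ Spec (CommRingCat.of R)),
      IsPullback t τ f η → ∀ (ρ : T' ⟶ T) (π' : T' ⟶ Spec (CommRingCat.of R')),
        IsPullback ρ π' τ (Spec.map (CommRingCat.ofHom ψ)) →
          Function.Bijective ((G F).obj.map (Over.homMk ρ rfl : Over.mk (ρ ≫ t) ⟶ Over.mk t).op)

theorem Good.mono {f : X ⟶ Y} {b : Y ⟶ S} {F : EtDesc.Sh X} {U U' : S.Opens} (h : Good f b F U) (hle : U' ≤ U) :
    Good f b F U' :=
  fun R R' _ _ ψ η hsq => h R R' ψ η (hsq.mono hle)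

theorem SqOk.mem {b : Y ⟶ S} {U : S.Opens} {R R' : Type u} [CommRing R] [CommRing R'] {ψ : R →+* R'}
    {η : Spec (CommRingCat.of R) ⟶ Y} (h : SqOk b U R R' ψ η) (x : Spec (CommRingCat.of R)) : b (η x) ∈ U := by
  obtain ⟨hR, hR', -, -, hloc, -, S', Y', p, g, q', η', hp, hsquare, -, hcomp⟩ := h
  haveI := hR; haveI := hR'; haveI := hloc
  have hcl : b (η (closedPoint R)) ∈ U := by
    rw [← IsLocalRing.comap_closedPoint ψ]
    show b (η (Spec.map (CommRingCat.ofHom ψ) (closedPoint R'))) ∈ U
    rw [← Scheme.Hom.comp_apply (Spec.map (CommRingCat.ofHom ψ)), ← hcomp, Scheme.Hom.comp_apply,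
      ← Scheme.Hom.comp_apply g, hsquare.w, Scheme.Hom.comp_apply]
    exact hp _
  exact (((IsLocalRing.specializes_closedPoint x).map η.continuous).map b.continuous).mem_open U.2 hcl

variable {F : EtDesc.Sh X}

/-- The base change of an open as an object over `X`. -/
abbrev openPart (T : Over X) {X₀ : Scheme.{u}} (i : X₀ ⟶ X) : Over X :=
  Over.mk (pullback.fst T.hom i ≫ T.hom)

/-- The inclusion of the open part. -/
abbrev openIncl (T : Over X) {X₀ : Scheme.{u}} (i : X₀ ⟶ X) : openPart T i ⟶ T :=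
  Over.homMk (pullback.fst T.hom i) rfl

/-- The map of open parts. -/
abbrev openMap {T T' : Over X} (ρ : T' ⟶ T) {X₀ : Scheme.{u}} (i : X₀ ⟶ X) : openPart T' i ⟶ openPart T i :=
  Over.homMk (zMap i T.hom T'.hom ρ.left (Over.w ρ)) (by
    show zMap i T.hom T'.hom ρ.left (Over.w ρ) ≫ pullback.fst T.hom i ≫ T.hom = pullback.fst T'.hom i ≫ T'.hom
    rw [← Category.assoc, zMap_fst, Category.assoc, Over.w ρ])

theorem openMap_incl {T T' : Over X} (ρ : T' ⟶ T) {X₀ : Scheme.{u}} (i : X₀ ⟶ X) :
    openMap ρ i ≫ openIncl T i = openIncl T' i ≫ ρ := Over.OverMorphism.ext (zMap_fst i T.hom T'.hom ρ.left (Over.w ρ))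

variable {T T' : Over X} (ρ : T' ⟶ T) {C : Type u} (Xc : C → Scheme.{u}) (i : ∀ c, Xc c ⟶ X)
  [∀ c, IsOpenImmersion (i c)] (hcov : ∀ t : T.left, ∃ c, T.hom t ∈ Set.range (i c))

include hcov in
theorem eqNear_of_parts (c₀ : C → Prop) {T₁ : Over X} (m : T₁ ⟶ T) (x y : (G F).obj.obj (op T₁))
    (h : ∀ c, (G F).obj.map (openIncl T₁ (i c)).op x = (G F).obj.map (openIncl T₁ (i c)).op y) : x = y := by
  refine eq_of_eqNear F x y fun t => ?_
  obtain ⟨c, x₀, hx₀⟩ := hcov (m.left t)
  have hx₁ : T₁.hom t = i c x₀ := by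
    rw [hx₀, ← Over.w m, Scheme.Hom.comp_apply]
  obtain ⟨z, hz, -⟩ := Scheme.exists_preimage_of_isPullback (IsPullback.of_hasPullback T₁.hom (i c)) t x₀ hx₁
  have := EqNear.of_map F (openIncl T₁ (i c)) x y z (eqNear_of_eq F _ _ (h c) z)
  rwa [show (openIncl T₁ (i c)).left z = t from hz] at this

include hcov in
theorem injective_of_parts (h : ∀ c, Function.Injective ((G F).obj.map (openMap ρ (i c)).op)) :
    Function.Injective ((G F).obj.map ρ.op) := fun x y hxy => by
  refine eqNear_of_parts Xc i hcov (fun _ => True) (𝟙 T) x y fun c => h c ?_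
  rw [map_comp', map_comp', openMap_incl, ← map_comp', ← map_comp', hxy]

variable {E : Type u} (Xe : E → Scheme.{u}) (k : ∀ e, Xe e ⟶ X) [∀ e, IsOpenImmersion (k e)]
  (hover : ∀ c d (x : X), x ∈ Set.range (i c) → x ∈ Set.range (i d) →
    ∃ e, x ∈ Set.range (k e) ∧ Set.range (k e) ⊆ Set.range (i c) ∩ Set.range (i d))

include hcov hover in
theorem bijective_of_parts (h : ∀ c, Function.Bijective ((G F).obj.map (openMap ρ (i c)).op))
    (he : ∀ e, Function.Injective ((G F).obj.map (openMap ρ (k e)).op)) :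
    Function.Bijective ((G F).obj.map ρ.op) := by
  refine ⟨injective_of_parts ρ Xc i hcov fun c => (h c).1, fun σ => ?_⟩
  choose y hy using fun c => (h c).2 ((G F).obj.map (openIncl T' (i c)).op σ)
  have hcov' : ∀ t : T.left, ∃ c z, (openIncl T (i c)).left z = t := fun t => by
    obtain ⟨c, x₀, hx₀⟩ := hcov t
    obtain ⟨z, hz, -⟩ := Scheme.exists_preimage_of_isPullback (IsPullback.of_hasPullback T.hom (i c)) t x₀ hx₀.symm
    exact ⟨c, z, hz⟩
  obtain ⟨x, hx⟩ := exists_glue (fun c => openPart T (i c)) (fun c => openIncl T (i c))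
    (fun c => inferInstanceAs (AlgebraicGeometry.Etale (pullback.fst T.hom (i c)))) hcov' y fun c d Z a a' e => by
    refine eq_of_eqNear F _ _ fun z => ?_
    have hmem : ∀ c (a : Z ⟶ openPart T (i c)), T.hom ((a ≫ openIncl T (i c)).left z) ∈ Set.range (i c) := fun c a => by
      rw [comp_left_apply]
      show T.hom (pullback.fst T.hom (i c) (a.left z)) ∈ _
      rw [← Scheme.Hom.comp_apply, pullback.condition, Scheme.Hom.comp_apply]
      exact ⟨_, rfl⟩
    obtain ⟨v, hv, hsub⟩ := hover c d (T.hom ((a ≫ openIncl T (i c)).left z)) (hmem c a) (e ▸ hmem d a')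
    obtain ⟨x₀, hx₀⟩ := hv
    obtain ⟨te, hte, -⟩ := Scheme.exists_preimage_of_isPullback (IsPullback.of_hasPullback T.hom (k v))
      ((a ≫ openIncl T (i c)).left z) x₀ hx₀.symm
    obtain ⟨P, pz, pe, hP, hPp, -⟩ := exists_pullback (a ≫ openIncl T (i c)) (openIncl T (k v))
    obtain ⟨p, hp, -⟩ := Scheme.exists_preimage_of_isPullback hPp z te hte.symm
    haveI : AlgebraicGeometry.Etale (openIncl T (k v)).left :=
      inferInstanceAs (AlgebraicGeometry.Etale (pullback.fst T.hom (k v)))
    haveI : AlgebraicGeometry.Etale pz.left := MorphismProperty.of_isPullback (P := EtCoh.etaleMP.{u}) hPp.flip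
      ‹AlgebraicGeometry.Etale (openIncl T (k v)).left›
    have hlift : ∀ (c : C), Set.range (k v) ⊆ Set.range (i c) →
        ∃ (l : openPart T (k v) ⟶ openPart T (i c)) (l' : openPart T' (k v) ⟶ openPart T' (i c)),
          l ≫ openIncl T (i c) = openIncl T (k v) ∧ l' ≫ openIncl T' (i c) = openIncl T' (k v) ∧
            openMap ρ (k v) ≫ l = l' ≫ openMap ρ (i c) := fun c hc => by
      let kc := IsOpenImmersion.lift (i c) (k v) hc
      have hkc : kc ≫ i c = k v := IsOpenImmersion.lift_fac _ _ hc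
      let mk : ∀ (W : Over X), openPart W (k v) ⟶ openPart W (i c) := fun W =>
        Over.homMk (pullback.lift (pullback.fst W.hom (k v)) (pullback.snd W.hom (k v) ≫ kc)
          (by rw [Category.assoc, hkc, pullback.condition]))
          (by show pullback.lift _ _ _ ≫ pullback.fst W.hom (i c) ≫ W.hom = _
              rw [← Category.assoc, pullback.lift_fst]; rfl)
      refine ⟨mk T, mk T', Over.OverMorphism.ext (pullback.lift_fst _ _ _),
        Over.OverMorphism.ext (pullback.lift_fst _ _ _),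
        Over.OverMorphism.ext ((cancel_mono (pullback.fst T.hom (i c))).1 ?_)⟩
      exact (Category.assoc _ _ _).trans ((whisker_eq _ (pullback.lift_fst _ _ _)).trans
        ((zMap_fst (k v) T.hom T'.hom ρ.left (Over.w ρ)).trans ((eq_whisker (pullback.lift_fst _ _ _).symm _).trans
          ((Category.assoc _ _ _).trans ((whisker_eq _ (zMap_fst (i c) T.hom T'.hom ρ.left (Over.w ρ)).symm).trans
            (Category.assoc _ _ _).symm)))))
    obtain ⟨l, l', hl, hl', hll⟩ := hlift c (hsub.trans Set.inter_subset_left)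
    obtain ⟨n, n', hn, hn', hnn⟩ := hlift d (hsub.trans Set.inter_subset_right)
    have hagree : (G F).obj.map l.op (y c) = (G F).obj.map n.op (y d) := by
      apply he v
      rw [map_comp', map_comp', hll, hnn, ← map_comp', ← map_comp', hy, hy, map_comp', map_comp', hl', hn']
    have hmono : ∀ (c : C) {W : Over X} (u w : W ⟶ openPart T (i c)),
        u ≫ openIncl T (i c) = w ≫ openIncl T (i c) → u = w := fun c W u w huw =>
      Over.OverMorphism.ext ((cancel_mono (pullback.fst T.hom (i c))).1 (congrArg (fun m => m.left) huw))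
    refine ⟨P, pz, p, inferInstance, hp, ?_⟩
    have e1 : pz ≫ a = pe ≫ l := hmono c _ _ (by rw [Category.assoc, Category.assoc, hl, hP])
    have e2 : pz ≫ a' = pe ≫ n := hmono d _ _ (by rw [Category.assoc, Category.assoc, hn, ← e, hP])
    rw [map_comp', map_comp', e1, e2, ← map_comp', ← map_comp', hagree]
  refine ⟨x, eqNear_of_parts (T := T) Xc i hcov (fun _ => True) ρ _ _ fun c => ?_⟩
  rw [map_comp', ← openMap_incl, ← map_comp', hx, hy]

end Groth.L23.CohProp
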