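import Groth.Agent.L23.CohProp.Geo
import Groth.Agent.S19554

/-! # Local constancy of direct images with finite stalks invariant under specialisation -/

universe u

open CategoryTheory CategoryTheory.Limits AlgebraicGeometry TopologicalSpace IsLocalRing Opposite Topology

set_option autoImplicit false
set_option maxHeartbeats 1000000
set_option maxSynthPendingDepth 3
set_option backward.isDefEq.respectTransparency.types false
set_option linter.style.haveILetI false
set_option linter.unusedSectionVars false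
set_option linter.unusedVariables false

noncomputable section

namespace Groth.L23.CohProp

open Groth.L27 Groth.L27.BigSets
open Groth.L27.Fppf (cT)
open Groth.L27.StalkRpush (toBase bPt nb Idx pt rr rr_fst rr_hom specCone)
open Groth.L23.Rigidity (bijective_map_of_square)

/-- Strictly local data at a point. -/
theorem exists_strict_at {S : Scheme.{u}} (s : S) :
    ∃ (B : Type u) (_ : CommRing B) (j : Spec (CommRingCat.of B) ⟶ S) (_ : IsOpenImmersion j)
      (K : Type u) (_ : Field K) (_ : IsSepClosed K) (_ : Algebra B K)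
      (R : Type u) (_ : CommRing R) (_ : Algebra B R) (e : L05.Henselization.Col B K ≃ₐ[B] R),
      bPt B j K default = s ∧ HenselianLocalRing R ∧ (∀ [IsLocalRing R], IsSepClosed (ResidueField R)) ∧
        WeaklyEtale (toBase B R ≫ j) := by
  obtain ⟨B, _, j, _, K, _, _, _, R, _, _, e₀, B', _, j', _, K', _, _, _, R', _, _, e₁, ψ, hψ, ρ, hρ, hy, h1, h2, h3,
    h4, h5, hwe, hwe'⟩ := exists_strict_data (𝟙 S) s
  exact ⟨B', inferInstance, j', inferInstance, K', inferInstance, inferInstance, inferInstance, R', inferInstance,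
    inferInstance, e₁, hy, h2, h4, hwe'⟩

/-- The image of the geometric point in a stage. -/
abbrev ptV {S : Scheme.{u}} (B : Type u) [CommRing B] (j : Spec (CommRingCat.of B) ⟶ S) [IsOpenImmersion j]
    (K : Type u) [Field K] [IsSepClosed K] [Algebra B K] (k : Idx B K) : ((nb B j K).obj k).left :=
  (Spec.map (CommRingCat.ofHom k.unop.φ.toRingHom) : Spec (CommRingCat.of K) ⟶ Spec (CommRingCat.of k.unop.R)) default

/-- Maps of strictly local schemes to étale neighbourhoods reach generisations of the point. -/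
theorem exists_generization {S : Scheme.{u}} (B : Type u) [CommRing B] (j : Spec (CommRingCat.of B) ⟶ S)
    [IsOpenImmersion j] (K : Type u) [Field K] [IsSepClosed K] [Algebra B K] (R : Type u) [CommRing R] [Algebra B R]
    (e : L05.Henselization.Col B K ≃ₐ[B] R) [WeaklyEtale (toBase B R ≫ j)] (k : Idx B K)
    {V : S.Etale} (m : (nb B j K).obj k ⟶ V) (ξ : V.left)
    (h : ξ ⤳ m.left (ptV B j K k)) :
    ∃ r : Spec (CommRingCat.of R), ((specCone B j K R e).π.app k ≫ m.left) r = ξ := by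
  let si : Spec (CommRingCat.of R) ⟶ ((nb B j K).obj k).left := (specCone B j K R e).π.app k
  have hsi : si ≫ ((nb B j K).obj k).hom = toBase B R ≫ j :=
    (Category.assoc _ _ _).symm.trans
      (congrArg (· ≫ j) (StalkRpush.map_toBase B (StalkRpush.toR B K R e k)))
  let l : Spec (CommRingCat.of R) ⟶ V.left := si ≫ m.left
  haveI : AlgebraicGeometry.Etale V.hom := V.prop
  haveI : WeaklyEtale (l ≫ V.hom) := by
    rw [show l ≫ V.hom = toBase B R ≫ j from
      (Category.assoc _ _ _).trans ((congrArg (si ≫ ·) (MorphismProperty.Over.w m)).trans hsi)]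
    infer_instance
  haveI : WeaklyEtale l := WeaklyEtale.of_comp l V.hom
  have hc : l (QC.cpt B K R e default) = m.left (ptV B j K k) := by
    refine (Scheme.Hom.comp_apply si m.left _).trans (congrArg m.left ?_)
    exact (Scheme.Hom.comp_apply (QC.cpt B K R e) si default).symm.trans
      (congrArg (fun q : Spec (CommRingCat.of K) ⟶ Spec (CommRingCat.of k.unop.R) => q default) (QC.cpt_toR B K R e k))
  obtain ⟨r, -, hr⟩ := Flat.generalizingMap l (show ξ ⤳ l (QC.cpt B K R e default) by rw [hc]; exact h)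
  exact ⟨r, hr⟩

variable {X X₀ S : Scheme.{u}} (g : X₀ ⟶ S) (i : X₀ ⟶ X) (F : EtDesc.Sh X)

/-- The hypothesis: sections over strictly local schemes are finitely many and agree with geometric fibres. -/
def GeoPl : Prop :=
  ∀ (R : Type u) [CommRing R] [HenselianLocalRing R] [IsSepClosed (ResidueField R)] (η : Spec (CommRingCat.of R) ⟶ S)
    (Ω : Type u) [Field Ω] [IsAlgClosed Ω] (ω : Spec (CommRingCat.of Ω) ⟶ S)
    (α : Spec (CommRingCat.of Ω) ⟶ Spec (CommRingCat.of R)), α ≫ η = ω →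
    ∀ m : Over.mk (pullback.fst g ω ≫ i) ⟶ Over.mk (pullback.fst g η ≫ i),
      m.left ≫ pullback.fst g η = pullback.fst g ω → m.left ≫ pullback.snd g η = pullback.snd g ω ≫ α →
        Finite ((G F).obj.obj (op (Over.mk (pullback.fst g ω ≫ i)))) ∧ Function.Bijective ((G F).obj.map m.op)

theorem geoPl_of_geo (f : X ⟶ S) {U : S.Opens} (hgeo : Geo f (𝟙 S) F U) :
    GeoPl (f ∣_ U) (f ⁻¹ᵁ U).ι F := by
  intro R _ _ _ η Ω _ _ ω α hα m hm₁ hm₂
  let ψ : R →+* Ω := (Spec.preimage α).hom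
  have hψ : Spec.map (CommRingCat.ofHom ψ) = α := Spec.map_preimage α
  have hT : IsPullback (pullback.fst (f ∣_ U) η ≫ (f ⁻¹ᵁ U).ι) (pullback.snd (f ∣_ U) η) f (η ≫ U.ι) :=
    (IsPullback.of_hasPullback (f ∣_ U) η).paste_horiz (isPullback_morphismRestrict f U).flip
  let ρ : pullback (f ∣_ U) ω ⟶ pullback (f ∣_ U) η := m.left
  have hρ : IsPullback ρ (pullback.snd (f ∣_ U) ω) (pullback.snd (f ∣_ U) η) (Spec.map (CommRingCat.ofHom ψ)) := by
    rw [hψ]
    refine IsPullback.of_right ?_ hm₂ (IsPullback.of_hasPullback (f ∣_ U) η)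
    rw [hm₁, hα]
    exact IsPullback.of_hasPullback (f ∣_ U) ω
  obtain ⟨hfin, hbij⟩ := hgeo R (η ≫ U.ι) (fun x => by
      show (𝟙 S : S ⟶ S) ((η ≫ U.ι) x) ∈ U
      rw [Scheme.Hom.comp_apply]
      exact (η x).2) Ω ψ _ _ hT ρ _ hρ
  let ea : Over.mk (pullback.fst (f ∣_ U) ω ≫ (f ⁻¹ᵁ U).ι) ≅
      Over.mk (ρ ≫ pullback.fst (f ∣_ U) η ≫ (f ⁻¹ᵁ U).ι) := Over.isoMk (Iso.refl _) (by
    show 𝟙 _ ≫ ρ ≫ pullback.fst (f ∣_ U) η ≫ (f ⁻¹ᵁ U).ι = pullback.fst (f ∣_ U) ω ≫ (f ⁻¹ᵁ U).ι
    rw [Category.id_comp, ← Category.assoc, hm₁])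
  haveI := hfin
  exact ⟨Finite.of_equiv _ ((G F).obj.mapIso ea.op).toEquiv,
    bijective_map_of_square F m _ ea (Iso.refl _)
      (Over.OverMorphism.ext ((Category.comp_id _).trans (Category.id_comp _).symm)) hbij⟩

/-- The direct image as an object over `X`. -/
abbrev Kf (V : S.Etale) : Over X := (cT i).obj ((EtCoh.bc g).obj V)

/-- The maps of the objects over `X`. -/
abbrev Km {V W : S.Etale} (a : W ⟶ V) : Kf g i W ⟶ Kf g i V := (cT i).map ((EtCoh.bc g).map a)

theorem Km_comp {V W W' : S.Etale} (a : W ⟶ V) (b : W' ⟶ W) : Km g i b ≫ Km g i a = Km g i (b ≫ a) := by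
  rw [Km, Km, Km, ← Functor.map_comp, ← Functor.map_comp]

variable {g}

/-- The point of an étale scheme as a map of objects over `X`. -/
def pm {Ω : Scheme.{u}} (ω : Ω ⟶ S) (V : S.Etale) (l : Ω ⟶ V.left) (hl : l ≫ V.hom = ω) :
    Over.mk (pullback.fst g ω ≫ i) ⟶ Kf g i V :=
  Over.homMk (pullback.lift (pullback.snd g ω ≫ l) (pullback.fst g ω)
    (by rw [Category.assoc, hl]; exact pullback.condition.symm) : pullback g ω ⟶ pullback V.hom g) (by
    show pullback.lift _ _ _ ≫ pullback.snd V.hom g ≫ i = _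
    rw [← Category.assoc, pullback.lift_snd]
    rfl)

theorem pm_map {Ω : Scheme.{u}} (ω : Ω ⟶ S) {V W : S.Etale} (a : W ⟶ V) (l : Ω ⟶ W.left) (hl : l ≫ W.hom = ω)
    (l' : Ω ⟶ V.left) (hl' : l' ≫ V.hom = ω) (h : l ≫ a.left = l') :
    pm i ω W l hl ≫ Km g i a = pm i ω V l' hl' := by
  refine Over.OverMorphism.ext (pullback.hom_ext ?_ ?_)
  · exact (Category.assoc _ _ _).trans ((whisker_eq _ (EtCoh.isPullback_bc_map g a).w).trans
      ((Category.assoc _ _ _).symm.trans ((eq_whisker (pullback.lift_fst _ _ _) _).trans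
        ((Category.assoc _ _ _).trans ((whisker_eq _ h).trans (pullback.lift_fst _ _ _).symm)))))
  · have e1 : ((EtCoh.bc g).map a).left ≫ pullback.snd V.hom g = pullback.snd W.hom g := pullback.lift_snd _ _ _
    exact (Category.assoc _ _ _).trans ((whisker_eq _ e1).trans ((pullback.lift_snd _ _ _).trans
      (pullback.lift_snd _ _ _).symm))

variable (g) in
/-- Geometric points of strictly local schemes as maps to stages. -/
theorem pm_stage {B : Type u} [CommRing B] (j : Spec (CommRingCat.of B) ⟶ S) [IsOpenImmersion j] {K : Type u} [Field K]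
    [IsSepClosed K] [Algebra B K] {R : Type u} [CommRing R] [Algebra B R] (e : L05.Henselization.Col B K ≃ₐ[B] R)
    (k : Idx B K) {Ω : Scheme.{u}} (ω : Ω ⟶ S) (α : Ω ⟶ Spec (CommRingCat.of R))
    (hl : (α ≫ (specCone B j K R e).π.app k) ≫ ((nb B j K).obj k).hom = ω)
    (m : Over.mk (pullback.fst g ω ≫ i) ⟶ QC.pl g i B j R)
    (hm₁ : m.left ≫ pullback.fst g (toBase B R ≫ j) = pullback.fst g ω)
    (hm₂ : m.left ≫ pullback.snd g (toBase B R ≫ j) = pullback.snd g ω ≫ α) :
    m ≫ QC.toStage g i B j K R e k = pm i ω _ _ hl := by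
  refine Over.OverMorphism.ext (pullback.hom_ext ?_ ?_)
  · exact (Category.assoc _ _ _).trans ((whisker_eq _ (rr_fst g B j K R e k)).trans
      ((Category.assoc _ _ _).symm.trans ((eq_whisker hm₂ _).trans ((Category.assoc _ _ _).trans
        (pullback.lift_fst _ _ _).symm))))
  · exact (Category.assoc _ _ _).trans ((whisker_eq _ (rr_hom g B j K R e k)).trans
      (hm₁.trans (pullback.lift_snd _ _ _).symm))

variable (g)

/-- Geometric points over two points with the same image. -/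
theorem exists_common_point {A₁ A₂ V : Scheme.{u}} (l₁ : A₁ ⟶ V) (l₂ : A₂ ⟶ V) (p₁ : A₁) (p₂ : A₂)
    (h : l₁ p₁ = l₂ p₂) :
    ∃ (Ω : Type u) (_ : Field Ω) (_ : IsAlgClosed Ω) (α₁ : Spec (CommRingCat.of Ω) ⟶ A₁)
      (α₂ : Spec (CommRingCat.of Ω) ⟶ A₂), α₁ ≫ l₁ = α₂ ≫ l₂ := by
  obtain ⟨z, -, -⟩ := Scheme.exists_preimage_of_isPullback (IsPullback.of_hasPullback l₁ l₂) p₁ p₂ h
  obtain ⟨Ω, _, _, ζ, -⟩ := L27.EtSite.CF.exists_algClosed_point z
  exact ⟨Ω, inferInstance, inferInstance, ζ ≫ pullback.fst l₁ l₂, ζ ≫ pullback.snd l₁ l₂, by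
    rw [Category.assoc, Category.assoc, pullback.condition]⟩

/-- The restriction to a geometric point. -/
theorem exists_restr {R : Type u} [CommRing R] (η : Spec (CommRingCat.of R) ⟶ S) {Ω : Scheme.{u}} (ω : Ω ⟶ S)
    (α : Ω ⟶ Spec (CommRingCat.of R)) (hα : α ≫ η = ω) :
    ∃ m : Over.mk (pullback.fst g ω ≫ i) ⟶ Over.mk (pullback.fst g η ≫ i),
      m.left ≫ pullback.fst g η = pullback.fst g ω ∧ m.left ≫ pullback.snd g η = pullback.snd g ω ≫ α := by
  let l : pullback g ω ⟶ pullback g η := pullback.lift (pullback.fst g ω) (pullback.snd g ω ≫ α)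
    (by rw [Category.assoc, hα]; exact pullback.condition)
  exact ⟨Over.homMk l (by
    show l ≫ pullback.fst g η ≫ i = _
    rw [← Category.assoc, pullback.lift_fst]
    rfl), pullback.lift_fst _ _ _, pullback.lift_snd _ _ _⟩

theorem exists_lift_finite (B : Type u) [CommRing B] (j : Spec (CommRingCat.of B) ⟶ S) [IsOpenImmersion j]
    (K : Type u) [Field K] [IsSepClosed K] [Algebra B K] [Nonempty (Idx B K)] {M : Type (u + 1)} [Finite M]
    (ix : M → Idx B K) : ∃ k : Idx B K, ∀ m, Nonempty (k ⟶ ix m) := by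
  classical
  haveI : IsCofiltered (Idx B K) := { }
  obtain ⟨k, hk⟩ := IsCofiltered.inf_objs_exists ((Set.finite_range ix).toFinset : Finset (Idx B K))
  exact ⟨k, fun m => hk ((Set.Finite.mem_toFinset _).mpr ⟨m, rfl⟩)⟩

variable [QuasiCompact g] [QuasiSeparated g] [AlgebraicGeometry.IsNoetherian S]

set_option maxHeartbeats 2000000 in
/-- Trivialising sections exist near every point. -/
theorem exists_triv (hgeo : GeoPl g i F) (s : S) :
    ∃ (V : S.Etale) (v : V.left) (M : Type (u + 1)) (c : M → (G F).obj.obj (op (Kf g i V))), V.hom v = s ∧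
      (∀ (W : S.Etale) (a : W ⟶ V), Nonempty W.left → ∀ m n,
        (G F).obj.map (Km g i a).op (c m) = (G F).obj.map (Km g i a).op (c n) → m = n) ∧
      ∀ (W : S.Etale) (a : W ⟶ V) (x : (G F).obj.obj (op (Kf g i W))) (w : W.left),
        ∃ (W' : S.Etale) (d : W' ⟶ W) (w' : W'.left) (m : M), d.left w' = w ∧
          (G F).obj.map (Km g i d).op x = (G F).obj.map (Km g i (d ≫ a)).op (c m) := by
  obtain ⟨B, _, j, _, K, _, _, _, R, _, _, e, hs, hR, hk, hwe⟩ := exists_strict_at s
  haveI := hR; haveI := hwe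
  haveI : IsSepClosed (ResidueField R) := hk
  let η : Spec (CommRingCat.of R) ⟶ S := toBase B R ≫ j
  let M : Type (u + 1) := (G F).obj.obj (op (QC.pl g i B j R))
  haveI : Finite M := by
    let Ω := AlgebraicClosure (ResidueField R)
    let α : Spec (CommRingCat.of Ω) ⟶ Spec (CommRingCat.of R) :=
      Spec.map (CommRingCat.ofHom ((algebraMap (ResidueField R) Ω).comp (residue R)))
    obtain ⟨m, hm₁, hm₂⟩ := exists_restr g i η (α ≫ η) α rfl
    obtain ⟨hfin, hb⟩ := hgeo R η Ω (α ≫ η) α rfl m hm₁ hm₂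
    haveI := hfin
    exact Finite.of_injective _ hb.1
  -- the common stage
  haveI : Nonempty (Idx B K) := by
    let T₀ : S.Etale := EtCoh.top S
    obtain ⟨y, -⟩ := EtSite.exists_fiber (bPt B j K) T₀ (bPt B j K default) rfl
    exact ⟨(StalkRpush.exists_dom B j K T₀ y).choose⟩
  choose ix zx hzx using fun m : M => QC.exists_stage_pl g i F B j K R e m
  obtain ⟨k, hkm⟩ := exists_lift_finite B j K ix
  let V₀ := (nb B j K).obj k
  let v₀ : V₀.left := ptV B j K k
  let z : M → (G F).obj.obj (op (Kf g i V₀)) := fun m =>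
    (G F).obj.map (Km g i ((nb B j K).map (hkm m).some)).op (zx m)
  have hz : ∀ m, (G F).obj.map (QC.toStage g i B j K R e k).op (z m) = m := fun m => by
    show (G F).obj.map _ ((G F).obj.map _ (zx m)) = m
    rw [map_comp', Km, QC.toStage_map g i B j K R e]
    exact hzx m
  -- the neighbourhood
  haveI : AlgebraicGeometry.Etale V₀.hom := V₀.prop
  haveI := StalkRpush.etale_str B j k.unop.R
  haveI hLN : IsLocallyNoetherian (Spec (CommRingCat.of k.unop.R)) :=
    LocallyOfFiniteType.isLocallyNoetherian (toBase B k.unop.R ≫ j)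
  haveI : AlgebraicGeometry.IsNoetherian V₀.left :=
    { toIsLocallyNoetherian := hLN, toCompactSpace := inferInstanceAs (CompactSpace (Spec (CommRingCat.of k.unop.R))) }
  let bad : Set V₀.left := ⋃₀ {Z ∈ irreducibleComponents V₀.left | v₀ ∉ Z}
  have hbad : IsClosed bad := by
    show IsClosed (⋃₀ _)
    rw [Set.sUnion_eq_biUnion]
    exact (NoetherianSpace.finite_irreducibleComponents.subset (Set.sep_subset _ _)).isClosed_biUnion
      fun Z hZ => isClosed_of_mem_irreducibleComponents Z hZ.1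
  let O : V₀.left.Opens := ⟨badᶜ, hbad.isOpen_compl⟩
  have hvO : v₀ ∈ O := fun ⟨Z, hZ, hv⟩ => hZ.2 hv
  have hgen : ∀ p ∈ O, ∃ ξ : V₀.left, ξ ⤳ p ∧ ξ ⤳ v₀ := fun p hp => by
    let Z : Set V₀.left := irreducibleComponent p
    have hZ : IsIrreducible Z := isIrreducible_irreducibleComponent
    have hv : v₀ ∈ Z := by
      by_contra hv
      exact hp ⟨Z, ⟨irreducibleComponent_mem_irreducibleComponents p, hv⟩, mem_irreducibleComponent⟩
    exact ⟨hZ.genericPoint, hZ.isGenericPoint_genericPoint isClosed_irreducibleComponent |>.specializes mem_irreducibleComponent,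
      hZ.isGenericPoint_genericPoint isClosed_irreducibleComponent |>.specializes hv⟩
  let V : S.Etale := Scheme.Etale.mk (O.ι ≫ V₀.hom)
  let a₀ : V ⟶ V₀ := MorphismProperty.Over.homMk O.ι rfl
  have ha₀ : ∀ v : V.left, a₀.left v ∈ O := fun v => (show ↥O from v).2
  have hvs : V₀.hom v₀ = s :=
    (Scheme.Hom.comp_apply (Spec.map (CommRingCat.ofHom k.unop.φ.toRingHom) :
      Spec (CommRingCat.of K) ⟶ Spec (CommRingCat.of k.unop.R)) (toBase B k.unop.R ≫ j) default).symm.trans
      ((congrArg (fun q : Spec (CommRingCat.of K) ⟶ S => q default) (Over.w (pt B j K k))).trans hs)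
  let c : M → (G F).obj.obj (op (Kf g i V)) := fun m => (G F).obj.map (Km g i a₀).op (z m)
  let si : Spec (CommRingCat.of R) ⟶ V₀.left := (specCone B j K R e).π.app k
  have hsi : si ≫ V₀.hom = η :=
    (Category.assoc _ _ _).symm.trans (congrArg (· ≫ j) (StalkRpush.map_toBase B (StalkRpush.toR B K R e k)))
  -- points of the neighbourhood see all values
  have hlift : ∀ ξ, ξ ⤳ v₀ → ∃ r, si r = ξ := fun ξ hξ => by
    obtain ⟨r, hr⟩ := exists_generization B j K R e k (𝟙 V₀) ξ hξ
    exact ⟨r, (congrArg (fun q : Spec (CommRingCat.of R) ⟶ V₀.left => q r) (Category.comp_id si)).symm.trans hr⟩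
  have key : ∀ (W : S.Etale) (a : W ⟶ V) {Ω : Type u} [Field Ω] [IsAlgClosed Ω]
      (α : Spec (CommRingCat.of Ω) ⟶ Spec (CommRingCat.of R)) (l : Spec (CommRingCat.of Ω) ⟶ W.left),
      α ≫ si = l ≫ (a ≫ a₀).left → ∃ (ω : Spec (CommRingCat.of Ω) ⟶ S) (hl : l ≫ W.hom = ω)
        (r : Over.mk (pullback.fst g ω ≫ i) ⟶ QC.pl g i B j R), Function.Bijective ((G F).obj.map r.op) ∧
          ∀ m, (G F).obj.map (pm i ω W l hl).op ((G F).obj.map (Km g i a).op (c m)) = (G F).obj.map r.op m := by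
    intro W a Ω _ _ α l h
    have hl : l ≫ W.hom = α ≫ η := by
      rw [← hsi, ← MorphismProperty.Over.w (a ≫ a₀)]
      exact (Category.assoc _ _ _).symm.trans ((congrArg (· ≫ V₀.hom) h.symm).trans (Category.assoc _ _ _))
    obtain ⟨r, hr₁, hr₂⟩ := exists_restr g i η (α ≫ η) α rfl
    have hl₀ : (α ≫ si) ≫ V₀.hom = α ≫ η := by rw [Category.assoc, hsi]
    refine ⟨α ≫ η, hl, r, (hgeo R η Ω (α ≫ η) α rfl r hr₁ hr₂).2, fun m => ?_⟩
    show (G F).obj.map _ ((G F).obj.map _ ((G F).obj.map (Km g i a₀).op (z m))) = _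
    rw [map_comp', map_comp', Category.assoc, Km_comp, pm_map i (α ≫ η) (a ≫ a₀) l hl _ hl₀ h.symm]
    refine (congrArg (fun q => (G F).obj.map q.op (z m)) (pm_stage g i j e k (α ≫ η) α hl₀ r hr₁ hr₂).symm).trans ?_
    rw [← map_comp', hz]
  refine ⟨V, ⟨v₀, hvO⟩, M, c, ?_, fun W a ⟨w⟩ m n h => ?_, fun W a x w => ?_⟩
  · exact (Scheme.Hom.comp_apply _ _ _).trans hvs
  · obtain ⟨ξ, hξ, hξv⟩ := hgen _ (ha₀ (a.left w))
    obtain ⟨ω₀, -, hω₀⟩ := Flat.generalizingMap (a ≫ a₀).left (show ξ ⤳ (a ≫ a₀).left w from hξ)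
    obtain ⟨r, hr⟩ := hlift ξ hξv
    obtain ⟨Ω, _, _, α, l, hαl⟩ := exists_common_point si (a ≫ a₀).left r ω₀ (hr.trans hω₀.symm)
    obtain ⟨ω, hl, res, hres, hval⟩ := key W a α l hαl
    exact hres.1 (by rw [← hval, h, hval])
  -- the values near a point
  obtain ⟨B', _, j', _, K', _, _, _, R', _, _, e', hs', hR', hk', hwe'⟩ := exists_strict_at (W.hom w)
  haveI := hR'; haveI := hwe'
  haveI : IsSepClosed (ResidueField R') := hk'
  obtain ⟨y, hy⟩ := EtSite.exists_fiber (bPt B' j' K') W w hs'.symm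
  obtain ⟨k', m₀, hm₀⟩ := StalkRpush.exists_dom B' j' K' W y
  have hw : m₀.left (ptV B' j' K' k') = w := by
    rw [← hy, ← hm₀]
    exact (Scheme.Hom.comp_apply _ _ _).symm
  let W₀ := (nb B' j' K').obj k'
  let si' : Spec (CommRingCat.of R') ⟶ W₀.left := (specCone B' j' K' R' e').π.app k'
  have hsi' : si' ≫ W₀.hom = toBase B' R' ≫ j' :=
    (Category.assoc _ _ _).symm.trans (congrArg (· ≫ j') (StalkRpush.map_toBase B' (StalkRpush.toR B' K' R' e' k')))
  obtain ⟨ξ, hξ, hξv⟩ := hgen _ (ha₀ (a.left w))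
  obtain ⟨r', hr'⟩ := exists_generization B' j' K' R' e' k' (m₀ ≫ a ≫ a₀) ξ (by
    refine hξ.trans (specializes_of_eq ?_)
    show _ = (m₀ ≫ a ≫ a₀).left (ptV B' j' K' k')
    conv_lhs => rw [← hw]
    exact (Scheme.Hom.comp_apply _ _ _).symm.trans (by rfl))
  obtain ⟨r, hr⟩ := hlift ξ hξv
  obtain ⟨Ω, _, _, α, α', hαα⟩ := exists_common_point si (si' ≫ (m₀ ≫ a ≫ a₀).left) r r' (hr.trans hr'.symm)
  obtain ⟨ω, hl, res, hres, hval⟩ := key W₀ (m₀ ≫ a) α (α' ≫ si') (by
    rw [hαα, Category.assoc]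
    rfl)
  have hα' : α' ≫ toBase B' R' ≫ j' = ω := by rw [← hsi', ← hl, Category.assoc]
  obtain ⟨res', hres'₁, hres'₂⟩ := exists_restr g i (toBase B' R' ≫ j') ω α' hα'
  have hres' := (hgeo R' (toBase B' R' ≫ j') Ω ω α' hα' res' hres'₁ hres'₂).2
  let x₀ : (G F).obj.obj (op (Kf g i W₀)) := (G F).obj.map (Km g i m₀).op x
  obtain ⟨m, hm⟩ := hres.2 ((G F).obj.map (pm i ω W₀ (α' ≫ si') hl).op x₀)
  let y₀ : (G F).obj.obj (op (Kf g i W₀)) := (G F).obj.map (Km g i (m₀ ≫ a)).op (c m)
  have hR : (G F).obj.map (QC.toStage g i B' j' K' R' e' k').op x₀ =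
      (G F).obj.map (QC.toStage g i B' j' K' R' e' k').op y₀ := by
    refine hres'.1 ?_
    have hps := pm_stage g i j' e' k' ω α' hl res' hres'₁ hres'₂
    have hre : ∀ z : (G F).obj.obj (op (Kf g i W₀)), (G F).obj.map res'.op
        ((G F).obj.map (QC.toStage g i B' j' K' R' e' k').op z) = (G F).obj.map (pm i ω W₀ (α' ≫ si') hl).op z :=
      fun z => (map_comp' F _ _ z).trans (congrArg (fun q => (G F).obj.map q.op z) hps)
    exact (hre x₀).trans (hm.symm.trans ((hval m).symm.trans (hre y₀).symm))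
  obtain ⟨l, q, hq⟩ := QC.exists_eq_pl g i F B' j' K' R' e' k' x₀ y₀ hR
  refine ⟨(nb B' j' K').obj l, (nb B' j' K').map q ≫ m₀, ptV B' j' K' l, m, ?_, ?_⟩
  · have e1 : (((pt B' j' K' l).left : Spec (CommRingCat.of K') ⟶ Spec (CommRingCat.of l.unop.R)) ≫
        StalkRpush.trans B' K' q) (default : Spec (CommRingCat.of K')) = ptV B' j' K' k' :=
      congrArg (fun p : Spec (CommRingCat.of K') ⟶ Spec (CommRingCat.of k'.unop.R) => p default)
        (congrArg (fun p => p.left) (StalkRpush.map_pt B' j' K' q))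
    rw [← hw]
    refine (Scheme.Hom.comp_apply _ _ _).trans (congrArg m₀.left ?_)
    exact (Scheme.Hom.comp_apply _ _ _).symm.trans e1
  · have h1 : (G F).obj.map (Km g i ((nb B' j' K').map q)).op x₀ =
        (G F).obj.map (Km g i ((nb B' j' K').map q)).op y₀ := hq
    simp only [x₀, y₀] at h1
    rw [map_comp', map_comp', Km_comp, Km_comp] at h1
    rw [Category.assoc]
    exact h1

end Groth.L23.CohProp

namespace Groth.L23.CohProp

open Groth.L27 Groth.L27.BigSets
open Groth.L27.Fppf (cT)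

/-- Direct images with finite stalks invariant under specialisation are locally constant. -/
theorem isLocConstSet_push {X X₀ S : Scheme.{u}} (g : X₀ ⟶ S) (i : X₀ ⟶ X) (F : EtDesc.Sh X) [QuasiCompact g]
    [QuasiSeparated g] [AlgebraicGeometry.IsNoetherian S] (hgeo : GeoPl g i F) :
    CohProp.IsLocConstSet ((EtDesc.pushSh g).obj ((EtDesc.pullSh i).obj F)) := by
  haveI := isIso_theta i F
  let K : EtDesc.Sh S := (EtDesc.pushSh g).obj (GT i F)
  let eK : (EtDesc.pushSh g).obj ((EtDesc.pullSh i).obj F) ≅ K := (EtDesc.pushSh g).mapIso (asIso (theta i F))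
  choose V v M c hv hinj hloc using exists_triv g i F hgeo
  refine ⟨S, V, fun s => ⟨s, v s, hv s⟩, fun s => ⟨M s, ?_⟩⟩
  let η : (Over.forget (V s)).op ⋙ (Functor.const S.Etaleᵒᵖ).obj (M s) ⟶ (Over.forget (V s)).op ⋙ K.obj :=
    { app := fun W => TypeCat.ofHom fun m => (G F).obj.map (Km g i W.unop.hom).op (c s m)
      naturality := fun W W' φ => ConcreteCategory.hom_ext _ _ fun m => by
        show (G F).obj.map (Km g i W'.unop.hom).op (c s m) =
          (G F).obj.map (Km g i φ.unop.left).op ((G F).obj.map (Km g i W.unop.hom).op (c s m))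
        rw [map_comp', Km_comp, Over.w φ.unop] }
  haveI : Presheaf.IsLocallyInjective (S.smallEtaleTopology.over (V s)) η := by
    refine ⟨fun {W} k l h => ?_⟩
    rcases eq_or_ne k l with rfl | hkl
    · rw [Presheaf.equalizerSieve_self_eq_top]
      exact GrothendieckTopology.top_mem _ _
    refine GrothendieckTopology.superset_covering _ bot_le ?_
    rw [GrothendieckTopology.mem_over_iff, EtSite.mem_topology_iff]
    exact fun z => (hkl (hinj s W.unop.left W.unop.hom ⟨z⟩ k l h)).elim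
  haveI : Presheaf.IsLocallySurjective (S.smallEtaleTopology.over (V s)) η := by
    refine ⟨fun {W} h => ?_⟩
    rw [GrothendieckTopology.mem_over_iff, EtSite.mem_topology_iff]
    intro z
    obtain ⟨W', d, w', m, hw, hd⟩ := hloc s W.left W.hom h z
    refine ⟨W', d, w', ?_, hw⟩
    rw [Sieve.overEquiv_iff]
    exact ⟨m, hd.symm⟩
  obtain ⟨e⟩ := Groth.Agent.S19554.over_iso_const.{u} S.smallEtaleTopology (V s) K.obj η
  exact ⟨(S.smallEtaleTopology.overPullback (Type (u + 1)) (V s)).mapIso (eK ≪≫ sheafificationIso K) ≪≫ e⟩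

end Groth.L23.CohProp
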