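import Groth.Agent.L23.CohProp.TopExt
import Groth.Agent.L23.DenseOpen.Milnor
import Groth.Agent.L20.GeomFibre
import Mathlib.RingTheory.IntegralClosure.IntegrallyClosed

/-! # Milnor condition for opens dense in the fibres of normal morphisms -/

universe u

open CategoryTheory CategoryTheory.Limits AlgebraicGeometry TopologicalSpace IsLocalRing

set_option autoImplicit false
set_option maxHeartbeats 800000
set_option maxSynthPendingDepth 3
set_option backward.isDefEq.respectTransparency.types false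
set_option linter.style.haveILetI false
set_option linter.unusedSectionVars false
set_option linter.unusedVariables false

noncomputable section

namespace Groth.L23.CohProp

/-- The geometric fibres of a morphism are normal. -/
def NormFib {N S : Scheme.{u}} (a : N ⟶ S) : Prop :=
  ∀ (Ω : Type u) [Field Ω] [IsAlgClosed Ω] (η : Spec (CommRingCat.of Ω) ⟶ S) (Z : Scheme.{u}) (g : Z ⟶ N)
    (s : Z ⟶ Spec (CommRingCat.of Ω)), IsPullback g s a η →
      ∀ z : Z, IsDomain (Z.presheaf.stalk z) ∧ IsIntegrallyClosed (Z.presheaf.stalk z)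

theorem normFib_of_pullback {N S : Scheme.{u}} (a : N ⟶ S)
    (h : ∀ (Ω : Type u) [Field Ω] [IsAlgClosed Ω] (η : Spec (CommRingCat.of Ω) ⟶ S) (z : ↥(pullback a η)),
      IsDomain ((pullback a η).presheaf.stalk z) ∧ IsIntegrallyClosed ((pullback a η).presheaf.stalk z)) :
    NormFib a := by
  intro Ω _ _ η Z g s hp z
  let e : Z ⟶ pullback a η := hp.isoPullback.hom
  obtain ⟨h1, h2⟩ := h Ω η (e z)
  haveI := h1; haveI := h2
  let σ : (pullback a η).presheaf.stalk (e z) ≃+* Z.presheaf.stalk z := (asIso (e.stalkMap z)).commRingCatIsoToRingEquiv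
  exact ⟨σ.symm.toMulEquiv.isDomain, IsIntegrallyClosed.of_equiv σ⟩

theorem NormFib.baseChange {N S N' S' : Scheme.{u}} {a : N ⟶ S} (hn : NormFib a) {ν : N' ⟶ N} {a' : N' ⟶ S'}
    {p : S' ⟶ S} (h : IsPullback ν a' a p) : NormFib a' :=
  fun Ω _ _ η Z g s hp z => hn Ω (η ≫ p) Z (g ≫ ν) s (hp.paste_horiz h) z

/-- Stalk maps of weakly étale morphisms are weakly étale. -/
theorem weaklyEtale_stalkMap {M Z : Scheme.{u}} (μ : M ⟶ Z) [WeaklyEtale μ] (m : M) :
    letI := (μ.stalkMap m).hom.toAlgebra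
    Algebra.WeaklyEtale (Z.presheaf.stalk (μ m)) (M.presheaf.stalk m) := by
  let O := Z.presheaf.stalk (μ m)
  let O' := M.presheaf.stalk m
  obtain ⟨U, hU, hzU, -⟩ := exists_isAffineOpen_mem_and_subset (X := Z) (x := μ m) (U := ⊤) trivial
  obtain ⟨N, hN, hmN, eN⟩ := exists_isAffineOpen_mem_and_subset (X := M) (x := m) (U := μ ⁻¹ᵁ U) hzU
  replace eN : N ≤ μ ⁻¹ᵁ U := eN
  letI : Algebra Γ(Z, U) Γ(M, N) := (μ.appLE U N eN).hom.toAlgebra
  haveI : Algebra.WeaklyEtale Γ(Z, U) Γ(M, N) :=
    (L20.weaklyEtale_specMap_iff (μ.appLE U N eN)).1 (L20.weaklyEtale_specMap_appLE μ hN hU eN)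
  letI : Algebra Γ(Z, U) O := (Z.presheaf.germ U (μ m) hzU).hom.toAlgebra
  letI : Algebra Γ(M, N) O' := (M.presheaf.germ N m hmN).hom.toAlgebra
  letI : Algebra Γ(Z, U) O' := ((algebraMap Γ(M, N) O').comp (algebraMap Γ(Z, U) Γ(M, N))).toAlgebra
  haveI : IsScalarTower Γ(Z, U) Γ(M, N) O' := IsScalarTower.of_algebraMap_eq' rfl
  letI : Algebra O O' := (μ.stalkMap m).hom.toAlgebra
  haveI : IsScalarTower Γ(Z, U) O O' := IsScalarTower.of_algebraMap_eq fun a => by
    show ((μ.appLE U N eN) ≫ M.presheaf.germ N m hmN).hom a = ((Z.presheaf.germ U (μ m) hzU) ≫ μ.stalkMap m).hom a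
    rw [Scheme.Hom.germ_stalkMap, Scheme.Hom.appLE, Category.assoc, M.presheaf.germ_res]
  haveI : IsLocalization.AtPrime O (hU.primeIdealOf ⟨μ m, hzU⟩).asIdeal := hU.isLocalization_stalk ⟨μ m, hzU⟩
  haveI : IsLocalization.AtPrime O' (hN.primeIdealOf ⟨m, hmN⟩).asIdeal := hN.isLocalization_stalk ⟨m, hmN⟩
  haveI := L20.weaklyEtale_isLocalization (hU.primeIdealOf ⟨μ m, hzU⟩).asIdeal.primeCompl O
  haveI := L20.weaklyEtale_isLocalization (hN.primeIdealOf ⟨m, hmN⟩).asIdeal.primeCompl O'
  haveI : Algebra.WeaklyEtale Γ(Z, U) O' := Algebra.WeaklyEtale.trans Γ(Z, U) Γ(M, N) O'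
  obtain ⟨h1, h2⟩ := L20.TorAmp.weaklyEtale_cancel Γ(Z, U) O O'
  exact ⟨h1, h2⟩

/-- A scheme weakly étale over a normal scheme has domains as local rings. -/
theorem isDomain_stalk_of_weaklyEtale {M Z : Scheme.{u}} (μ : M ⟶ Z) [WeaklyEtale μ] (m : M)
    [IsDomain (Z.presheaf.stalk (μ m))] [IsIntegrallyClosed (Z.presheaf.stalk (μ m))] :
    IsDomain (M.presheaf.stalk m) := by
  let O := Z.presheaf.stalk (μ m)
  let O' := M.presheaf.stalk m
  letI : Algebra O O' := (μ.stalkMap m).hom.toAlgebra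
  haveI : IsLocalHom (algebraMap O O') := inferInstanceAs (IsLocalHom (μ.stalkMap m).hom)
  haveI : Algebra.WeaklyEtale O O' := weaklyEtale_stalkMap μ m
  obtain ⟨C, _, _, _, _, hC⟩ := L05.Henselization.exists_isStrictHenselization O'
  haveI := hC
  haveI : HenselianLocalRing C := hC.henselian
  haveI : IsSepClosed (ResidueField C) := hC.isSepClosure.sep_closed
  haveI : Algebra.WeaklyEtale O' C :=
    L27.IndEtale.weaklyEtale _ _ (L05.Henselization.isIndEtale_of_isStrictHenselization O' C)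
  letI : Algebra O C := ((algebraMap O' C).comp (algebraMap O O')).toAlgebra
  haveI : IsScalarTower O O' C := IsScalarTower.of_algebraMap_eq' rfl
  haveI : IsLocalHom (algebraMap O C) := RingHom.isLocalHom_comp _ _
  haveI : Algebra.WeaklyEtale O C := Algebra.WeaklyEtale.trans O O' C
  haveI := L05.HensTensor.isStrictHenselization_of_weaklyEtale O C
  haveI : IsDomain C := (Groth.L05.Henselization.Branches.geomUnibranch_iff_isDomain_strict (R := O) (S := C)).1
    ⟨inferInstance, Groth.L16.Connected.isGeomUnibranch_of_normal⟩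
  haveI : Module.Flat O' C := Algebra.WeaklyEtale.flat
  haveI : Module.FaithfullyFlat O' C := Module.FaithfullyFlat.of_flat_of_isLocalHom
  exact Function.Injective.isDomain (algebraMap O' C) (FaithfulSMul.algebraMap_injective O' C)

/-- Reducedness of all fibres from normality of the geometric ones. -/
theorem NormFib.isReduced {N S : Scheme.{u}} {a : N ⟶ S} (hn : NormFib a) (K : Type u) [Field K]
    (k : Spec (CommRingCat.of K) ⟶ S) : AlgebraicGeometry.IsReduced (pullback a k) := by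
  let L := AlgebraicClosure K
  let σ : Spec (CommRingCat.of L) ⟶ Spec (CommRingCat.of K) := Spec.map (CommRingCat.ofHom (algebraMap K L))
  haveI : Surjective σ := ⟨fun x => ⟨default, Subsingleton.elim (α := Spec (CommRingCat.of K)) _ _⟩⟩
  haveI : Flat σ := (HasRingHomProperty.Spec_iff (P := @Flat)).2 (RingHom.flat_algebraMap_iff.2 inferInstance)
  let θ := pullback.fst (pullback.snd a k) σ
  haveI : Surjective θ := MorphismProperty.pullback_fst _ _ ‹Surjective σ›
  haveI : Flat θ := MorphismProperty.pullback_fst _ _ ‹Flat σ›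
  have hp : IsPullback (θ ≫ pullback.fst a k) (pullback.snd (pullback.snd a k) σ) a (σ ≫ k) :=
    (IsPullback.of_hasPullback (pullback.snd a k) σ).paste_horiz (IsPullback.of_hasPullback a k)
  haveI : AlgebraicGeometry.IsReduced (pullback (pullback.snd a k) σ) := by
    haveI : ∀ z : ↥(pullback (pullback.snd a k) σ),
        _root_.IsReduced ((pullback (pullback.snd a k) σ).presheaf.stalk z) := fun z => by
      haveI := (hn L (σ ≫ k) _ _ _ hp z).1
      infer_instance
    exact isReduced_of_isReduced_stalk _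
  exact Groth.L20.isReduced_of_surjective_of_flat θ

variable {N S N' S' Q : Scheme.{u}} (a : N ⟶ S) [Flat a] [LocallyOfFinitePresentation a] [QuasiSeparatedSpace N]

/-- The Milnor condition holds for opens dense in the fibres of a flat morphism with normal geometric fibres, on
weakly étale schemes over base changes. -/
theorem milnor_of_normFib (hn : NormFib a) (V : N.Opens) (hVc : IsCompact (V : Set N))
    (hd : ∀ w : N, w ∈ closure ((V : Set N) ∩ {y | a y = a w}))
    (ν : N' ⟶ N) (a' : N' ⟶ S') (p : S' ⟶ S) (h : IsPullback ν a' a p) (μ : Q ⟶ N') [WeaklyEtale μ] :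
    Milnor ((μ ≫ ν) ⁻¹' (V : Set N)) := by
  intro m
  haveI : Flat a' := MorphismProperty.of_isPullback (P := @Flat) h inferInstance
  haveI : LocallyOfFinitePresentation a' :=
    MorphismProperty.of_isPullback (P := @LocallyOfFinitePresentation) h inferInstance
  let O' := Q.presheaf.stalk m
  let O := N'.presheaf.stalk (μ m)
  letI : Algebra O O' := (μ.stalkMap m).hom.toAlgebra
  haveI : IsLocalHom (algebraMap O O') := inferInstanceAs (IsLocalHom (μ.stalkMap m).hom)
  haveI : Algebra.WeaklyEtale O O' := weaklyEtale_stalkMap μ m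
  obtain ⟨C, _, _, _, _, hC⟩ := L05.Henselization.exists_isStrictHenselization O'
  haveI := hC
  haveI : HenselianLocalRing C := hC.henselian
  haveI : IsSepClosed (ResidueField C) := hC.isSepClosure.sep_closed
  haveI : Algebra.WeaklyEtale O' C :=
    L27.IndEtale.weaklyEtale _ _ (L05.Henselization.isIndEtale_of_isStrictHenselization O' C)
  letI : Algebra O C := ((algebraMap O' C).comp (algebraMap O O')).toAlgebra
  haveI : IsScalarTower O O' C := IsScalarTower.of_algebraMap_eq' rfl
  haveI : IsLocalHom (algebraMap O C) := RingHom.isLocalHom_comp _ _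
  haveI : Algebra.WeaklyEtale O C := Algebra.WeaklyEtale.trans O O' C
  haveI := L05.HensTensor.isStrictHenselization_of_weaklyEtale O C
  let bQ := Hens2.specOf Q m C
  let bP := Hens2.specOf N' (μ m) C
  have hbQ : bQ ≫ μ = bP := by
    show (Spec.map _ ≫ Q.fromSpecStalk m) ≫ μ = Spec.map _ ≫ N'.fromSpecStalk (μ m)
    rw [Category.assoc, ← Scheme.SpecMap_stalkMap_fromSpecStalk, ← Spec.map_comp_assoc]
    rfl
  have hrange : Set.range bQ = {d | d ⤳ m} := by
    show Set.range (Spec.map (CommRingCat.ofHom (algebraMap O' C)) ≫ Q.fromSpecStalk m) = _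
    haveI : Module.Flat O' C := Algebra.WeaklyEtale.flat
    haveI : Module.FaithfullyFlat O' C := Module.FaithfullyFlat.of_flat_of_isLocalHom
    have hs : Function.Surjective (Spec.map (CommRingCat.ofHom (algebraMap O' C))) :=
      PrimeSpectrum.comap_surjective_of_faithfullyFlat
    rw [Scheme.Hom.comp_base, TopCat.coe_comp, hs.range_comp, Scheme.range_fromSpecStalk]
  suffices hcon : _root_.IsConnected ((bP ≫ ν) ⁻¹' (V : Set N)) by
    have e : ((μ ≫ ν) ⁻¹' (V : Set N)) ∩ {d | d ⤳ m} = bQ '' ((bP ≫ ν) ⁻¹' (V : Set N)) := by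
      rw [← hrange, ← Set.image_preimage_eq_inter_range]
      refine congrArg (bQ '' ·) ?_
      rw [← hbQ, Category.assoc]
      rfl
    rw [e]
    exact hcon.image _ bQ.continuous.continuousOn
  obtain ⟨RS, _, _, _, _, hRS⟩ := L05.Henselization.exists_isStrictHenselization (S'.presheaf.stalk (a'.base (μ m)))
  haveI := hRS
  haveI : HenselianLocalRing RS := hRS.henselian
  haveI : IsSepClosed (ResidueField RS) := hRS.isSepClosure.sep_closed
  obtain ⟨ψ, _, hψ⟩ := L27.StalkBC.exists_strictMap a' (μ m) RS C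
  let bS := Hens2.specOf S' (a'.base (μ m)) RS
  let sψ := Spec.map (CommRingCat.ofHom ψ)
  haveI : WeaklyEtale bP := L27.Acyclic0.weaklyEtale_fromStrict (μ m) C
  haveI : WeaklyEtale bS := L27.Acyclic0.weaklyEtale_fromStrict (a'.base (μ m)) RS
  have hsq : sψ ≫ bS = bP ≫ a' := L27.StalkBC.specOf_comp a' (μ m) RS C ψ hψ
  let e : Spec (CommRingCat.of C) ⟶ pullback a' bS := pullback.lift bP sψ hsq.symm
  haveI : WeaklyEtale (e ≫ pullback.fst a' bS) := by rw [pullback.lift_fst]; infer_instance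
  haveI : WeaklyEtale e := WeaklyEtale.of_comp e (pullback.fst a' bS)
  haveI : Flat (pullback.snd a' bS) := MorphismProperty.pullback_snd _ _ ‹Flat a'›
  haveI : Flat sψ := by
    rw [← show e ≫ pullback.snd a' bS = sψ from pullback.lift_snd _ _ _]; infer_instance
  -- the geometric fibres
  have hfib : ∀ (Ω : Type u) [Field Ω] [IsAlgClosed Ω] (η : Spec (CommRingCat.of Ω) ⟶ Spec (CommRingCat.of RS)),
      _root_.IsConnected ((pullback.fst sψ η ≫ bP ≫ ν) ⁻¹' (V : Set N)) := fun Ω _ _ η => by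
    haveI : ConnectedSpace ↥(pullback sψ η) :=
      L27.Acyclic0.shConnected_of_flat_geomReduced a' (fun K _ k => (hn.baseChange h).isReduced K k)
        (Or.inr inferInstance) (μ m) RS C ψ hψ Ω η
    let Z := pullback (pullback.snd a' bS) η
    let μ₁ : pullback sψ η ⟶ Z :=
      pullback.lift (pullback.fst sψ η ≫ e) (pullback.snd sψ η)
        (by rw [Category.assoc, pullback.lift_snd]; exact pullback.condition)
    have hμ : IsPullback (pullback.fst sψ η) μ₁ e (pullback.fst (pullback.snd a' bS) η) := by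
      refine IsPullback.of_bot (v₂₁ := pullback.snd (pullback.snd a' bS) η) (v₂₂ := pullback.snd a' bS) ?_
        (pullback.lift_fst _ _ _).symm (IsPullback.of_hasPullback _ _)
      rw [pullback.lift_snd, pullback.lift_snd]
      exact IsPullback.of_hasPullback sψ η
    haveI : WeaklyEtale μ₁ := MorphismProperty.of_isPullback (P := @WeaklyEtale) hμ inferInstance
    let r : Z ⟶ N := pullback.fst (pullback.snd a' bS) η ≫ pullback.fst a' bS ≫ ν
    let s : Z ⟶ Spec (CommRingCat.of Ω) := pullback.snd (pullback.snd a' bS) η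
    let η₀ : Spec (CommRingCat.of Ω) ⟶ S := η ≫ bS ≫ p
    have hr : IsPullback r s a η₀ :=
      (IsPullback.of_hasPullback (pullback.snd a' bS) η).paste_horiz
        ((IsPullback.of_hasPullback a' bS).paste_horiz h)
    let μ₀ : pullback sψ η ⟶ N := pullback.fst sψ η ≫ bP ≫ ν
    have hμr : μ₁ ≫ r = μ₀ := by
      show μ₁ ≫ pullback.fst _ η ≫ pullback.fst a' bS ≫ ν = _
      rw [← Category.assoc, pullback.lift_fst, Category.assoc, pullback.lift_fst_assoc]
    haveI : QuasiCompact μ₀ := quasiCompact_of_compactSpace _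
    refine L23.DenseOpen.isConnected_open (V.2.preimage μ₀.continuous) (μ₀.isCompact_preimage hVc) (fun m₁ => ?_)
      fun m₁ => ?_
    · let w := μ₀ m₁
      obtain ⟨u, hu, hua, huw⟩ := L23.DenseOpen.exists_fibre_generization a V w (hd w)
      let t := a w
      have ht : η₀ (closedPoint Ω) = t := by
        show _ = a (μ₀ m₁)
        rw [← hμr, Scheme.Hom.comp_apply μ₁ r, ← Scheme.Hom.comp_apply r a, hr.w, Scheme.Hom.comp_apply s]
        exact congrArg _ (Subsingleton.elim (α := Spec (CommRingCat.of Ω)) _ _)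
      obtain ⟨k, hk⟩ : ∃ k : Spec (CommRingCat.of Ω) ⟶ Spec (S.residueField t),
          k ≫ S.fromSpecResidueField t = η₀ :=
        ht ▸ ⟨_, Scheme.descResidueField_stalkClosedPointTo_fromSpecResidueField Ω S η₀⟩
      haveI : Flat k := by
        rw [← Spec.map_preimage k, HasRingHomProperty.Spec_iff (P := @Flat), RingHom.Flat]
        letI := Classical.decEq (S.residueField t)
        infer_instance
      let hh : Z ⟶ a.fiber t := pullback.lift r (s ≫ k)
        (hr.w.trans ((congrArg (s ≫ ·) hk.symm).trans (Category.assoc _ _ _).symm))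
      have hhp : IsPullback hh s (a.fiberToSpecResidueField t) k := by
        refine IsPullback.of_right (h₁₂ := a.fiberι t) (v₁₃ := a) (h₂₂ := S.fromSpecResidueField t) ?_
          (pullback.lift_snd _ _ _) (IsPullback.of_hasPullback a (S.fromSpecResidueField t))
        rw [show hh ≫ a.fiberι t = r from pullback.lift_fst _ _ _, hk]
        exact hr
      haveI : Flat hh := MorphismProperty.of_isPullback (P := @Flat) hhp.flip inferInstance
      haveI : Flat μ₁ := inferInstance
      obtain ⟨u', hu'⟩ : u ∈ Set.range (a.fiberι t) := by rw [Scheme.Hom.range_fiberι]; exact hua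
      have hhw : a.fiberι t (hh (μ₁ m₁)) = w := by
        rw [← Scheme.Hom.comp_apply, ← Scheme.Hom.comp_apply,
          show hh ≫ a.fiberι t = r from pullback.lift_fst _ _ _, hμr]
      have h1 : u' ⤳ hh (μ₁ m₁) := (a.fiberι t).isEmbedding.isInducing.specializes_iff.1 (by
        rw [hu', hhw]; exact huw)
      obtain ⟨m', hm', hm'u⟩ := Flat.generalizingMap (μ₁ ≫ hh) (show u' ⤳ (μ₁ ≫ hh) m₁ by
        rw [Scheme.Hom.comp_apply]; exact h1)
      refine ⟨m', ?_, hm'⟩
      show μ₀ m' ∈ V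
      rw [← hμr, ← show hh ≫ a.fiberι t = r from pullback.lift_fst _ _ _, ← Category.assoc, Scheme.Hom.comp_apply,
        hm'u, hu']
      exact hu
    · obtain ⟨h1, h2⟩ := hn Ω η₀ Z r s hr (μ₁ m₁)
      haveI := isDomain_stalk_of_weaklyEtale μ₁ m₁
      exact L23.DenseOpen.exists_common_generization m₁
  -- separations descend to the base
  let VC : Set (Spec (CommRingCat.of C)) := (bP ≫ ν) ⁻¹' (V : Set N)
  have hVC : IsOpen VC := V.2.preimage (bP ≫ ν).continuous
  have hpre : ∀ (Ω : Type u) [Field Ω] [IsAlgClosed Ω] (η : Spec (CommRingCat.of Ω) ⟶ Spec (CommRingCat.of RS)),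
      (pullback.fst sψ η ≫ bP ≫ ν) ⁻¹' (V : Set N) = pullback.fst sψ η ⁻¹' VC := fun _ _ _ _ => rfl
  have hne : ∀ s : Spec (CommRingCat.of RS), ∃ z ∈ VC, sψ z = s := fun s => by
    obtain ⟨Ω, _, _, η, hη⟩ := L27.EtSite.CF.exists_algClosed_point s
    obtain ⟨z, hz⟩ := (hfib Ω η).1
    refine ⟨pullback.fst sψ η z, (hpre Ω η ▸ hz :), ?_⟩
    rw [← Scheme.Hom.comp_apply, pullback.condition, Scheme.Hom.comp_apply, ← hη]
    exact congrArg _ (Subsingleton.elim (α := Spec (CommRingCat.of Ω)) _ _)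
  refine ⟨?_, fun u v hu hv huv hnu hnv => ?_⟩
  · obtain ⟨z, hz, -⟩ := hne (closedPoint RS)
    exact ⟨z, hz⟩
  by_contra hcap
  rw [Set.not_nonempty_iff_eq_empty] at hcap
  let T : Set (Spec (CommRingCat.of C)) → Set (Spec (CommRingCat.of RS)) := fun u => sψ '' (VC ∩ u)
  have hdis : ∀ s, s ∈ T u → s ∉ T v := by
    rintro _ ⟨z₁, hz₁, rfl⟩ ⟨z₂, hz₂, hz₁₂⟩
    obtain ⟨Ω, _, _, η, hη⟩ := L27.EtSite.CF.exists_algClosed_point (sψ z₁)
    have hη₁ : sψ z₁ = η (closedPoint Ω) :=
      hη.symm.trans (congrArg _ (Subsingleton.elim (α := Spec (CommRingCat.of Ω)) _ _))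
    obtain ⟨p₁, hp₁, -⟩ := Scheme.exists_preimage_of_isPullback (IsPullback.of_hasPullback sψ η) z₁ _ hη₁
    obtain ⟨p₂, hp₂, -⟩ := Scheme.exists_preimage_of_isPullback (IsPullback.of_hasPullback sψ η) z₂ _
      (hz₁₂.trans hη₁)
    have hc := (hfib Ω η).2
    rw [hpre Ω η] at hc
    obtain ⟨q, hq, hqu, hqv⟩ := hc (pullback.fst sψ η ⁻¹' u) (pullback.fst sψ η ⁻¹' v)
      (hu.preimage (pullback.fst sψ η).continuous) (hv.preimage (pullback.fst sψ η).continuous)
      (fun q hq => huv hq)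
      ⟨p₁, show pullback.fst sψ η p₁ ∈ VC by rw [hp₁]; exact hz₁.1,
        show pullback.fst sψ η p₁ ∈ u by rw [hp₁]; exact hz₁.2⟩
      ⟨p₂, show pullback.fst sψ η p₂ ∈ VC by rw [hp₂]; exact hz₂.1,
        show pullback.fst sψ η p₂ ∈ v by rw [hp₂]; exact hz₂.2⟩
    exact (Set.ext_iff.1 hcap _).1 ⟨hq, hqu, hqv⟩
  have hcov : ∀ s, s ∈ T u ∨ s ∈ T v := fun s => by
    obtain ⟨z, hz, rfl⟩ := hne s
    rcases huv hz with h | h
    · exact Or.inl ⟨z, ⟨hz, h⟩, rfl⟩
    · exact Or.inr ⟨z, ⟨hz, h⟩, rfl⟩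
  have hgen : ∀ w, IsOpen w → ∀ s, s ∈ T w → ∀ s', s' ⤳ s → s' ∈ T w := by
    rintro w hw _ ⟨z, hz, rfl⟩ s' hs'
    obtain ⟨z', hz', rfl⟩ := Flat.generalizingMap sψ hs'
    exact ⟨z', ⟨hz'.mem_open hVC hz.1, hz'.mem_open hw hz.2⟩, rfl⟩
  obtain ⟨zu, hzu⟩ := hnu
  obtain ⟨zv, hzv⟩ := hnv
  rcases hcov (closedPoint RS) with h0 | h0
  · exact hdis _ (hgen u hu _ h0 _ (IsLocalRing.specializes_closedPoint _)) ⟨zv, hzv, rfl⟩
  · exact hdis _ ⟨zu, hzu, rfl⟩ (hgen v hv _ h0 _ (IsLocalRing.specializes_closedPoint _))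

end Groth.L23.CohProp
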