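import Groth.Agent.L23.CohProp.Piece
import Groth.Agent.L06.Constr
import Mathlib.AlgebraicGeometry.Morphisms.QuasiFinite
import Mathlib.Topology.NoetherianSpace

/-! # Auxiliary facts for the construction of models -/

universe u

open CategoryTheory CategoryTheory.Limits AlgebraicGeometry TopologicalSpace Topology

set_option autoImplicit false
set_option backward.isDefEq.respectTransparency.types false
set_option linter.style.haveILetI false
set_option linter.unusedSectionVars false

noncomputable section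

namespace Groth.L23.CohProp.Model

/-- Only the generic point lies over the image of the generic point. -/
theorem eq_of_apply_eq {X Y : Scheme.{u}} (h : X ⟶ Y) [LocallyQuasiFinite h] [QuasiCompact h] {ξ z : X} (hs : ξ ⤳ z)
    (e : h z = h ξ) : z = ξ := by
  haveI : DiscreteTopology ↥(h ⁻¹' {h ξ}) := h.isDiscrete_preimage_singleton (h ξ) |>.1
  have h1 : (⟨ξ, rfl⟩ : ↥(h ⁻¹' {h ξ})) ⤳ ⟨z, e⟩ := IsInducing.subtypeVal.specializes_iff.1 hs
  exact congrArg Subtype.val h1.eq.symm

/-- A maximal point of a noetherian space is interior to its closure. -/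
theorem exists_open_subset_closure {X : Type u} [TopologicalSpace X] [NoetherianSpace X] [T0Space X]
    {η : X} (h : ∀ ξ, ξ ⤳ η → ξ = η) [QuasiSober X] : ∃ O : Set X, IsOpen O ∧ η ∈ O ∧ O ⊆ closure {η} := by
  classical
  let Cs := {C | C ∈ irreducibleComponents X ∧ η ∉ C}
  refine ⟨(⋃₀ Cs)ᶜ, ?_, ?_, ?_⟩
  · rw [Set.sUnion_eq_biUnion]
    exact ((TopologicalSpace.NoetherianSpace.finite_irreducibleComponents.subset
      fun C hC => hC.1).isClosed_biUnion fun C hC => isClosed_of_mem_irreducibleComponents C hC.1).isOpen_compl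
  · rintro ⟨C, hC, hη⟩
    exact hC.2 hη
  · intro x hx
    have hC := irreducibleComponent_mem_irreducibleComponents x
    by_cases hη : η ∈ irreducibleComponent x
    · have hg := isIrreducible_irreducibleComponent (x := x)
      have h1 : hg.genericPoint ⤳ η := by
        rw [specializes_iff_mem_closure, hg.genericPoint_closure_eq]; exact subset_closure hη
      rw [← h _ h1, hg.genericPoint_closure_eq]
      exact subset_closure mem_irreducibleComponent
    · exact absurd ⟨_, ⟨hC, hη⟩, mem_irreducibleComponent⟩ hx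

/-- The complement of the closure of a point which is not maximal is dense. -/
theorem dense_compl_closure {X : Type u} [TopologicalSpace X] [T0Space X] {η ξ : X} (h : ξ ⤳ η) (hne : ξ ≠ η) :
    Dense (closure ({η} : Set X))ᶜ := by
  rw [← interior_eq_empty_iff_dense_compl]
  refine Set.eq_empty_iff_forall_notMem.2 fun x hx => ?_
  have hη : η ∈ interior (closure {η}) :=
    (specializes_iff_mem_closure.2 (interior_subset hx)).mem_open isOpen_interior hx
  exact hne (h.antisymm (specializes_iff_mem_closure.2 (interior_subset (h.mem_open isOpen_interior hη)))).eq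

/-- An open inside the closure of a point together with the complement of the closure is dense. -/
theorem dense_union_compl_closure {X : Type u} [TopologicalSpace X] {η : X} {O : Set X}
    (hη : η ∈ O) : Dense (O ∪ (closure ({η} : Set X))ᶜ) := by
  intro x
  by_cases hx : x ∈ closure ({η} : Set X)
  · exact closure_mono (show ({η} : Set X) ⊆ O ∪ (closure ({η} : Set X))ᶜ from Set.singleton_subset_iff.2 (Or.inl hη)) hx
  · exact subset_closure (Or.inr hx)

/-- A constructible set containing the generic point contains an open. -/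
theorem exists_open_of_generic {X : Type u} [TopologicalSpace X] {E : Set X} (hE : IsConstructible E) {ξ : X}
    (hξ : ∀ x, ξ ⤳ x) (h : ξ ∈ E) : ∃ O : Set X, IsOpen O ∧ ξ ∈ O ∧ O ⊆ E := by
  have hcl : closure ({ξ} : Set X) = Set.univ := Set.eq_univ_of_forall fun x => (hξ x).mem_closure
  have hirr : IsIrreducible (Set.univ : Set X) := hcl ▸ isIrreducible_singleton.closure
  obtain ⟨O, hO, ⟨w, hw⟩, hsub⟩ := Groth.L06.Constr.exists_open_inter_subset' hE hirr
    (Groth.L06.Constr.subset_closure_of_generic hcl.ge h trivial)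
  exact ⟨O, hO, (hξ w).mem_open hO hw.1, fun x hx => hsub ⟨hx, trivial⟩⟩

/-- Flatness of the projection is stable under pulling back. -/
theorem flat_fst_comp {W D X Z : Scheme.{u}} (w : W ⟶ D) (d : D ⟶ X) (q : Z ⟶ X)
    (h1 : Flat (pullback.fst d q)) (h2 : LocallyOfFinitePresentation (pullback.fst d q)) :
    Flat (pullback.fst (w ≫ d) q) ∧ LocallyOfFinitePresentation (pullback.fst (w ≫ d) q) := by
  have hp : IsPullback (zMap q d (w ≫ d) w rfl) (pullback.fst (w ≫ d) q) (pullback.fst d q) w :=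
    isPullback_zMap q d (w ≫ d) w rfl
  exact ⟨MorphismProperty.of_isPullback (P := @Flat) hp h1,
    MorphismProperty.of_isPullback (P := @LocallyOfFinitePresentation) hp h2⟩

/-- A morphism finite over the part over an open is finite after pulling back to a scheme landing there. -/
theorem isFinite_fst_of_lands {X S Z T : Scheme.{u}} (q : Z ⟶ X) (h : X ⟶ S) (U : S.Opens)
    (hq : IsFinite (q ∣_ h ⁻¹ᵁ U)) (t : T ⟶ X) (ht : Lands h U t) : IsFinite (pullback.fst t q) := by
  have hr : Set.range t ⊆ Set.range (h ⁻¹ᵁ U).ι := by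
    rw [Scheme.Opens.range_ι]; rintro _ ⟨x, rfl⟩; exact ht x
  let t₀ := IsOpenImmersion.lift (h ⁻¹ᵁ U).ι t hr
  have ht₀ : t₀ ≫ (h ⁻¹ᵁ U).ι = t := IsOpenImmersion.lift_fac _ _ hr
  have hr' : Set.range (pullback.snd t q) ⊆ Set.range (q ⁻¹ᵁ h ⁻¹ᵁ U).ι := by
    rw [Scheme.Opens.range_ι]
    rintro _ ⟨x, rfl⟩
    show h (q (pullback.snd t q x)) ∈ U
    rw [← Scheme.Hom.comp_apply _ q, ← pullback.condition, Scheme.Hom.comp_apply]
    exact ht _
  refine MorphismProperty.of_isPullback (P := @IsFinite)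
    (f' := IsOpenImmersion.lift (q ⁻¹ᵁ h ⁻¹ᵁ U).ι (pullback.snd t q) hr') (f := t₀) ?_ hq
  refine IsPullback.of_right (h₁₂ := (q ⁻¹ᵁ h ⁻¹ᵁ U).ι) (v₁₃ := q) (h₂₂ := (h ⁻¹ᵁ U).ι) ?_ ?_
    (isPullback_morphismRestrict q (h ⁻¹ᵁ U)).flip
  · rw [IsOpenImmersion.lift_fac, ht₀]
    exact (IsPullback.of_hasPullback t q).flip
  · rw [← cancel_mono (h ⁻¹ᵁ U).ι, Category.assoc, morphismRestrict_ι, ← Category.assoc, IsOpenImmersion.lift_fac,
      ← pullback.condition, Category.assoc, ht₀]

/-- An open is everything over itself. -/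
theorem isClosedImmersion_ι_restrict {A : Scheme.{u}} (V W : A.Opens) (e : V = W) : IsClosedImmersion (V.ι ∣_ W) := by
  subst e
  refine IsClosedImmersion.of_isPreimmersion _ ?_
  have hs : Function.Surjective (V.ι ∣_ V) := fun x => by
    refine ⟨⟨⟨x.1, x.2⟩, x.2⟩, Subtype.ext ?_⟩
    have e := congr($(morphismRestrict_ι V.ι V) ⟨⟨x.1, x.2⟩, x.2⟩)
    rw [Scheme.Hom.comp_apply, Scheme.Hom.comp_apply] at e
    exact e
  rw [hs.range_eq]
  exact isClosed_univ

/-- Restricting over an open a morphism into an open part with closed trace. -/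
theorem prop_restrict {P : MorphismProperty Scheme.{u}} [P.IsStableUnderComposition] [P.IsStableUnderBaseChange]
    [P.RespectsIso]
    (hP : ∀ {A B : Scheme.{u}} (k : A ⟶ B) [IsClosedImmersion k], P k)
    {A B C : Scheme.{u}} (g : A ⟶ B) (hg : P g) (k : B ⟶ C) [IsOpenImmersion k] (U : C.Opens)
    (hcl : IsClosed ((U.ι) ⁻¹' Set.range k)) (A' : A.Opens) (hA : A' = g ⁻¹ᵁ k ⁻¹ᵁ U) :
    P ((A'.ι ≫ g ≫ k) ∣_ U) := by
  subst hA
  haveI : IsClosedImmersion (k ∣_ U) := by
    refine IsClosedImmersion.of_isPreimmersion _ ?_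
    have : Set.range (k ∣_ U) = U.ι ⁻¹' Set.range k := by
      ext ⟨x, hx⟩
      constructor
      · rintro ⟨a, ha⟩
        refine ⟨a.1, ?_⟩
        have e := congr($(morphismRestrict_ι k U) a)
        rw [Scheme.Hom.comp_apply, Scheme.Hom.comp_apply, ha] at e
        exact e.symm
      · rintro ⟨a, ha⟩
        have ha' : k a ∈ U := by rw [show k a = x from ha]; exact hx
        refine ⟨⟨a, ha'⟩, Subtype.ext ?_⟩
        have e := congr($(morphismRestrict_ι k U) ⟨a, ha'⟩)
        rw [Scheme.Hom.comp_apply, Scheme.Hom.comp_apply] at e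
        exact e.trans ha
    rw [this]; exact hcl
  have h1 : P (g ∣_ (k ⁻¹ᵁ U)) := MorphismProperty.of_isPullback (isPullback_morphismRestrict g (k ⁻¹ᵁ U)).flip hg
  have h2 : P ((g ≫ k) ∣_ U) := by
    rw [morphismRestrict_comp]
    exact MorphismProperty.comp_mem P _ _ h1 (hP (k ∣_ U))
  rw [show (g ⁻¹ᵁ k ⁻¹ᵁ U).ι ≫ g ≫ k = (g ⁻¹ᵁ k ⁻¹ᵁ U).ι ≫ (g ≫ k) from rfl, morphismRestrict_comp]
  haveI := isClosedImmersion_ι_restrict (g ⁻¹ᵁ k ⁻¹ᵁ U) ((g ≫ k) ⁻¹ᵁ U) rfl
  exact MorphismProperty.comp_mem P _ _ (@hP _ _ _ this) h2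

end Groth.L23.CohProp.Model
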