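import Groth.Agent.L23.CohProp.Milnor
import Groth.Agent.L07.GeomNormalAt
import Groth.Agent.L07.GeomRk.Fib
import Groth.Agent.L02.FibDepth.Fibres
import Groth.Agent.L06.NormalAscent
import Mathlib.FieldTheory.IsAlgClosed.AlgebraicClosure

/-! # Geometric normality of fibres near the generic point -/

universe u

open CategoryTheory CategoryTheory.Limits AlgebraicGeometry TopologicalSpace IsLocalRing
open scoped TensorProduct

set_option autoImplicit false
set_option maxHeartbeats 800000
set_option backward.isDefEq.respectTransparency.types false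
set_option linter.style.haveILetI false
set_option linter.unusedSectionVars false

noncomputable section

namespace Groth.L23.CohProp.Model

/-- The fibre over a point is geometrically normal. -/
def GoodPt {N S : Scheme.{u}} (a : N ⟶ S) (s : S) : Prop :=
  ∀ (K : Type u) [Field K] [Algebra (IsLocalRing.ResidueField (S.presheaf.stalk s)) K]
    (x' : ↥(FBase.bc (a.fiberToSpecResidueField s) K)),
    IsDomain ((FBase.bc (a.fiberToSpecResidueField s) K).presheaf.stalk x') ∧
      IsIntegrallyClosed ((FBase.bc (a.fiberToSpecResidueField s) K).presheaf.stalk x')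

theorem normal_of_algClosed (B C : Type u) [CommRing B] [CommRing C] [Algebra B C] (L : Type u) [Field L] [Algebra B L]
    (h : ∀ (Ω : Type u) [Field Ω] [IsAlgClosed Ω] [Algebra B Ω], RingHom.ker (algebraMap B Ω) = RingHom.ker (algebraMap B L) →
      EGA4.IsNormalRing (Ω ⊗[B] C)) : EGA4.IsNormalRing (C ⊗[B] L) := by
  let Ω := AlgebraicClosure L
  have hk : RingHom.ker (algebraMap B Ω) = RingHom.ker (algebraMap B L) := by
    ext x
    rw [RingHom.mem_ker, RingHom.mem_ker, IsScalarTower.algebraMap_apply B L Ω, map_eq_zero]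
  haveI : Module.FaithfullyFlat (L ⊗[B] C) ((L ⊗[B] C) ⊗[L] Ω) := inferInstance
  have h1 : EGA4.IsNormalRing ((L ⊗[B] C) ⊗[L] Ω) := by
    refine Groth.L06.NormalAscent.isNormalRing_of_ringEquiv ?_ (h Ω hk)
    exact ((Algebra.TensorProduct.cancelBaseChange B L L Ω C).symm.toRingEquiv.trans
      (Algebra.TensorProduct.comm L Ω (L ⊗[B] C)).toRingEquiv)
  exact Groth.L06.NormalAscent.isNormalRing_of_ringEquiv (Algebra.TensorProduct.comm B L C).toRingEquiv
    (Groth.L06.NormalAscent.isNormalRing_of_faithfullyFlat (R := L ⊗[B] C) h1)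

/-- The generic fibre is geometrically normal if the rings of a cover are so. -/
theorem goodPt_bot {B : Type u} [CommRing B] [IsDomain B] {N : Scheme.{u}} (a : N ⟶ Spec (CommRingCat.of B))
    {ι : Type u} (V : ι → N.Opens) (hV : ∀ i, IsAffineOpen (V i)) (hcov : ∀ x : N, ∃ i, x ∈ V i)
    (hn : ∀ i, letI := ((Scheme.ΓSpecIso (CommRingCat.of B)).inv ≫ a.appLE ⊤ (V i) le_top).hom.toAlgebra
      ∀ (Ω : Type u) [Field Ω] [IsAlgClosed Ω] [Algebra B Ω], Function.Injective (algebraMap B Ω) →
        EGA4.IsNormalRing (Ω ⊗[B] Γ(N, V i))) :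
    GoodPt a (⟨⊥, Ideal.isPrime_bot⟩ : PrimeSpectrum B) := by
  set s : ↥(Spec (CommRingCat.of B)) := (⟨⊥, Ideal.isPrime_bot⟩ : PrimeSpectrum B)
  have key : ∀ x, a x = s → Groth.L07.GeomRk.GeomAt (a.fiberToSpecResidueField (a x)) (fun _ _ _ => True)
      (fun R _ => IsDomain R ∧ IsIntegrallyClosed R) (a.asFiber x) := by
    intro x hx
    obtain ⟨i, hi⟩ := hcov x
    letI := ((Scheme.ΓSpecIso (CommRingCat.of B)).inv ≫ a.appLE ⊤ (V i) le_top).hom.toAlgebra
    have w : Spec.map (CommRingCat.ofHom (algebraMap B Γ(N, V i))) ≫ 𝟙 (Spec (CommRingCat.of B)) = (hV i).fromSpec ≫ a := by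
      rw [Category.comp_id]
      show Spec.map ((Scheme.ΓSpecIso (CommRingCat.of B)).inv ≫ a.appLE ⊤ (V i) le_top) = _
      rw [Spec.map_comp, ← IsAffineOpen.SpecMap_appLE_fromSpec a (isAffineOpen_top _) (hV i) le_top,
        IsAffineOpen.fromSpec_top, Scheme.isoSpec_Spec_inv]
    obtain ⟨q, rfl⟩ : ∃ q, (hV i).fromSpec q = x := by
      rw [← Set.mem_range, IsAffineOpen.range_fromSpec]; exact hi
    refine Groth.L07.GeomNormalAt.geomAt_of_geomNormAt a (hV i).fromSpec (𝟙 _) w q ?_
    intro L _ _ hker Q _ _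
    have hb : q.asIdeal.comap (algebraMap B Γ(N, V i)) = ⊥ :=
      congrArg PrimeSpectrum.asIdeal ((Groth.L07.GeomNormalAt.apply_comap a (hV i).fromSpec (𝟙 _) w q).trans hx)
    refine normal_of_algClosed B _ L (fun Ω _ _ _ hk => hn i Ω ?_) Q
    rw [RingHom.injective_iff_ker_eq_bot, hk, hker, hb]
  intro K _ _ x'
  have h := (L02.FibDepth.forall_fiber_iff (f := a) (P := fun s w =>
    Groth.L07.GeomRk.GeomAt (a.fiberToSpecResidueField s) (fun _ _ _ => True)
      (fun R _ => IsDomain R ∧ IsIntegrallyClosed R) w) s).2 key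
  exact h _ K trivial x' rfl

/-- Geometric normality of all fibres over an open. -/
theorem normFib_restrict {N S : Scheme.{u}} (a : N ⟶ S) (U : S.Opens) (h : ∀ s ∈ U, GoodPt a s) :
    NormFib (a ∣_ U) := by
  refine normFib_of_pullback _ fun Ω _ _ η z => ?_
  let m := η ≫ U.ι
  let s := m (closedPoint Ω)
  have hs : s ∈ U := (η (closedPoint Ω)).2
  let ψ := Scheme.descResidueField (Scheme.stalkClosedPointTo m)
  have hψ : Spec.map ψ ≫ S.fromSpecResidueField s = m :=
    Scheme.descResidueField_stalkClosedPointTo_fromSpecResidueField _ _ _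
  letI : Algebra (IsLocalRing.ResidueField (S.presheaf.stalk s)) Ω := ψ.hom.toAlgebra
  let e : FBase.bc (a.fiberToSpecResidueField s) Ω ≅ pullback (a ∣_ U) η :=
    pullbackLeftPullbackSndIso a (S.fromSpecResidueField s) (Spec.map ψ) ≪≫ pullback.congrHom rfl hψ ≪≫
      ((IsPullback.of_hasPullback (a ∣_ U) η).paste_horiz (isPullback_morphismRestrict a U).flip).isoPullback.symm
  obtain ⟨h1, h2⟩ := h s hs Ω (e.inv z)
  haveI := h1
  haveI := h2
  let σ := (asIso (e.inv.stalkMap z)).commRingCatIsoToRingEquiv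
  exact ⟨σ.symm.toMulEquiv.isDomain, IsIntegrallyClosed.of_equiv σ⟩

end Groth.L23.CohProp.Model
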