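import Groth.Agent.L15.GeomNormal.Basic
import Groth.Agent.L01.NagataFiniteType
import Groth.Agent.L18.NormalizationField
import Mathlib.FieldTheory.AlgebraicClosure
import Mathlib.RingTheory.Localization.Integral
import Mathlib.RingTheory.TensorProduct.Maps
import Mathlib.RingTheory.IsTensorProduct
import Mathlib.RingTheory.Localization.BaseChange

/-! # Models with geometrically normal generic fibre -/

universe u

set_option autoImplicit false
set_option maxHeartbeats 800000
set_option linter.style.haveILetI false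
set_option linter.unusedSectionVars false

noncomputable section

namespace Groth.L23.CohProp.NormalModel

open TensorProduct
open scoped nonZeroDivisors

/-- An integrally closed domain is a normal ring. -/
theorem isNormalRing_of_domain (C : Type u) [CommRing C] [IsDomain C] [IsIntegrallyClosed C] :
    EGA4.IsNormalRing C := fun p _ =>
  ⟨IsLocalization.isDomain_localization (Ideal.primeCompl_le_nonZeroDivisors p),
    isIntegrallyClosed_of_isLocalization (Localization.AtPrime p) p.primeCompl
      (Ideal.primeCompl_le_nonZeroDivisors p)⟩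

section Descent

variable {k₁ P L : Type u} [Field k₁] [Field P] [Field L] [Algebra k₁ P] [Algebra P L] [Algebra k₁ L]
  [IsScalarTower k₁ P L] {σ : Type u} (c : σ → L)

/-- The relations between the elements `c` are defined over `k₁`. -/
def RelDefined : Prop :=
  ∀ p : MvPolynomial σ P, MvPolynomial.aeval c p = 0 →
    p ∈ Ideal.map (MvPolynomial.map (algebraMap k₁ P))
      (RingHom.ker (MvPolynomial.aeval c : MvPolynomial σ k₁ →ₐ[k₁] L))

/-- The map from the base change of the model. -/
abbrev mu (k₁ P : Type u) [Field k₁] [Field P] [Algebra k₁ P] [Algebra P L] [Algebra k₁ L]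
    [IsScalarTower k₁ P L] (c : σ → L) : P ⊗[k₁] Algebra.adjoin k₁ (Set.range c) →ₐ[P] L :=
  Algebra.TensorProduct.lift (Algebra.ofId P L) (Algebra.adjoin k₁ (Set.range c)).val fun _ _ => mul_comm _ _

theorem mu_tmul (p : P) (d : Algebra.adjoin k₁ (Set.range c)) :
    mu k₁ P c (p ⊗ₜ[k₁] d) = algebraMap P L p * (d : L) := rfl

theorem mu_one_tmul (d : Algebra.adjoin k₁ (Set.range c)) : mu k₁ P c ((1 : P) ⊗ₜ[k₁] d) = (d : L) := by
  rw [mu_tmul, map_one, one_mul]

theorem mu_injective (h : RelDefined (k₁ := k₁) (P := P) c) : Function.Injective (mu k₁ P c) := by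
  let D := Algebra.adjoin k₁ (Set.range c)
  let cD : σ → D := fun i => ⟨c i, Algebra.subset_adjoin ⟨i, rfl⟩⟩
  let ψ : MvPolynomial σ P →ₐ[P] P ⊗[k₁] D := MvPolynomial.aeval fun i => (1 : P) ⊗ₜ[k₁] cD i
  have hcomp : (mu k₁ P c).comp ψ = MvPolynomial.aeval c := MvPolynomial.algHom_ext fun i => by
    rw [AlgHom.comp_apply, MvPolynomial.aeval_X, MvPolynomial.aeval_X, mu_one_tmul]
  have hsurj : Function.Surjective ψ := by
    intro z
    induction z using TensorProduct.induction_on with
    | zero => exact ⟨0, map_zero _⟩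
    | tmul p d =>
      obtain ⟨d, hd⟩ := d
      have hd' : d ∈ (MvPolynomial.aeval c : MvPolynomial σ k₁ →ₐ[k₁] L).range := by
        rw [← Algebra.adjoin_range_eq_range_aeval]; exact hd
      obtain ⟨q, hq⟩ := hd'
      refine ⟨MvPolynomial.C p * MvPolynomial.map (algebraMap k₁ P) q, ?_⟩
      have e : ψ (MvPolynomial.map (algebraMap k₁ P) q) = (1 : P) ⊗ₜ[k₁] MvPolynomial.aeval cD q := by
        rw [show ψ (MvPolynomial.map (algebraMap k₁ P) q) =
          MvPolynomial.aeval (fun i => (1 : P) ⊗ₜ[k₁] cD i) q from MvPolynomial.aeval_map_algebraMap P _ q]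
        exact (MvPolynomial.comp_aeval_apply cD (Algebra.TensorProduct.includeRight : D →ₐ[k₁] P ⊗[k₁] D) q).symm
      have e2 : MvPolynomial.aeval cD q = ⟨d, hd⟩ := Subtype.ext <|
        (MvPolynomial.comp_aeval_apply cD D.val q).trans hq
      rw [map_mul, e, e2, ← MvPolynomial.algebraMap_eq, AlgHom.commutes, Algebra.TensorProduct.algebraMap_apply,
        Algebra.TensorProduct.tmul_mul_tmul, one_mul, mul_one]
      rfl
    | add x y hx hy =>
      obtain ⟨a, rfl⟩ := hx
      obtain ⟨b, rfl⟩ := hy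
      exact ⟨a + b, map_add _ _ _⟩
  rw [injective_iff_map_eq_zero]
  intro z hz
  obtain ⟨p, rfl⟩ := hsurj z
  have hp : MvPolynomial.aeval c p = 0 := by rw [← hcomp]; exact hz
  have hker : Ideal.map (MvPolynomial.map (algebraMap k₁ P))
      (RingHom.ker (MvPolynomial.aeval c : MvPolynomial σ k₁ →ₐ[k₁] L)) ≤ RingHom.ker ψ := by
    rw [Ideal.map_le_iff_le_comap]
    intro q hq
    show ψ (MvPolynomial.map (algebraMap k₁ P) q) = 0
    rw [show ψ (MvPolynomial.map (algebraMap k₁ P) q) =
      MvPolynomial.aeval (fun i => (1 : P) ⊗ₜ[k₁] cD i) q from MvPolynomial.aeval_map_algebraMap P _ q]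
    rw [← show (Algebra.TensorProduct.includeRight : D →ₐ[k₁] P ⊗[k₁] D) (MvPolynomial.aeval cD q) =
      MvPolynomial.aeval (fun i => (1 : P) ⊗ₜ[k₁] cD i) q from
      MvPolynomial.comp_aeval_apply cD (Algebra.TensorProduct.includeRight : D →ₐ[k₁] P ⊗[k₁] D) q]
    have e2 : MvPolynomial.aeval cD q = 0 := Subtype.ext <| by
      rw [show ((MvPolynomial.aeval cD q : D) : L) = MvPolynomial.aeval c q from
        MvPolynomial.comp_aeval_apply cD D.val q]
      exact hq
    rw [e2, map_zero]
  exact hker (h p hp)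

theorem range_mu : (mu k₁ P c).range = Algebra.adjoin P (Set.range c) := by
  refine le_antisymm ?_ (Algebra.adjoin_le ?_)
  · rintro _ ⟨z, rfl⟩
    induction z using TensorProduct.induction_on with
    | zero => exact (map_zero (mu k₁ P c)).symm ▸ Subalgebra.zero_mem _
    | tmul p d =>
      refine Subalgebra.mul_mem _ (Subalgebra.algebraMap_mem _ p) ?_
      have : Algebra.adjoin k₁ (Set.range c) ≤ (Algebra.adjoin P (Set.range c)).restrictScalars k₁ :=
        Algebra.adjoin_le Algebra.subset_adjoin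
      exact this d.2
    | add x y hx hy => exact (map_add (mu k₁ P c) x y).symm ▸ Subalgebra.add_mem _ hx hy
  · rintro _ ⟨i, rfl⟩
    exact ⟨(1 : P) ⊗ₜ ⟨c i, Algebra.subset_adjoin ⟨i, rfl⟩⟩, mu_one_tmul c _⟩

theorem mem_adjoin_of_div (h : RelDefined (k₁ := k₁) (P := P) c) {a x y : L}
    (hx : x ∈ Algebra.adjoin k₁ (Set.range c)) (hy : y ∈ Algebra.adjoin k₁ (Set.range c)) (hy0 : y ≠ 0)
    (e : y * a = x) (ha : a ∈ Algebra.adjoin P (Set.range c)) : a ∈ Algebra.adjoin k₁ (Set.range c) := by
  let D := Algebra.adjoin k₁ (Set.range c)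
  rw [← range_mu (k₁ := k₁) c] at ha
  obtain ⟨z, hz⟩ := ha
  obtain ⟨e₁, he₁⟩ := Module.Projective.exists_dual_ne_zero k₁ (one_ne_zero (α := P))
  let ε : P →ₗ[k₁] k₁ := (e₁ 1)⁻¹ • e₁
  have hε : ε 1 = 1 := inv_mul_cancel₀ he₁
  let E : P ⊗[k₁] D →ₗ[k₁] D := (TensorProduct.lid k₁ D).toLinearMap ∘ₗ ε.rTensor D
  have hE : ∀ (d : D) (w : P ⊗[k₁] D), E (w * (1 : P) ⊗ₜ d) = E w * d := by
    intro d w
    induction w using TensorProduct.induction_on with
    | zero => simp [zero_mul]
    | tmul p d' => simp [E, Algebra.TensorProduct.tmul_mul_tmul]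
    | add u v hu hv => rw [add_mul, map_add, hu, hv, map_add, add_mul]
  have h1 : z * (1 : P) ⊗ₜ (⟨y, hy⟩ : D) = (1 : P) ⊗ₜ (⟨x, hx⟩ : D) := by
    refine mu_injective c h ?_
    rw [map_mul, show (mu k₁ P c) z = a from hz]
    rw [mu_one_tmul, mu_one_tmul, mul_comm, e]
  have h2 : E z * (⟨y, hy⟩ : D) = ⟨x, hx⟩ := by
    rw [← hE, h1]
    simp [E, hε]
  have h3 : (E z : L) * y = a * y := by
    rw [show (E z : L) * y = x from congrArg Subtype.val h2, mul_comm a, e]
  exact (mul_right_cancel₀ hy0 h3) ▸ (E z).2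

theorem isNormalRing_tensor [IsAlgClosed P] (h : RelDefined (k₁ := k₁) (P := P) c)
    (hC : EGA4.IsNormalRing (Algebra.adjoin P (Set.range c))) (Ω : Type u) [Field Ω] [Algebra P Ω]
    [Algebra k₁ Ω] [IsScalarTower k₁ P Ω] :
    EGA4.IsNormalRing (Ω ⊗[k₁] Algebra.adjoin k₁ (Set.range c)) := by
  let e : (P ⊗[k₁] Algebra.adjoin k₁ (Set.range c)) ≃ₐ[P] Algebra.adjoin P (Set.range c) :=
    (AlgEquiv.ofInjective (mu k₁ P c) (mu_injective c h)).trans (Subalgebra.equivOfEq _ _ (range_mu c))
  have h1 : EGA4.IsNormalRing (Ω ⊗[P] Algebra.adjoin P (Set.range c)) :=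
    Groth.L15.GeomNormal.normal_tensor_of_perfect P _ hC Ω
  exact Groth.L06.NormalAscent.isNormalRing_of_ringEquiv
    ((Algebra.TensorProduct.congr (R := P) (S := P) (AlgEquiv.refl : Ω ≃ₐ[P] Ω) e.symm).toRingEquiv.trans
      (Algebra.TensorProduct.cancelBaseChange k₁ P P Ω (Algebra.adjoin k₁ (Set.range c))).toRingEquiv) h1

end Descent

section Field

variable {L : Type u} [Field L]

/-- Membership in a generated subfield uses finitely many generators. -/
theorem exists_finset_closure {s t : Set L} {x : L} (hx : x ∈ Subfield.closure (s ∪ t)) :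
    ∃ T : Finset L, ↑T ⊆ t ∧ x ∈ Subfield.closure (s ∪ ↑T) := by
  classical
  have mono : ∀ {T T' : Finset L}, T ⊆ T' → Subfield.closure (s ∪ ↑T) ≤ Subfield.closure (s ∪ ↑T') :=
    fun h => Subfield.closure_mono (Set.union_subset_union_right _ (Finset.coe_subset.2 h))
  induction hx using Subfield.closure_induction with
  | mem a ha =>
    rcases ha with ha | ha
    · exact ⟨∅, by simp, Subfield.subset_closure (Or.inl ha)⟩
    · exact ⟨{a}, by simpa using ha, Subfield.subset_closure (Or.inr (by simp))⟩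
  | one => exact ⟨∅, by simp, one_mem _⟩
  | add a b _ _ ha hb =>
    obtain ⟨T₁, h1, ha⟩ := ha
    obtain ⟨T₂, h2, hb⟩ := hb
    exact ⟨T₁ ∪ T₂, by simp [h1, h2],
      add_mem (mono Finset.subset_union_left ha) (mono Finset.subset_union_right hb)⟩
  | neg a _ ha =>
    obtain ⟨T₁, h1, ha⟩ := ha
    exact ⟨T₁, h1, neg_mem ha⟩
  | inv a _ ha =>
    obtain ⟨T₁, h1, ha⟩ := ha
    exact ⟨T₁, h1, inv_mem ha⟩
  | mul a b _ _ ha hb =>
    obtain ⟨T₁, h1, ha⟩ := ha
    obtain ⟨T₂, h2, hb⟩ := hb
    exact ⟨T₁ ∪ T₂, by simp [h1, h2],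
      mul_mem (mono Finset.subset_union_left ha) (mono Finset.subset_union_right hb)⟩

/-- Membership in a generated algebra uses finitely many coefficients. -/
theorem exists_finset_adjoin {k : Subfield L} (P : IntermediateField k L) {σ : Type u} (c : σ → L) {x : L}
    (hx : x ∈ Algebra.adjoin P (Set.range c)) :
    ∃ T : Finset L, ↑T ⊆ (P : Set L) ∧ ∀ k₁ : Subfield L, ↑T ⊆ (k₁ : Set L) →
      x ∈ Algebra.adjoin k₁ (Set.range c) := by
  classical
  rw [Algebra.adjoin_range_eq_range_aeval] at hx
  obtain ⟨q, rfl⟩ := hx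
  refine ⟨q.coeffs.image fun a : P => (a : L), by
    rw [Finset.coe_image]; rintro _ ⟨a, -, rfl⟩; exact a.2, fun k₁ hk => ?_⟩
  have hq : ((MvPolynomial.map (algebraMap P L) q).coeffs : Set L) ⊆ Set.range (algebraMap k₁ L) := by
    intro a ha
    obtain ⟨n, hn, rfl⟩ := MvPolynomial.mem_coeffs_iff.1 ha
    rw [MvPolynomial.coeff_map]
    rw [MvPolynomial.coeff_map] at *
    exact ⟨⟨_, hk (Finset.mem_image_of_mem _ (MvPolynomial.coeff_mem_coeffs n (fun h0 =>
      MvPolynomial.mem_support_iff.1 hn (by rw [MvPolynomial.coeff_map, h0, map_zero]))))⟩, rfl⟩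
  obtain ⟨q', hq'⟩ := MvPolynomial.mem_range_map_iff_coeffs_subset.2 hq
  rw [Algebra.adjoin_range_eq_range_aeval]
  refine ⟨q', ?_⟩
  show MvPolynomial.aeval c q' = MvPolynomial.aeval c q
  rw [← MvPolynomial.aeval_map_algebraMap L c q', hq', MvPolynomial.aeval_map_algebraMap]

end Field

section Model

variable {R L : Type u} [CommRing R] [Field L] [Algebra R L]

/-- The subfield generated by the base. -/
abbrev kb (R L : Type u) [CommRing R] [Field L] [Algebra R L] : Subfield L :=
  Subfield.closure (Set.range (algebraMap R L))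

theorem mem_kb {x : L} (hx : x ∈ kb R L) :
    ∃ a e : R, algebraMap R L e ≠ 0 ∧ x * algebraMap R L e = algebraMap R L a := by
  have hr : Subring.closure (Set.range (algebraMap R L)) = (algebraMap R L).range :=
    Subring.closure_eq (algebraMap R L).range
  obtain ⟨y, hy, z, hz, rfl⟩ := Subfield.mem_closure_iff.1 hx
  rw [hr] at hy hz
  obtain ⟨a, rfl⟩ := hy
  obtain ⟨e, rfl⟩ := hz
  rcases eq_or_ne (algebraMap R L e) 0 with h0 | h0
  · exact ⟨0, 1, by simp, by simp [h0]⟩
  · exact ⟨a, e, h0, by field_simp⟩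

theorem mem_kb_adjoin (A : Subalgebra R L) {x : L} (hx : x ∈ Algebra.adjoin (kb R L) (A : Set L)) :
    ∃ e : R, algebraMap R L e ≠ 0 ∧ algebraMap R L e * x ∈ A := by
  induction hx using Algebra.adjoin_induction with
  | mem a ha => exact ⟨1, by simp, by simpa using ha⟩
  | algebraMap r =>
    obtain ⟨a, e, he, h⟩ := mem_kb r.2
    exact ⟨e, he, (mul_comm (algebraMap R L e) (r : L) ▸ h.symm ▸ A.algebraMap_mem a :)⟩
  | add a b _ _ ha hb =>
    obtain ⟨e₁, h₁, ha⟩ := ha
    obtain ⟨e₂, h₂, hb⟩ := hb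
    refine ⟨e₁ * e₂, by rw [map_mul]; exact mul_ne_zero h₁ h₂, ?_⟩
    rw [map_mul, show algebraMap R L e₁ * algebraMap R L e₂ * (a + b) = algebraMap R L e₂ * (algebraMap R L e₁ * a) +
      algebraMap R L e₁ * (algebraMap R L e₂ * b) by ring]
    exact A.add_mem (A.mul_mem (A.algebraMap_mem _) ha) (A.mul_mem (A.algebraMap_mem _) hb)
  | mul a b _ _ ha hb =>
    obtain ⟨e₁, h₁, ha⟩ := ha
    obtain ⟨e₂, h₂, hb⟩ := hb
    refine ⟨e₁ * e₂, by rw [map_mul]; exact mul_ne_zero h₁ h₂, ?_⟩
    rw [map_mul, show algebraMap R L e₁ * algebraMap R L e₂ * (a * b) =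
      (algebraMap R L e₁ * a) * (algebraMap R L e₂ * b) by ring]
    exact A.mul_mem ha hb

/-- An element integral over the localisation has an integral multiple. -/
theorem exists_scalar_integral (A : Subalgebra R L) {x : L}
    (hx : IsIntegral (Algebra.adjoin (kb R L) (A : Set L)) x) :
    ∃ e : R, algebraMap R L e ≠ 0 ∧ IsIntegral A (algebraMap R L e * x) := by
  classical
  obtain ⟨p, hp, hpx⟩ := hx
  choose e he hem using fun i : ℕ => mem_kb_adjoin A (p.coeff i).2
  let d : R := ∏ i ∈ p.support, e i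
  let p₀ := p.map (algebraMap _ L)
  have hd : algebraMap R L d ≠ 0 := by
    rw [map_prod]; exact Finset.prod_ne_zero_iff.2 fun i _ => he i
  have hdi : ∀ i, algebraMap R L d * (p.coeff i : L) ∈ A := fun i => by
    by_cases hi : i ∈ p.support
    · rw [map_prod, ← Finset.mul_prod_erase _ _ hi, mul_comm (algebraMap R L (e i)), mul_assoc]
      refine A.mul_mem ?_ (hem i)
      rw [← map_prod]
      exact A.algebraMap_mem _
    · rw [Polynomial.notMem_support_iff.1 hi, ZeroMemClass.coe_zero, mul_zero]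
      exact A.zero_mem
  refine ⟨d, hd, ?_⟩
  have hmem : Polynomial.scaleRoots p₀ (algebraMap R L d) ∈ Polynomial.lifts (algebraMap A L) := by
    refine (Polynomial.lifts_iff_coeff_lifts _).2 fun i => ?_
    rw [Polynomial.coeff_scaleRoots]
    rcases lt_trichotomy i p₀.natDegree with hi | hi | hi
    · refine ⟨⟨_, ?_⟩, rfl⟩
      obtain ⟨j, hj⟩ : ∃ j, p₀.natDegree - i = j + 1 := ⟨p₀.natDegree - i - 1, by omega⟩
      rw [hj]
      convert A.mul_mem (hdi i) (A.pow_mem (A.algebraMap_mem d) j) using 1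
      rw [show p₀.coeff i = (p.coeff i : L) from Polynomial.coeff_map _ _, pow_succ']
      show (p.coeff i : L) * (algebraMap R L d * algebraMap R L d ^ j) = _
      ring
    · subst hi
      exact ⟨1, by rw [map_one, Nat.sub_self, pow_zero, mul_one, (hp.map _).coeff_natDegree]⟩
    · exact ⟨0, by rw [map_zero, Polynomial.coeff_eq_zero_of_natDegree_lt hi, zero_mul]⟩
  obtain ⟨q, hq, -, hqm⟩ := Polynomial.lifts_and_natDegree_eq_and_monic hmem
    ((Polynomial.monic_scaleRoots_iff _).2 (hp.map _))
  refine ⟨q, hqm, ?_⟩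
  rw [Polynomial.eval₂_eq_eval_map, hq, ← Polynomial.eval₂_id]
  have h := Polynomial.scaleRoots_eval₂_mul (p := p₀) (RingHom.id L) x (algebraMap R L d)
  rw [RingHom.id_apply] at h
  rw [h, Polynomial.eval₂_id, ← Polynomial.eval₂_eq_eval_map, hpx, mul_zero]

/-- The normalisation of a finitely generated algebra in a finite extension is finitely generated. -/
theorem exists_normalisation {P : Type u} [Field P] [Algebra P L] (s : Finset L) (G : Finset L)
    (hG : ∀ g ∈ G, IsAlgebraic (Algebra.adjoin P (s : Set L)) g) :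
    ∃ c : Finset L, EGA4.IsNormalRing (Algebra.adjoin P (Set.range fun i : c => (i : L))) ∧
      ∀ x : L, x ∈ Algebra.adjoin P (Set.range fun i : c => (i : L)) ↔
        (x ∈ IntermediateField.adjoin P ((s : Set L) ∪ G) ∧ IsIntegral (Algebra.adjoin P (s : Set L)) x) := by
  classical
  let PA := Algebra.adjoin P (s : Set L)
  let F := IntermediateField.adjoin P ((s : Set L) ∪ G)
  have hle : PA ≤ F.toSubalgebra :=
    Algebra.adjoin_le fun x hx => IntermediateField.subset_adjoin P _ (Or.inl hx)
  letI : Algebra PA F := (Subalgebra.inclusion hle).toRingHom.toAlgebra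
  haveI : IsScalarTower PA F L := IsScalarTower.of_algebraMap_eq fun _ => rfl
  haveI : IsScalarTower P PA F := IsScalarTower.of_algebraMap_eq fun _ => rfl
  haveI : FaithfulSMul PA F := (faithfulSMul_iff_algebraMap_injective PA F).2
    fun a b h => Subtype.ext (congrArg (fun z : F => (z : L)) h)
  let K := FractionRing PA
  letI : Algebra K F := FractionRing.liftAlgebra PA F
  haveI : IsScalarTower PA K F := FractionRing.isScalarTower_liftAlgebra PA F
  haveI : IsScalarTower P K F := IsScalarTower.of_algebraMap_eq fun a => by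
    rw [IsScalarTower.algebraMap_apply P PA F, IsScalarTower.algebraMap_apply PA K F,
      IsScalarTower.algebraMap_apply P PA K]
  let G' : Set F := {x | (x : L) ∈ G}
  have hG'fin : G'.Finite := G.finite_toSet.preimage Subtype.val_injective.injOn
  haveI : FiniteDimensional K F := by
    let E := IntermediateField.adjoin K G'
    have htop : E = ⊤ := by
      refine eq_top_iff.2 fun x _ => ?_
      have hx : F ≤ (E.restrictScalars P).map F.val := by
        refine IntermediateField.adjoin_le_iff.2 ?_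
        rintro y (hy | hy)
        · refine ⟨⟨y, IntermediateField.subset_adjoin P _ (Or.inl hy)⟩, ?_, rfl⟩
          show _ ∈ E
          rw [show (⟨y, IntermediateField.subset_adjoin P _ (Or.inl hy)⟩ : F) =
            algebraMap K F (algebraMap PA K ⟨y, Algebra.subset_adjoin hy⟩) from
              (IsScalarTower.algebraMap_apply PA K F ⟨y, Algebra.subset_adjoin hy⟩)]
          exact E.algebraMap_mem _
        · exact ⟨⟨y, IntermediateField.subset_adjoin P _ (Or.inr hy)⟩,
            IntermediateField.subset_adjoin K _ (show y ∈ G from hy), rfl⟩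
      obtain ⟨z, hz, hzx⟩ := hx x.2
      exact (Subtype.ext hzx : z = x) ▸ hz
    haveI : Finite G' := hG'fin.to_subtype
    haveI : FiniteDimensional K E := IntermediateField.finiteDimensional_adjoin fun g hg => by
      refine isAlgebraic_iff_isIntegral.1 ?_
      refine (IsFractionRing.isAlgebraic_iff PA K F).1 ?_
      exact (isAlgebraic_algebraMap_iff (R := PA) (A := L) (algebraMap F L).injective).1 (hG _ hg)
    exact Module.Finite.equiv ((IntermediateField.equivOfEq htop).trans IntermediateField.topEquiv).toLinearEquiv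
  haveI : Algebra.FiniteType P PA := (Subalgebra.fg_iff_finiteType PA).1 ⟨s, rfl⟩
  haveI : Module.Finite PA (integralClosure PA F) :=
    Groth.L01.Nagata.isN2_of_isNagata
      (Groth.L01.Nagata.isNagata_of_finiteType (Groth.L18.NormField.isNagata_field P)) F inferInstance
  haveI : Algebra.FiniteType P (integralClosure PA F) := Algebra.FiniteType.trans (S := PA) inferInstance inferInstance
  haveI : IsIntegrallyClosed (integralClosure PA F) :=
    integralClosure.isIntegrallyClosedOfFiniteExtension K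
  obtain ⟨t, ht⟩ := (inferInstance : Algebra.FiniteType P (integralClosure PA F)).out
  let θ : integralClosure PA F →ₐ[P] L := F.val.comp ((integralClosure PA F).val.restrictScalars P)
  have hθ : Function.Injective θ := Subtype.val_injective.comp Subtype.val_injective
  let c : Finset L := t.image θ
  have hc : Algebra.adjoin P (Set.range fun i : c => (i : L)) = θ.range := by
    rw [show (Set.range fun i : c => (i : L)) = (c : Set L) from Subtype.range_coe]
    rw [Finset.coe_image, ← AlgHom.map_adjoin, ht, Algebra.map_top]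
  refine ⟨c, ?_, fun x => ?_⟩
  · exact Groth.L06.NormalAscent.isNormalRing_of_ringEquiv
      ((AlgEquiv.ofInjective θ hθ).trans (Subalgebra.equivOfEq _ _ hc.symm)).toRingEquiv
      (isNormalRing_of_domain _)
  · rw [hc]
    constructor
    · rintro ⟨z, rfl⟩
      exact ⟨z.1.2, (isIntegral_algebraMap_iff (R := PA) (algebraMap F L).injective).2 z.2⟩
    · rintro ⟨hx, hint⟩
      exact ⟨⟨⟨x, hx⟩, (isIntegral_algebraMap_iff (R := PA) (algebraMap F L).injective).1 hint⟩, rfl⟩

/-- The field generated by the image of an injective map is the fraction field. -/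
theorem isFractionRing_closure {B : Type u} [CommRing B] [Algebra B L] (hinj : Function.Injective (algebraMap B L))
    (k₁ : Subfield L) (hk : k₁ = Subfield.closure (Set.range (algebraMap B L))) [Algebra B k₁]
    (hmap : ∀ y : B, ((algebraMap B k₁ y : k₁) : L) = algebraMap B L y) : IsFractionRing B k₁ := by
  haveI : FaithfulSMul B k₁ := (faithfulSMul_iff_algebraMap_injective B k₁).2
    fun a b h => hinj (by rw [← hmap, ← hmap, h])
  refine IsFractionRing.of_field B k₁ fun z => ?_
  have hz : (z : L) ∈ Subfield.closure (Set.range (algebraMap B L)) := hk ▸ z.2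
  obtain ⟨y, hy, w, hw, e⟩ := Subfield.mem_closure_iff.1 hz
  have hcl : Subring.closure (Set.range (algebraMap B L)) = (algebraMap B L).range :=
    Subring.closure_eq (algebraMap B L).range
  rw [hcl] at hy hw
  obtain ⟨y, rfl⟩ := hy
  obtain ⟨w, rfl⟩ := hw
  refine ⟨y, w, Subtype.coe_injective ?_⟩
  show (z : L) = ((algebraMap B k₁ y / algebraMap B k₁ w : k₁) : L)
  rw [Subfield.coe_div, hmap, hmap, e]

variable [IsAlgClosed L]

set_option maxHeartbeats 6400000 in
/-- For a finitely generated algebra and finitely many algebraic elements, a finite set of constants and a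
finite set of integral elements make every model containing them geometrically normal on the generic fibre. -/
theorem exists_model (A : Subalgebra R L) (hA : A.FG) (G : Finset L) (hG : ∀ g ∈ G, IsAlgebraic A g) :
    ∃ S₀ : Finset L, (∀ s ∈ S₀, IsIntegral R s) ∧ ∃ r : Finset L, (∀ x ∈ r, IsIntegral A x) ∧
      (∀ x ∈ r, x ∈ Subfield.closure ((A : Set L) ∪ ↑G ∪ ↑S₀)) ∧
      ∀ (B A' : Type u) [CommRing B] [CommRing A'] [Algebra B A'] [Algebra B L] [Algebra A' L]
        [IsScalarTower B A' L], Function.Injective (algebraMap B L) → Function.Injective (algebraMap A' L) →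
        Set.range (algebraMap R L) ⊆ Set.range (algebraMap B L) → ↑S₀ ⊆ Set.range (algebraMap B L) →
        (∀ y : B, IsIntegral R (algebraMap B L y)) → (A : Set L) ⊆ Set.range (algebraMap A' L) →
        ↑r ⊆ Set.range (algebraMap A' L) → (∀ a : A', IsIntegral A (algebraMap A' L a)) →
        (∀ a : A', algebraMap A' L a ∈ Subfield.closure ((A : Set L) ∪ ↑G ∪ Set.range (algebraMap B L))) →
        ∀ (Ω : Type u) [Field Ω] [IsAlgClosed Ω] [Algebra B Ω], Function.Injective (algebraMap B Ω) →
          EGA4.IsNormalRing (Ω ⊗[B] A') := by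
  classical
  let k := kb R L
  let P : IntermediateField k L := algebraicClosure k L
  letI : Algebra R k := ((algebraMap R L).codRestrict k fun a => Subfield.subset_closure ⟨a, rfl⟩).toAlgebra
  haveI : IsScalarTower R k L := IsScalarTower.of_algebraMap_eq fun _ => rfl
  haveI : IsAlgClosure k P := algebraicClosure.isAlgClosure k L
  haveI : IsAlgClosed P := IsAlgClosure.isAlgClosed k
  obtain ⟨s, hs⟩ := hA
  have hsA : (s : Set L) ⊆ A := hs ▸ Algebra.subset_adjoin
  have hAk : (A : Set L) ⊆ Algebra.adjoin k (s : Set L) := by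
    rw [← hs]
    intro x hx
    induction hx using Algebra.adjoin_induction with
    | mem a ha => exact Algebra.subset_adjoin ha
    | algebraMap a => exact Subalgebra.algebraMap_mem _ (⟨_, Subfield.subset_closure ⟨a, rfl⟩⟩ : k)
    | add a b _ _ ha hb => exact add_mem ha hb
    | mul a b _ _ ha hb => exact mul_mem ha hb
  have hkP : ∀ x : L, x ∈ Algebra.adjoin k (s : Set L) → x ∈ Algebra.adjoin P (s : Set L) := fun x hx =>
    (Algebra.adjoin_le Algebra.subset_adjoin :
      Algebra.adjoin k (s : Set L) ≤ (Algebra.adjoin P (s : Set L)).restrictScalars k) hx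
  have hAP : (A : Set L) ⊆ Algebra.adjoin P (s : Set L) := fun x hx => hkP x (hAk hx)
  let PA := Algebra.adjoin P (s : Set L)
  letI : Algebra A PA := ((algebraMap A L).codRestrict PA fun a => hAP a.2).toAlgebra
  haveI : IsScalarTower A PA L := IsScalarTower.of_algebraMap_eq fun _ => rfl
  have hinjAPA : Function.Injective (algebraMap A PA) :=
    fun a b h => Subtype.ext (congrArg (fun z : PA => (z : L)) h)
  have hGP : ∀ g ∈ G, IsAlgebraic PA g := fun g hg => IsAlgebraic.extendScalars (R := A) hinjAPA (hG g hg)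
  obtain ⟨c, hcn, hmem⟩ := exists_normalisation (P := P) s G hGP
  let φ : MvPolynomial c P →ₐ[P] L := MvPolynomial.aeval fun i : c => (i : L)
  obtain ⟨H, hH⟩ : (RingHom.ker φ).FG := IsNoetherian.noetherian _
  have hAc : ∀ a ∈ A, a ∈ Algebra.adjoin P (Set.range fun i : c => (i : L)) := fun a ha =>
    (hmem a).2 ⟨IntermediateField.algebra_adjoin_le_adjoin P _
      (Algebra.adjoin_mono Set.subset_union_left (hAP ha)),
      isIntegral_algebraMap (R := PA) (A := L) (x := (⟨a, hAP ha⟩ : PA))⟩
  have hbg : ∀ g : G, ∃ b : L, b ≠ 0 ∧ b ∈ A ∧ IsIntegral A (b * (g : L)) := fun g => by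
    obtain ⟨y, hy, hyi⟩ := (hG g g.2).exists_integral_multiple
    exact ⟨(y : L), fun h => hy (Subtype.ext h), y.2, hyi⟩
  choose bg hbg0 hbgA hbgi using hbg
  have hgc : ∀ g : G, bg g * (g : L) ∈ Algebra.adjoin P (Set.range fun i : c => (i : L)) := fun g =>
    (hmem _).2 ⟨mul_mem (IntermediateField.algebra_adjoin_le_adjoin P _
      (Algebra.adjoin_mono Set.subset_union_left (hAP (hbgA g))))
      (IntermediateField.subset_adjoin P _ (Or.inr g.2)), (hbgi g).tower_top⟩
  choose TA hTA hTA' using fun a : s => exists_finset_adjoin P _ (hAc a (hsA a.2))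
  choose TG hTG hTG' using fun g : G => exists_finset_adjoin P _ (hgc g)
  have hcF : ∀ i : c, (i : L) ∈ Subfield.closure ((A : Set L) ∪ ↑G ∪ (P : Set L)) := fun i => by
    have h := ((hmem i).1 (Algebra.subset_adjoin ⟨i, rfl⟩)).1
    refine (?_ : (IntermediateField.adjoin P ((s : Set L) ∪ G)).toSubfield ≤ _) h
    rw [IntermediateField.adjoin_toSubfield]
    refine Subfield.closure_le.2 (Set.union_subset ?_ fun x hx => Subfield.subset_closure ?_)
    · rintro _ ⟨a, rfl⟩
      exact Subfield.subset_closure (Or.inr a.2)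
    · exact hx.elim (fun h => Or.inl (Or.inl (hsA h))) fun h => Or.inl (Or.inr h)
  choose TC hTC hTC' using fun i : c => exists_finset_closure (hcF i)
  let TH : Finset L := H.biUnion fun h => h.coeffs.image fun a : P => (a : L)
  let T : Finset L := Finset.univ.biUnion TA ∪ Finset.univ.biUnion TG ∪ Finset.univ.biUnion TC ∪ TH
  have hTP : ∀ t ∈ T, t ∈ P := by
    intro t ht
    simp only [T, TH, Finset.mem_union, Finset.mem_biUnion, Finset.mem_univ, true_and, Finset.mem_image] at ht
    rcases ht with ((⟨i, hi⟩ | ⟨i, hi⟩) | ⟨i, hi⟩) | ⟨h, -, a, -, rfl⟩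
    exacts [hTA i hi, hTG i hi, hTC i hi, a.2]
  have hscale : ∀ t : T, ∃ e : R, algebraMap R L e ≠ 0 ∧ IsIntegral R (algebraMap R L e * (t : L)) := fun t => by
    have h1 : IsIntegral (Algebra.adjoin k ((⊥ : Subalgebra R L) : Set L)) (t : L) :=
      IsIntegral.tower_top (mem_algebraicClosure_iff'.1 (hTP t t.2))
    obtain ⟨e, he, h2⟩ := exists_scalar_integral ⊥ h1
    haveI : Algebra.IsIntegral R (⊥ : Subalgebra R L) := ⟨fun x => by
      obtain ⟨a, ha⟩ := Algebra.mem_bot.1 x.2
      exact (Subtype.ext ha : algebraMap R (⊥ : Subalgebra R L) a = x) ▸ isIntegral_algebraMap⟩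
    exact ⟨e, he, isIntegral_trans _ h2⟩
  choose eT heT heTi using hscale
  let S₀ : Finset L := Finset.univ.image fun t : T => algebraMap R L (eT t) * (t : L)
  have hTk₁ : ∀ k₁ : Subfield L, Set.range (algebraMap R L) ⊆ k₁ → (S₀ : Set L) ⊆ k₁ → (T : Set L) ⊆ k₁ := by
    intro k₁ hR hS t ht
    have h := k₁.mul_mem (k₁.inv_mem (hR ⟨eT ⟨t, ht⟩, rfl⟩))
      (hS (Finset.mem_image_of_mem _ (Finset.mem_univ ⟨t, ht⟩)))
    rwa [inv_mul_cancel_left₀ (heT _)] at h
  have hcint : ∀ i : c, IsIntegral (Algebra.adjoin k (A : Set L)) (i : L) := fun i => by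
    let kA := Algebra.adjoin k (A : Set L)
    let I := integralClosure kA L
    have hPA : ∀ x : L, x ∈ PA → x ∈ I := fun x hx => by
      induction hx using Algebra.adjoin_induction with
      | mem a ha => exact I.algebraMap_mem (⟨a, Algebra.subset_adjoin (hsA ha)⟩ : kA)
      | algebraMap a => exact (mem_algebraicClosure_iff'.1 a.2).tower_top
      | add a b _ _ ha hb => exact add_mem ha hb
      | mul a b _ _ ha hb => exact mul_mem ha hb
    letI : Algebra PA I := ((algebraMap PA L).codRestrict I fun a => hPA a a.2).toAlgebra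
    haveI : IsScalarTower PA I L := IsScalarTower.of_algebraMap_eq fun _ => rfl
    haveI : Algebra.IsIntegral kA I := ⟨fun x => (isIntegral_algebraMap_iff (R := kA) (A := I) (B := L)
      Subtype.val_injective).1 x.2⟩
    exact isIntegral_trans (R := kA) (A := I) _ ((hmem i).1 (Algebra.subset_adjoin ⟨i, rfl⟩)).2.tower_top
  choose ec hec heci using fun i : c => exists_scalar_integral A (hcint i)
  let r : Finset L := Finset.univ.image fun i : c => algebraMap R L (ec i) * (i : L)
  refine ⟨S₀, ?_, r, ?_, ?_, ?_⟩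
  · intro x hx
    obtain ⟨t, -, rfl⟩ := Finset.mem_image.1 hx
    exact heTi t
  · intro x hx
    obtain ⟨i, -, rfl⟩ := Finset.mem_image.1 hx
    exact heci i
  · intro x hx
    obtain ⟨i, -, rfl⟩ := Finset.mem_image.1 hx
    let K := Subfield.closure ((A : Set L) ∪ ↑G ∪ ↑S₀)
    have hR : Set.range (algebraMap R L) ⊆ K := by
      rintro _ ⟨a, rfl⟩
      exact Subfield.subset_closure (Or.inl (Or.inl (A.algebraMap_mem a)))
    refine K.mul_mem (hR ⟨_, rfl⟩) ?_
    refine Subfield.closure_le.2 ?_ (hTC' i)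
    refine Set.union_subset (fun y hy => Subfield.subset_closure (Or.inl hy)) ?_
    refine Set.Subset.trans ?_ (hTk₁ K hR fun y hy => Subfield.subset_closure (Or.inr hy))
    intro y hy
    simp only [T, Finset.coe_union, Finset.coe_biUnion]
    exact Or.inl (Or.inr (by simpa using ⟨i.1, i.2, hy⟩))
  intro B A' _ _ _ _ _ _ hinjB hinjA' hRB hSB hBint hAA' hrA' hA'int hA'mem Ω _ _ _ hinjΩ
  let k₁ : Subfield L := Subfield.closure (Set.range (algebraMap B L))
  have hk₁P : ∀ x ∈ k₁, x ∈ P := by
    show k₁ ≤ P.toSubfield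
    refine Subfield.closure_le.2 ?_
    rintro _ ⟨y, rfl⟩
    exact mem_algebraicClosure_iff'.2 (hBint y).tower_top
  have hkk₁ : k ≤ k₁ := Subfield.closure_mono hRB
  have hT : (T : Set L) ⊆ k₁ := hTk₁ k₁ (fun x hx => Subfield.subset_closure (hRB hx))
    fun x hx => Subfield.subset_closure (hSB hx)
  letI : Algebra k₁ P := ((k₁.subtype).codRestrict P fun x => hk₁P x x.2).toAlgebra
  haveI : IsScalarTower k₁ P L := IsScalarTower.of_algebraMap_eq fun _ => rfl
  letI : Algebra k k₁ := (Subfield.inclusion hkk₁).toAlgebra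
  haveI : IsScalarTower k k₁ P := IsScalarTower.of_algebraMap_eq fun _ => rfl
  haveI : Algebra.IsAlgebraic k₁ P := Algebra.IsAlgebraic.tower_top (K := k) k₁
  letI : Algebra B k₁ := ((algebraMap B L).codRestrict k₁ fun y => Subfield.subset_closure ⟨y, rfl⟩).toAlgebra
  haveI : IsScalarTower B k₁ L := IsScalarTower.of_algebraMap_eq fun _ => rfl
  haveI : IsDomain B := hinjB.isDomain
  haveI : FaithfulSMul B k₁ := (faithfulSMul_iff_algebraMap_injective B k₁).2
    fun a b h => hinjB (congrArg Subtype.val h)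
  haveI : IsFractionRing B k₁ := isFractionRing_closure hinjB k₁ rfl fun _ => rfl
  letI : Algebra k₁ Ω := (IsFractionRing.lift (K := k₁) hinjΩ).toAlgebra
  haveI : IsScalarTower B k₁ Ω := IsScalarTower.of_algebraMap_eq fun y =>
    (IsFractionRing.lift_algebraMap hinjΩ y).symm
  letI : Algebra P Ω := (IsAlgClosed.lift : P →ₐ[k₁] Ω).toRingHom.toAlgebra
  haveI : IsScalarTower k₁ P Ω := IsScalarTower.of_algebraMap_eq fun y =>
    ((IsAlgClosed.lift : P →ₐ[k₁] Ω).commutes y).symm
  let cc : c → L := fun i => (i : L)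
  have hrel : RelDefined (k₁ := k₁) (P := P) cc := by
    intro p hp
    have hp' : p ∈ RingHom.ker φ := hp
    rw [← hH] at hp'
    refine Ideal.span_le.2 ?_ hp'
    intro h hh
    have hcoef : (h.coeffs : Set P) ⊆ Set.range (algebraMap k₁ P) := fun a ha =>
      ⟨⟨(a : L), hT (Finset.mem_union_right _ (Finset.mem_biUnion.2 ⟨h, hh, Finset.mem_image_of_mem _ ha⟩))⟩,
        Subtype.ext rfl⟩
    obtain ⟨h', hh'⟩ := MvPolynomial.mem_range_map_iff_coeffs_subset.2 hcoef
    rw [← hh']
    refine Ideal.mem_map_of_mem _ ?_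
    have h0 : φ h = 0 := (hH ▸ Ideal.subset_span hh : h ∈ RingHom.ker φ)
    show MvPolynomial.aeval cc h' = 0
    rw [← MvPolynomial.aeval_map_algebraMap P cc h', hh']
    exact h0
  let D := Algebra.adjoin k₁ (Set.range cc)
  have hTsub : ∀ {t : Finset L}, t ⊆ T → (t : Set L) ⊆ k₁ := fun h x hx => hT (h hx)
  have hsD : ∀ a : s, (a : L) ∈ D := fun a => hTA' a k₁ (hTsub fun x hx => by
    simp only [T, Finset.mem_union, Finset.mem_biUnion, Finset.mem_univ, true_and]
    exact Or.inl (Or.inl (Or.inl ⟨a, hx⟩)))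
  have hbgD : ∀ g : G, bg g * (g : L) ∈ D := fun g => hTG' g k₁ (hTsub fun x hx => by
    simp only [T, Finset.mem_union, Finset.mem_biUnion, Finset.mem_univ, true_and]
    exact Or.inl (Or.inl (Or.inr ⟨g, hx⟩)))
  have hBD : Set.range (algebraMap B L) ⊆ D := by
    rintro _ ⟨y, rfl⟩
    exact D.algebraMap_mem (⟨_, Subfield.subset_closure ⟨y, rfl⟩⟩ : k₁)
  have hAD : (A : Set L) ⊆ D := by
    rw [← hs]
    intro x hx
    induction hx using Algebra.adjoin_induction with
    | mem a ha => exact hsD ⟨a, ha⟩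
    | algebraMap a => exact hBD (hRB ⟨a, rfl⟩)
    | add a b _ _ ha hb => exact add_mem ha hb
    | mul a b _ _ ha hb => exact mul_mem ha hb
  have hAFD : ∀ a : A', algebraMap A' L a ∈ D := by
    intro a
    have hfrac : ∀ z ∈ Subfield.closure ((A : Set L) ∪ ↑G ∪ Set.range (algebraMap B L)),
        ∃ x ∈ D, ∃ y ∈ D, y ≠ 0 ∧ y * z = x := by
      intro z hz
      have hsub : Subfield.closure ((A : Set L) ∪ ↑G ∪ Set.range (algebraMap B L)) ≤
          Subfield.closure (D : Set L) := by
        refine Subfield.closure_le.2 (Set.union_subset (Set.union_subset ?_ ?_) ?_)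
        · exact hAD.trans Subfield.subset_closure
        · intro g hg
          have h := (Subfield.closure (D : Set L)).mul_mem
            ((Subfield.closure (D : Set L)).inv_mem (Subfield.subset_closure (hAD (hbgA ⟨g, hg⟩))))
            (Subfield.subset_closure (hbgD ⟨g, hg⟩))
          rwa [inv_mul_cancel_left₀ (hbg0 _)] at h
        · exact hBD.trans Subfield.subset_closure
      obtain ⟨x, hx, y, hy, rfl⟩ := Subfield.mem_closure_iff.1 (hsub hz)
      rw [show Subring.closure (D : Set L) = D.toSubring from Subring.closure_eq D.toSubring] at hx hy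
      rcases eq_or_ne y 0 with h0 | h0
      · exact ⟨0, D.zero_mem, 1, D.one_mem, one_ne_zero, by simp [h0]⟩
      · exact ⟨x, hx, y, hy, h0, by field_simp⟩
    obtain ⟨x, hx, y, hy, hy0, e⟩ := hfrac _ (hA'mem a)
    refine mem_adjoin_of_div cc hrel hx hy hy0 e ((hmem _).2 ⟨?_, (hA'int a).tower_top⟩)
    refine (?_ : Subfield.closure ((A : Set L) ∪ ↑G ∪ Set.range (algebraMap B L)) ≤
      (IntermediateField.adjoin P ((s : Set L) ∪ G)).toSubfield) (hA'mem a)
    refine Subfield.closure_le.2 (Set.union_subset (Set.union_subset ?_ ?_) ?_)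
    · exact fun x hx => IntermediateField.algebra_adjoin_le_adjoin P _
        (Algebra.adjoin_mono Set.subset_union_left (hAP hx))
    · exact fun x hx => IntermediateField.subset_adjoin P _ (Or.inr hx)
    · rintro _ ⟨y, rfl⟩
      exact (IntermediateField.adjoin P ((s : Set L) ∪ G)).algebraMap_mem
        (⟨_, hk₁P _ (Subfield.subset_closure ⟨y, rfl⟩)⟩ : P)
  letI : Algebra A' D := ((algebraMap A' L).codRestrict D hAFD).toAlgebra
  haveI : IsScalarTower A' D L := IsScalarTower.of_algebraMap_eq fun _ => rfl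
  letI : Algebra B D := ((algebraMap A' D).comp (algebraMap B A')).toAlgebra
  haveI : IsScalarTower B A' D := IsScalarTower.of_algebraMap_eq' rfl
  haveI : IsScalarTower B k₁ D := IsScalarTower.of_algebraMap_eq fun y => Subtype.ext <| by
    show algebraMap A' L (algebraMap B A' y) = algebraMap B L y
    exact (IsScalarTower.algebraMap_apply B A' L y).symm
  have hfracD : ∀ x ∈ D, ∃ y : B, y ≠ 0 ∧ ∃ a : A', algebraMap B L y * x = algebraMap A' L a := by
    intro x hx
    induction hx using Algebra.adjoin_induction with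
    | mem x hx =>
      obtain ⟨i, rfl⟩ := hx
      obtain ⟨y, hy⟩ := hRB ⟨ec i, rfl⟩
      obtain ⟨a, ha⟩ := hrA' (Finset.mem_image_of_mem _ (Finset.mem_univ i))
      refine ⟨y, fun h0 => hec i (by rw [← hy, h0, map_zero]), a, ?_⟩
      rw [hy, ha]
    | algebraMap z =>
      obtain ⟨y, w, hw, rfl⟩ := IsFractionRing.div_surjective (A := B) z
      refine ⟨w, nonZeroDivisors.ne_zero hw, algebraMap B A' y, ?_⟩
      rw [← IsScalarTower.algebraMap_apply]
      show algebraMap B L w * (algebraMap B L y / algebraMap B L w) = algebraMap B L y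
      exact mul_div_cancel₀ _ fun h0 => nonZeroDivisors.ne_zero hw (hinjB (h0.trans (map_zero _).symm))
    | add a b _ _ ha hb =>
      obtain ⟨y₁, h1, a₁, e₁⟩ := ha
      obtain ⟨y₂, h2, a₂, e₂⟩ := hb
      refine ⟨y₁ * y₂, mul_ne_zero h1 h2, algebraMap B A' y₂ * a₁ + algebraMap B A' y₁ * a₂, ?_⟩
      rw [map_add, map_mul, map_mul, map_mul, ← IsScalarTower.algebraMap_apply, ← IsScalarTower.algebraMap_apply,
        ← e₁, ← e₂]
      ring
    | mul a b _ _ ha hb =>
      obtain ⟨y₁, h1, a₁, e₁⟩ := ha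
      obtain ⟨y₂, h2, a₂, e₂⟩ := hb
      refine ⟨y₁ * y₂, mul_ne_zero h1 h2, a₁ * a₂, ?_⟩
      rw [map_mul, map_mul, ← e₁, ← e₂]
      ring
  have hunitD : ∀ y : B, y ≠ 0 → IsUnit (algebraMap B D y) := fun y hy => by
    rw [IsScalarTower.algebraMap_apply B k₁ D]
    exact (isUnit_iff_ne_zero.2 fun h0 => hy (IsFractionRing.injective B k₁
      (h0.trans (map_zero _).symm))).map _
  haveI : IsLocalization (Algebra.algebraMapSubmonoid A' (nonZeroDivisors B)) D := by
    refine (isLocalization_iff _ _).2 ⟨?_, ?_, ?_⟩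
    · rintro ⟨_, y, hy, rfl⟩
      rw [← IsScalarTower.algebraMap_apply]
      exact hunitD y (nonZeroDivisors.ne_zero hy)
    · intro z
      obtain ⟨y, hy, a, e⟩ := hfracD z z.2
      refine ⟨(a, ⟨algebraMap B A' y, y, mem_nonZeroDivisors_of_ne_zero hy, rfl⟩), Subtype.ext ?_⟩
      show (z : L) * algebraMap A' L (algebraMap B A' y) = algebraMap A' L a
      rw [← IsScalarTower.algebraMap_apply, mul_comm, e]
    · intro x y h
      exact ⟨1, by rw [hinjA' (congrArg Subtype.val h)]⟩
  haveI : Algebra.IsPushout B k₁ A' D :=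
    (Algebra.isPushout_of_isLocalization (nonZeroDivisors B) k₁ A' D).symm
  have hD : EGA4.IsNormalRing (Ω ⊗[k₁] D) := isNormalRing_tensor cc hrel hcn Ω
  exact Groth.L06.NormalAscent.isNormalRing_of_ringEquiv
    ((Algebra.TensorProduct.congr (R := k₁) (S := k₁) (AlgEquiv.refl : Ω ≃ₐ[k₁] Ω)
      (Algebra.IsPushout.equiv B k₁ A' D).symm).toRingEquiv.trans
      (Algebra.TensorProduct.cancelBaseChange B k₁ k₁ Ω A').toRingEquiv) hD

end Model

end Groth.L23.CohProp.NormalModel
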