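import Groth.Agent.L23.CohProp.ModelField
import Groth.Agent.L23.CohProp.ModelNorm
import Groth.Agent.L23.CohProp.NormalModel
import Groth.Agent.L13.Nagata.Affine
import Groth.Agent.S2266
import Mathlib.AlgebraicGeometry.SpreadingOut

/-! # Models with geometrically normal generic fibre for a point -/

universe u

open CategoryTheory CategoryTheory.Limits AlgebraicGeometry TopologicalSpace IsLocalRing
open scoped TensorProduct

set_option autoImplicit false
set_option maxHeartbeats 800000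
set_option backward.isDefEq.respectTransparency.types false
set_option linter.style.haveILetI false
set_option linter.unusedSectionVars false

noncomputable section

namespace Groth.L23.CohProp.Model

theorem sec_SpecMap_top {R K : Type u} [CommRing R] [Field K] (ψ : R →+* K)
    (h : (Spec.map (CommRingCat.ofHom ψ)) (closedPoint K) ∈ (⊤ : (Spec (CommRingCat.of R)).Opens)) (r : R) :
    sec (Spec.map (CommRingCat.ofHom ψ)) ⊤ h ((Scheme.ΓSpecIso (CommRingCat.of R)).inv r) = ψ r := by
  have e : (Scheme.ΓSpecIso (CommRingCat.of R)).inv ≫ secC (Spec.map (CommRingCat.ofHom ψ)) ⊤ h =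
      CommRingCat.ofHom ψ := by
    rw [Iso.inv_comp_eq, secC, ← Scheme.ΓSpecIso_naturality, Scheme.Hom.appTop, Scheme.Hom.app_eq_appLE]
    rfl
  exact congr($e r)

theorem ext_sec {K : Type u} [Field K] {S : Scheme.{u}} [IsAffine S] {l₁ l₂ : Spec (CommRingCat.of K) ⟶ S}
    (h : ∀ a : Γ(S, ⊤), sec l₁ ⊤ trivial a = sec l₂ ⊤ trivial a) : l₁ = l₂ := by
  refine ext_of_isAffine ?_
  rw [← cancel_mono (Scheme.ΓSpecIso (CommRingCat.of K)).hom]
  have e : secC l₁ ⊤ trivial = secC l₂ ⊤ trivial := CommRingCat.hom_ext (RingHom.ext h)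
  simpa [secC, Scheme.Hom.appTop, Scheme.Hom.app_eq_appLE] using e

theorem sec_injective {K : Type u} [Field K] {N : Scheme.{u}} (l : Spec (CommRingCat.of K) ⟶ N) (V : N.Opens)
    (h : l (closedPoint K) ∈ V) (hinj : Function.Injective (l.app V)) : Function.Injective (sec l V h) := by
  have e : secC l V h = l.app V ≫ ((Spec (CommRingCat.of K)).presheaf.map
      (eqToHom (top_le_iff.1 (top_le_preimage l h)).symm).op ≫ (Scheme.ΓSpecIso (CommRingCat.of K)).hom) := by
    rw [secC, Scheme.Hom.appLE, Category.assoc]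
    rfl
  show Function.Injective (secC l V h)
  rw [e]
  exact (ConcreteCategory.bijective_of_isIso ((Spec (CommRingCat.of K)).presheaf.map
    (eqToHom (top_le_iff.1 (top_le_preimage l h)).symm).op ≫ (Scheme.ΓSpecIso (CommRingCat.of K)).hom)).1.comp hinj

theorem isoSpec_inv_appTop' (S : Scheme.{u}) [IsAffine S] :
    S.isoSpec.inv.appTop = (Scheme.ΓSpecIso Γ(S, ⊤)).inv := by
  have h : S.isoSpec.inv.appTop ≫ S.isoSpec.hom.appTop = 𝟙 _ := by
    rw [← Scheme.Hom.comp_appTop, Iso.hom_inv_id, Scheme.Hom.id_appTop]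
  rw [show S.isoSpec.hom.appTop = (Scheme.ΓSpecIso Γ(S, ⊤)).hom from Scheme.toSpecΓ_appTop S] at h
  exact (Iso.comp_hom_eq_id (Scheme.ΓSpecIso Γ(S, ⊤))).1 h

theorem eq_genericPoint {K : Type u} [Field K] {N : Scheme.{u}} [IsIntegral N] (l : Spec (CommRingCat.of K) ⟶ N)
    [IsDominant l] : l (closedPoint K) = genericPoint N := by
  refine ((genericPoint_spec N).eq ?_).symm
  have hr : Set.range l = {l (closedPoint K)} := by
    refine Set.Subset.antisymm ?_ (Set.singleton_subset_iff.2 ⟨_, rfl⟩)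
    rintro _ ⟨z, rfl⟩
    rw [show z = closedPoint K from Subsingleton.elim (α := PrimeSpectrum K) _ _]
    rfl
  show closure {l (closedPoint K)} = Set.univ
  rw [← hr]
  exact l.denseRange.closure_range

theorem finite_residueFieldMap {A B : Scheme.{u}} (f : A ⟶ B) [LocallyQuasiFinite f] [LocallyOfFiniteType f] (x : A) :
    (f.residueFieldMap x).hom.Finite := by
  haveI : LocallyQuasiFinite (A.fromSpecResidueField x) := inferInstance
  haveI : LocallyQuasiFinite (Spec.map (f.residueFieldMap x) ≫ B.fromSpecResidueField (f x)) := by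
    rw [Scheme.Hom.SpecMap_residueFieldMap_fromSpecResidueField]
    infer_instance
  haveI : LocallyQuasiFinite (Spec.map (f.residueFieldMap x)) :=
    LocallyQuasiFinite.of_comp _ (B.fromSpecResidueField (f x))
  haveI : IsFinite (Spec.map (f.residueFieldMap x)) := IsFinite.of_locallyQuasiFinite _
  exact (IsFinite.SpecMap_iff _).1 inferInstance

/-- Integrality transported to sections. -/
theorem isIntegralElem_of_range {Γ K L : Type u} [CommRing Γ] [Field K] [Field L] (φ : Γ →+* K) (ψ : K →+* L)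
    {R : Type u} [CommRing R] [Algebra R L] (A : Subalgebra R L) (hA : (A : Set L) ⊆ Set.range (ψ.comp φ)) {x : K}
    (hx : IsIntegral A (ψ x)) : φ.IsIntegralElem x := by
  obtain ⟨p, hp, hpx⟩ := hx
  have hl : p.map (algebraMap A L) ∈ Polynomial.lifts (ψ.comp φ) :=
    (Polynomial.lifts_iff_coeff_lifts _).2 fun i => by
      rw [Polynomial.coeff_map]; exact hA (p.coeff i).2
  obtain ⟨q, hq, -, hqm⟩ := Polynomial.lifts_and_natDegree_eq_and_monic hl (hp.map _)
  refine ⟨q, hqm, ψ.injective ?_⟩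
  rw [map_zero, Polynomial.hom_eval₂, Polynomial.eval₂_eq_eval_map, hq, ← Polynomial.eval₂_eq_eval_map]
  exact hpx

theorem isIntegral_of_finite {Γ Γ' L : Type u} [CommRing Γ] [CommRing Γ'] [Field L] (θ : Γ →+* Γ') (hθ : θ.IsIntegral)
    (s : Γ' →+* L) {R : Type u} [CommRing R] [Algebra R L] (A : Subalgebra R L) (hA : ∀ a, s (θ a) ∈ A) (a : Γ') :
    IsIntegral A (s a) := by
  obtain ⟨p, hp, hpa⟩ := hθ a
  refine ⟨p.map ((s.comp θ).codRestrict A hA), hp.map _, ?_⟩
  rw [Polynomial.eval₂_map]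
  show Polynomial.eval₂ (s.comp θ) (s a) p = 0
  rw [← Polynomial.hom_eval₂, hpa, map_zero]

/-- Algebraic over an algebra generating the subfield over which an element is integral. -/
theorem isAlgebraic_of_closure {R L : Type u} [CommRing R] [Field L] [Algebra R L] (A : Subalgebra R L) {x : L}
    (hx : IsIntegral (Subfield.closure (A : Set L)) x) : IsAlgebraic A x := by
  let k₁ := Subfield.closure (A : Set L)
  letI : Algebra A k₁ := ((algebraMap A L).codRestrict k₁ fun a => Subfield.subset_closure a.2).toAlgebra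
  haveI : IsScalarTower A k₁ L := IsScalarTower.of_algebraMap_eq fun _ => rfl
  have hr : Set.range (algebraMap A L) = (A : Set L) := Subtype.range_coe
  haveI : IsFractionRing A k₁ := NormalModel.isFractionRing_closure (B := A) Subtype.val_injective k₁
    (by rw [hr]) fun _ => rfl
  exact (IsFractionRing.isAlgebraic_iff A k₁ L).2 hx.isAlgebraic

/-- A model of a point with geometrically normal generic fibre. -/
structure Scheme₁ {X Y S V : Scheme.{u}} (f : X ⟶ Y) (b : Y ⟶ S) (g : V ⟶ X) (v : V) where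
  B : Type u
  [commRing : CommRing B]
  [isDomain : IsDomain B]
  [noeth : IsNoetherianRing B]
  σ : Spec (CommRingCat.of B) ⟶ S
  σ_finite : IsFinite σ
  N : Scheme.{u}
  [integral : IsIntegral N]
  a : N ⟶ Spec (CommRingCat.of B)
  π : N ⟶ Y
  proper : IsProper π
  w : π ≫ b = a ≫ σ
  a_generic : a (genericPoint N) = (⟨⊥, Ideal.isPrime_bot⟩ : PrimeSpectrum B)
  good : GoodPt a (⟨⊥, Ideal.isPrime_bot⟩ : PrimeSpectrum B)
  Z : N.Opens
  mem : genericPoint N ∈ Z
  q : (Z : Scheme.{u}) ⟶ X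
  q_finite : IsFinite q
  hq : q ≫ f = Z.ι ≫ π
  q_generic : q ⟨genericPoint N, mem⟩ = g v
  W : (Z : Scheme.{u}).Opens
  memW : (⟨genericPoint N, mem⟩ : ↥(Z : Scheme.{u})) ∈ W
  toV : (W : Scheme.{u}) ⟶ V
  toV_comp : toV ≫ g = W.ι ≫ q

set_option maxHeartbeats 1600000 in
theorem nonempty_scheme₁ {X Y S V : Scheme.{u}} [IsAffine S] [IsNoetherian S] [IsAffine X] [IsAffine Y]
    (f : X ⟶ Y) (b : Y ⟶ S) [LocallyOfFiniteType f] [LocallyOfFiniteType b] (g : V ⟶ X) [LocallyOfFiniteType g]
    [LocallyQuasiFinite g] (v : V) : Nonempty (Scheme₁ f b g v) := by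
  classical
  let κ : Type u := V.residueField v
  let lv : Spec (CommRingCat.of κ) ⟶ V := V.fromSpecResidueField v
  let lX : Spec (CommRingCat.of κ) ⟶ X := lv ≫ g
  haveI : QuasiCompact lX := quasiCompact_of_compactSpace lX
  haveI : IsReduced lX.image := (Groth.Agent.S2266.result lX).1
  haveI : IrreducibleSpace lX.image := (Groth.Agent.S2266.result lX).2 inferInstance inferInstance
  haveI : IsAffine lX.image := isAffine_of_isAffineHom lX.imageι
  obtain ⟨P, i, p, _, _, hp, hip⟩ :=
    Groth.L13.Nagata.exists_compactification_of_isAffine (lX.imageι ≫ f)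
  haveI := hp
  haveI : CompactSpace P := QuasiCompact.compactSpace_of_compactSpace p
  haveI : QuasiSeparatedSpace P := quasiSeparatedSpace_of_quasiSeparated p
  let lP : Spec (CommRingCat.of κ) ⟶ P := lX.toImage ≫ i
  have hfld : fld lP = fld lX := by
    rw [show fld lP = fld lX.toImage from fld_comp _ i, ← fld_comp lX.toImage lX.imageι, lX.toImage_imageι]
  have hkey : lP ≫ p = lX ≫ f := by
    rw [Category.assoc, hip, ← Category.assoc, lX.toImage_imageι]
  let L : Type u := AlgebraicClosure κ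
  let ι₀ : κ →+* L := algebraMap κ L
  let R : Type u := Γ(S, ⊤)
  let l₀ : Spec (CommRingCat.of κ) ⟶ S := lP ≫ p ≫ b
  letI : Algebra R L := (ι₀.comp (sec l₀ ⊤ trivial)).toAlgebra
  haveI : IsNoetherianRing R := IsLocallyNoetherian.component_noetherian ⟨⊤, isAffineOpen_top S⟩
  obtain ⟨cs, hcsfin, hcs⟩ := isCompact_iff_finite_and_eq_biUnion_affineOpens.mp
    (show IsCompact ((⊤ : P.Opens) : Set P) from isCompact_univ)
  let ι : Type u := {U : P.affineOpens // U ∈ cs ∧ lP (closedPoint κ) ∈ U.1}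
  haveI : Finite cs := hcsfin.to_subtype
  haveI : Finite ι := Finite.of_injective (β := cs) (fun U => ⟨U.1, U.2.1⟩) fun a c h => Subtype.ext (congrArg (fun z : cs => z.1) h)
  let U : ι → P.Opens := fun j => j.1.1
  have hU : ∀ j, IsAffineOpen (U j) := fun j => j.1.2
  have hmem : ∀ j, lP (closedPoint κ) ∈ U j := fun j => j.2.2
  have hcov : ∀ x : P, lP (closedPoint κ) ⤳ x → ∃ j, x ∈ U j := by
    intro x hx
    have : x ∈ (⋃ W ∈ cs, (W.1 : Set P)) := by
      have h : x ∈ (⨆ W ∈ cs, (W.1 : P.Opens)) := hcs ▸ Opens.mem_top x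
      simpa using h
    obtain ⟨W, hW, hxW⟩ := Set.mem_iUnion₂.1 this
    exact ⟨⟨W, hW, hx.mem_open W.1.2 hxW⟩, hxW⟩
  obtain ⟨j₀, -⟩ := hcov _ specializes_rfl
  let φ : ∀ j, Γ(P, U j) →+* L := fun j => ι₀.comp (sec lP (U j) (hmem j))
  let st : ∀ j, R →+* Γ(P, U j) := fun j => ((p ≫ b).appLE ⊤ (U j) le_top).hom
  have hst : ∀ j r, φ j (st j r) = algebraMap R L r := fun j r => by
    show ι₀ (sec lP (U j) (hmem j) ((p ≫ b).appLE ⊤ (U j) le_top r)) = ι₀ (sec l₀ ⊤ trivial r)
    exact congrArg ι₀ (congr($(secC_comp_appLE lP (p ≫ b) ⊤ (U j) le_top trivial (hmem j)) r)).symm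
  letI halg : ∀ j, Algebra R Γ(P, U j) := fun j => (st j).toAlgebra
  let φA : ∀ j, Γ(P, U j) →ₐ[R] L := fun j => { φ j with commutes' := hst j }
  let A : ι → Subalgebra R L := fun j => (φA j).range
  have hAfg : ∀ j, (A j).FG := fun j => by
    haveI : Algebra.FiniteType R Γ(P, U j) :=
      LocallyOfFiniteType.finiteType_appLE (p ≫ b) (isAffineOpen_top S) (hU j) le_top
    have h := (Algebra.FiniteType.out (R := R) (A := Γ(P, U j))).map (φA j)
    rwa [Algebra.map_top] at h
  let K₀ : Subfield L := (fld lX).map ι₀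
  have hK₀ : ∀ j, Subfield.closure (A j : Set L) = K₀ := fun j => by
    show Subfield.closure (Set.range (φ j)) = _
    rw [show K₀ = (fld lP).map ι₀ by rw [hfld], fld_eq lP (hU j) (hmem j), RingHom.map_field_closure,
      ← Set.range_comp]
    rfl
  -- generators of the residue field
  let res : X.residueField (g v) →+* κ := (g.residueFieldMap v).hom
  have hres : res.Finite := finite_residueFieldMap g v
  have hfldX : ∀ c, ι₀ (res c) ∈ K₀ := fun c => by
    refine ⟨res c, ?_, rfl⟩
    show res c ∈ fld lX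
    rw [show lX = Spec.map (CommRingCat.ofHom res) ≫ X.fromSpecResidueField (g v) from
      (Scheme.Hom.SpecMap_residueFieldMap_fromSpecResidueField g v).symm, fld_SpecMap]
    exact ⟨c, (fld_fromSpecResidueField (g v)).ge trivial, rfl⟩
  letI : Algebra (X.residueField (g v)) κ := res.toAlgebra
  haveI : Module.Finite (X.residueField (g v)) κ := hres
  obtain ⟨G₀, hG₀⟩ := (inferInstance : Module.Finite (X.residueField (g v)) κ).fg_top
  let G : Finset L := G₀.image ι₀
  have hκ : ∀ z : κ, ι₀ z ∈ Subfield.closure ((K₀ : Set L) ∪ ↑G) := fun z => by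
    have hz : z ∈ Submodule.span (X.residueField (g v)) (G₀ : Set κ) := hG₀ ▸ Submodule.mem_top
    induction hz using Submodule.span_induction with
    | mem a ha => exact Subfield.subset_closure (Or.inr (Finset.mem_image_of_mem _ ha))
    | zero => rw [map_zero]; exact zero_mem _
    | add a c _ _ ha hc => rw [map_add]; exact add_mem ha hc
    | smul c a _ ha =>
      rw [Algebra.smul_def, map_mul]
      exact mul_mem (Subfield.subset_closure (Or.inl (hfldX c))) ha
  have hGalg : ∀ j, ∀ x ∈ G, IsAlgebraic (A j) x := fun j x hx => by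
    obtain ⟨x₀, -, rfl⟩ := Finset.mem_image.1 hx
    refine isAlgebraic_of_closure (A j) ?_
    obtain ⟨m, hm, hmx⟩ := Algebra.IsIntegral.isIntegral (R := X.residueField (g v)) x₀
    let τ : X.residueField (g v) →+* Subfield.closure (A j : Set L) :=
      (ι₀.comp res).codRestrict _ fun c => (hK₀ j).symm ▸ hfldX c
    refine ⟨m.map τ, hm.map _, ?_⟩
    rw [Polynomial.eval₂_map]
    show Polynomial.eval₂ (ι₀.comp res) (ι₀ x₀) m = 0
    rw [← Polynomial.hom_eval₂, show Polynomial.eval₂ res x₀ m = 0 from hmx, map_zero]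
  choose S₀ hS₀int r hrint hrmem hn using fun j => NormalModel.exists_model (A j) (hAfg j) G (hGalg j)
  have hbg : ∀ x : G, ∃ y : L, y ≠ 0 ∧ y ∈ A j₀ ∧ IsIntegral (A j₀) (y * (x : L)) := fun x => by
    obtain ⟨y, hy, hyi⟩ := (hGalg j₀ x x.2).exists_integral_multiple
    exact ⟨(y : L), fun h => hy (Subtype.ext h), y.2, hyi⟩
  choose bg hbg0 hbgA hbgi using hbg
  haveI : Fintype ι := Fintype.ofFinite ι
  let S₁ : Finset L := Finset.univ.biUnion S₀
  let Bs : Subalgebra R L := Algebra.adjoin R (S₁ : Set L)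
  have hS₁int : ∀ x ∈ S₁, IsIntegral R x := fun x hx => by
    obtain ⟨j, -, hj⟩ := Finset.mem_biUnion.1 hx
    exact hS₀int j x hj
  haveI : Module.Finite R Bs := ⟨(Submodule.fg_top _).2 (fg_adjoin_of_finite S₁.finite_toSet hS₁int)⟩
  haveI : IsNoetherianRing Bs := IsNoetherianRing.of_finite R Bs
  let L' : Subfield L := Subfield.closure ((K₀ : Set L) ∪ ↑G ∪ ↑S₁)
  have hK₀L : K₀ ≤ L' := fun x hx => Subfield.subset_closure (Or.inl (Or.inl hx))
  have hAL : ∀ j, (A j : Set L) ⊆ L' := fun j x hx => hK₀L (hK₀ j ▸ Subfield.subset_closure hx)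
  have hBL : ∀ x ∈ Bs, x ∈ L' := fun x hx => by
    induction hx using Algebra.adjoin_induction with
    | mem a ha => exact Subfield.subset_closure (Or.inr ha)
    | algebraMap a => exact hAL j₀ ((A j₀).algebraMap_mem a)
    | add a c _ _ ha hc => exact add_mem ha hc
    | mul a c _ _ ha hc => exact mul_mem ha hc
  let ι' : κ →+* L' := ι₀.codRestrict L' fun z =>
    Subfield.closure_mono Set.subset_union_left (hκ z)
  let lP' : Spec (CommRingCat.of L') ⟶ P := Spec.map (CommRingCat.ofHom ι') ≫ lP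
  have hpt : lP' (closedPoint L') = lP (closedPoint κ) := by
    rw [Scheme.Hom.comp_apply]
    exact congrArg lP (Subsingleton.elim (α := PrimeSpectrum κ) _ _)
  have hmem' : ∀ j, lP' (closedPoint L') ∈ U j := fun j => hpt.symm ▸ hmem j
  have hsec : ∀ j z, ((sec lP' (U j) (hmem' j) z : L') : L) = φ j z := fun j z => by
    rw [show sec lP' (U j) (hmem' j) z = ι' (sec lP (U j) (hmem j) z) from sec_SpecMap lP ι' (U j) (hmem' j) (hmem j) z]
    rfl
  -- the values to be reached
  let Idx : Type u := (Σ j, (r j : Type u)) ⊕ (G : Type u)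
  let jx : Idx → ι := Sum.elim (fun e => e.1) fun _ => j₀
  have hval : ∀ e : Idx, ∃ x : L', IsIntegral (A (jx e)) (x : L) ∧
      (x : L) = Sum.elim (fun e => (e.2 : L)) (fun y => bg y * (y : L)) e := by
    rintro (⟨j, y⟩ | y)
    · refine ⟨⟨y, ?_⟩, hrint j y y.2, rfl⟩
      refine (Subfield.closure_le.2 ?_ : Subfield.closure ((A j : Set L) ∪ ↑G ∪ ↑(S₀ j)) ≤ L') (hrmem j y y.2)
      refine Set.union_subset (Set.union_subset (hAL j) fun x hx => Subfield.subset_closure (Or.inl (Or.inr hx))) ?_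
      exact fun x hx => Subfield.subset_closure (Or.inr (Finset.mem_biUnion.2 ⟨j, Finset.mem_univ _, hx⟩))
    · exact ⟨⟨_, L'.mul_mem (hAL j₀ (hbgA y)) (Subfield.subset_closure (Or.inl (Or.inr y.2)))⟩, hbgi y, rfl⟩
  choose xv hxint hxval using hval
  have hxelem : ∀ e, (sec lP' (U (jx e)) (hmem' (jx e))).IsIntegralElem (xv e) := fun e =>
    isIntegralElem_of_range _ L'.subtype (A (jx e)) (by
      rintro _ ⟨z, rfl⟩
      exact ⟨z, hsec _ z⟩) (hxint e)
  obtain ⟨D, d, π₁, hdπ, hπ₁, hd⟩ :=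
    exists_finite_stage lP' (fun e => U (jx e)) (fun e => hU (jx e)) (fun e => hmem' (jx e)) xv hxelem
  haveI := hπ₁
  let incl : Bs →+* L' := (algebraMap Bs L).codRestrict L' fun x => hBL x x.2
  let sB : Spec (CommRingCat.of L') ⟶ Spec (CommRingCat.of Bs) := Spec.map (CommRingCat.ofHom incl)
  let σ : Spec (CommRingCat.of Bs) ⟶ S := Spec.map (CommRingCat.ofHom (algebraMap R Bs)) ≫ S.isoSpec.inv
  haveI : IsFinite σ := by
    haveI : IsFinite (Spec.map (CommRingCat.ofHom (algebraMap R Bs))) :=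
      (IsFinite.SpecMap_iff _).2 (RingHom.finite_algebraMap.2 inferInstance)
    exact inferInstanceAs (IsFinite (Spec.map (CommRingCat.ofHom (algebraMap R Bs)) ≫ S.isoSpec.inv))
  have hcomp : d ≫ π₁ ≫ p ≫ b = sB ≫ σ := by
    rw [← Category.assoc, hdπ]
    refine ext_sec fun a => Subtype.ext ?_
    have e1 : sec (lP' ≫ p ≫ b) ⊤ trivial a = ι' (sec l₀ ⊤ trivial a) := by
      rw [← sec_SpecMap l₀ ι' ⊤ trivial trivial a]
      simp only [lP', l₀, Category.assoc]
    have e2 : sB ≫ σ = Spec.map (CommRingCat.ofHom (incl.comp (algebraMap R Bs))) ≫ S.isoSpec.inv := by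
      simp only [sB, σ]
      rw [← Category.assoc, ← Spec.map_comp]
      rfl
    have e3 : sec (Spec.map (CommRingCat.ofHom (incl.comp (algebraMap R Bs))) ≫ S.isoSpec.inv) ⊤ trivial a =
        incl (algebraMap R Bs a) := by
      rw [sec_comp]
      have h : S.isoSpec.inv.app ⊤ a = (Scheme.ΓSpecIso (CommRingCat.of R)).inv a := by
        show S.isoSpec.inv.appTop a = _
        exact congr($(isoSpec_inv_appTop' S) a)
      rw [h]
      exact sec_SpecMap_top _ trivial a
    rw [e1, e2, e3]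
    rfl
  let Q := pullback (π₁ ≫ p ≫ b) σ
  let d' : Spec (CommRingCat.of L') ⟶ Q := pullback.lift d sB hcomp
  haveI : QuasiSeparatedSpace Q := by
    haveI : QuasiSeparatedSpace D := quasiSeparatedSpace_of_quasiSeparated π₁
    exact quasiSeparatedSpace_of_quasiSeparated (pullback.fst (π₁ ≫ p ≫ b) σ)
  haveI : QuasiCompact d' := quasiCompact_of_compactSpace d'
  let N := d'.image
  let lN : Spec (CommRingCat.of L') ⟶ N := d'.toImage
  haveI : IsReduced N := (Groth.Agent.S2266.result d').1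
  haveI : IrreducibleSpace N := (Groth.Agent.S2266.result d').2 inferInstance inferInstance
  haveI : IsIntegral N := isIntegral_of_irreducibleSpace_of_isReduced N
  let a : N ⟶ Spec (CommRingCat.of Bs) := d'.imageι ≫ pullback.snd _ _
  let π₂ : N ⟶ P := d'.imageι ≫ pullback.fst _ _ ≫ π₁
  have hlNa : lN ≫ a = sB := by
    rw [← Category.assoc, d'.toImage_imageι, pullback.lift_snd]
  have hlNd : lN ≫ d'.imageι ≫ pullback.fst _ _ = d := by
    rw [← Category.assoc, d'.toImage_imageι, pullback.lift_fst]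
  have hlNP : lN ≫ π₂ = lP' := by
    rw [← hdπ, ← hlNd]; simp only [π₂, Category.assoc]
  have hgen : lN (closedPoint L') = genericPoint N := eq_genericPoint lN
  have hgenP : π₂ (genericPoint N) = lP (closedPoint κ) := by
    rw [← hgen, ← Scheme.Hom.comp_apply, hlNP, hpt]
  let V' : ι → N.Opens := fun j => π₂ ⁻¹ᵁ U j
  have hV' : ∀ j, IsAffineOpen (V' j) := fun j => (hU j).preimage π₂
  have hmemN : ∀ j, lN (closedPoint L') ∈ V' j := fun j => mem_preimage_of_comp lP' hlNP (hmem' j)
  have hinjN : ∀ j, Function.Injective (sec lN (V' j) (hmemN j)) := fun j =>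
    sec_injective lN (V' j) (hmemN j) (by
      have h := d'.toImage_app_injective ⟨(pullback.fst (π₁ ≫ p ≫ b) σ ≫ π₁) ⁻¹ᵁ U j, (hU j).preimage _⟩
      exact h)
  have hgood : GoodPt a (⟨⊥, Ideal.isPrime_bot⟩ : PrimeSpectrum Bs) := by
    refine goodPt_bot a V' hV' (fun x => hcov (π₂ x) (hgenP ▸ ((genericPoint_specializes x).map π₂.continuous))) ?_
    intro j
    letI := ((Scheme.ΓSpecIso (CommRingCat.of Bs)).inv ≫ a.appLE ⊤ (V' j) le_top).hom.toAlgebra
    letI : Algebra Γ(N, V' j) L := (L'.subtype.comp (sec lN (V' j) (hmemN j))).toAlgebra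
    have htow : ∀ y : Bs, ((sec lN (V' j) (hmemN j) (algebraMap Bs Γ(N, V' j) y) : L') : L) = algebraMap Bs L y := by
      intro y
      have e : sec lN (V' j) (hmemN j) (algebraMap Bs Γ(N, V' j) y) =
          sec (lN ≫ a) ⊤ trivial ((Scheme.ΓSpecIso (CommRingCat.of Bs)).inv y) :=
        (congr($(secC_comp_appLE lN a ⊤ (V' j) le_top trivial (hmemN j))
          ((Scheme.ΓSpecIso (CommRingCat.of Bs)).inv y))).symm
      rw [e]
      have e2 : sec (lN ≫ a) ⊤ trivial ((Scheme.ΓSpecIso (CommRingCat.of Bs)).inv y) = incl y := by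
        simp only [hlNa]
        exact sec_SpecMap_top incl trivial y
      rw [e2]
      rfl
    haveI : IsScalarTower Bs Γ(N, V' j) L := IsScalarTower.of_algebraMap_eq fun y => (htow y).symm
    have hπA : ∀ z : Γ(P, U j), ((sec lN (V' j) (hmemN j) (π₂.app (U j) z) : L') : L) = φ j z := fun z => by
      rw [← hsec j z]
      refine congrArg Subtype.val ?_
      have e := sec_comp lN π₂ (U j) (by rw [hlNP]; exact hmem' j) z
      simp only [hlNP] at e
      exact e.symm
    refine hn j Bs Γ(N, V' j) Subtype.val_injective (Subtype.val_injective.comp (hinjN j)) ?_ ?_ ?_ ?_ ?_ ?_ ?_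
    · rintro _ ⟨y, rfl⟩
      exact ⟨⟨_, Bs.algebraMap_mem y⟩, rfl⟩
    · exact fun x hx => ⟨⟨x, Algebra.subset_adjoin (Finset.mem_biUnion.2 ⟨j, Finset.mem_univ _, hx⟩)⟩, rfl⟩
    · exact fun y => (Algebra.IsIntegral.isIntegral (R := R) y).map (Bs.val)
    · rintro _ ⟨z, rfl⟩
      exact ⟨π₂.app (U j) z, hπA z⟩
    · intro x hx
      obtain ⟨y, hy⟩ := hd (Sum.inl ⟨j, x, hx⟩)
      refine ⟨(d'.imageι ≫ pullback.fst _ _).app (π₁ ⁻¹ᵁ U j) y, ?_⟩
      have hx' : ((xv (Sum.inl ⟨j, x, hx⟩) : L') : L) = x := hxval _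
      rw [← hx', ← hy]
      refine congrArg Subtype.val ?_
      have e := sec_comp lN (d'.imageι ≫ pullback.fst _ _) (π₁ ⁻¹ᵁ U j)
        (by rw [hlNd]; exact mem_preimage_of_comp lP' hdπ (hmem' j)) y
      simp only [hlNd] at e
      exact e.symm
    · intro z
      exact isIntegral_of_finite (π₂.app (U j)).hom (π₂.isIntegral_app (U j) (hU j))
        (L'.subtype.comp (sec lN (V' j) (hmemN j))) (A j) (fun z => ⟨z, (hπA z).symm⟩) z
    · intro z
      refine (Subfield.closure_le.2 (Set.union_subset (Set.union_subset ?_ ?_) ?_) :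
        L' ≤ Subfield.closure ((A j : Set L) ∪ ↑G ∪ Set.range (algebraMap Bs L))) (sec lN (V' j) (hmemN j) z).2
      · exact fun x hx => Subfield.closure_mono (Set.subset_union_left.trans Set.subset_union_left) (hK₀ j ▸ hx)
      · exact fun x hx => Subfield.subset_closure (Or.inl (Or.inr hx))
      · exact fun x hx => Subfield.subset_closure (Or.inr ⟨⟨x, Algebra.subset_adjoin hx⟩, rfl⟩)
  have hagen : a (genericPoint N) = (⟨⊥, Ideal.isPrime_bot⟩ : PrimeSpectrum Bs) := by
    rw [← hgen, ← Scheme.Hom.comp_apply, hlNa]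
    refine PrimeSpectrum.ext ?_
    show Ideal.comap incl (closedPoint L').asIdeal = ⊥
    rw [show (closedPoint L').asIdeal = ⊥ from Ideal.eq_bot_of_prime _]
    exact Ideal.comap_bot_of_injective _ fun x y h => Subtype.ext (congrArg (fun z : L' => (z : L)) h)
  -- the function field is everything
  have hfield : IsField (N.presheaf.stalk (lN (closedPoint L'))) := by
    rw [hgen]; exact Field.toIsField N.functionField
  letI := hfield.toField
  let F := (Scheme.stalkClosedPointTo lN).hom.fieldRange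
  have hsecF : ∀ (W : N.Opens) (hW : lN (closedPoint L') ∈ W) (z : Γ(N, W)), sec lN W hW z ∈ F :=
    fun W hW z => ⟨_, sec_eq_germ lN W hW z⟩
  have hFA : ∀ z, sec lP' (U j₀) (hmem' j₀) z ∈ F := fun z => by
    have e := sec_comp lN π₂ (U j₀) (by rw [hlNP]; exact hmem' j₀) z
    simp only [hlNP] at e
    rw [e]
    exact hsecF _ _ _
  have hFtop : F = ⊤ := by
    refine eq_top_iff.2 ?_
    have hA₀ : (A j₀ : Set L) ⊆ F.map L'.subtype := by
      rintro _ ⟨z, rfl⟩
      exact ⟨_, hFA z, hsec j₀ z⟩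
    have hle : L' ≤ F.map L'.subtype := by
      refine Subfield.closure_le.2 (Set.union_subset (Set.union_subset ?_ ?_) ?_)
      · exact hK₀ j₀ ▸ Subfield.closure_le.2 hA₀
      · intro x hx
        obtain ⟨y, hy⟩ := hd (Sum.inr ⟨x, hx⟩)
        have hyF : sec d (π₁ ⁻¹ᵁ U j₀) (mem_preimage_of_comp lP' hdπ (hmem' j₀)) y ∈ F := by
          have e := sec_comp lN (d'.imageι ≫ pullback.fst _ _) (π₁ ⁻¹ᵁ U j₀)
            (by rw [hlNd]; exact mem_preimage_of_comp lP' hdπ (hmem' j₀)) y
          simp only [hlNd] at e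
          rw [e]
          exact hsecF _ _ _
        have h := (F.map L'.subtype).mul_mem ((F.map L'.subtype).inv_mem (hA₀ (hbgA ⟨x, hx⟩)))
          (show bg ⟨x, hx⟩ * x ∈ F.map L'.subtype from
            ⟨_, hyF, (congrArg Subtype.val hy).trans (hxval (Sum.inr ⟨x, hx⟩))⟩)
        rwa [inv_mul_cancel_left₀ (hbg0 _)] at h
      · intro x hx
        refine ⟨incl ⟨x, Algebra.subset_adjoin hx⟩, ?_, rfl⟩
        have e := sec_comp lN a ⊤ trivial ((Scheme.ΓSpecIso (CommRingCat.of Bs)).inv ⟨x, Algebra.subset_adjoin hx⟩)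
        simp only [hlNa] at e
        rw [← sec_SpecMap_top incl trivial (⟨x, Algebra.subset_adjoin hx⟩ : Bs), e]
        exact hsecF _ _ _
    intro z _
    obtain ⟨w, hw, hwz⟩ := hle z.2
    exact (Subtype.ext hwz : w = z) ▸ hw
  -- the open over the image of the point
  let T := lX.image
  let Zo : N.Opens := π₂ ⁻¹ᵁ i.opensRange
  let qT : (Zo : Scheme.{u}) ⟶ T := (π₂ ∣_ i.opensRange) ≫ i.isoOpensRange.inv
  have hqT : qT ≫ i = Zo.ι ≫ π₂ := by
    simp only [qT, Category.assoc, Scheme.Hom.isoOpensRange_inv_comp, morphismRestrict_ι]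
    rfl
  have hmemZ : genericPoint N ∈ Zo := by
    show π₂ (genericPoint N) ∈ i.opensRange
    rw [hgenP]
    exact ⟨lX.toImage (closedPoint κ), rfl⟩
  have hrZ : Set.range lN ⊆ Set.range Zo.ι := by
    rw [Scheme.Opens.range_ι]
    rintro _ ⟨z, rfl⟩
    rw [show z = closedPoint L' from Subsingleton.elim (α := PrimeSpectrum L') _ _, hgen]
    exact hmemZ
  let lZ := IsOpenImmersion.lift Zo.ι lN hrZ
  have hlZ : lZ ≫ Zo.ι = lN := IsOpenImmersion.lift_fac _ _ hrZ
  let q : (Zo : Scheme.{u}) ⟶ X := qT ≫ lX.imageι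
  have hlq : lZ ≫ q = Spec.map (CommRingCat.ofHom ι') ≫ lX := by
    have e : lZ ≫ qT = Spec.map (CommRingCat.ofHom ι') ≫ lX.toImage := by
      rw [← cancel_mono i, Category.assoc, hqT, ← Category.assoc, hlZ, hlNP, Category.assoc]
    simp only [q, ← Category.assoc, e]
    rw [Category.assoc, lX.toImage_imageι]
  have hZpt : lZ (closedPoint L') = (⟨genericPoint N, hmemZ⟩ : ↥(Zo : Scheme.{u})) := by
    refine Zo.ι.isOpenEmbedding.injective ?_
    rw [← Scheme.Hom.comp_apply, hlZ, hgen]
    rfl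
  haveI : IsFinite qT := inferInstanceAs (IsFinite ((π₂ ∣_ i.opensRange) ≫ i.isoOpensRange.inv))
  haveI : Nonempty Zo.toScheme := ⟨⟨_, hmemZ⟩⟩
  haveI : IsIntegral Zo.toScheme := isIntegral_of_isOpenImmersion Zo.ι
  have hbij : Function.Bijective (Scheme.stalkClosedPointTo lZ).hom := by
    have hN : Function.Bijective (Scheme.stalkClosedPointTo lN).hom :=
      ⟨(Scheme.stalkClosedPointTo lN).hom.injective, fun z => (hFtop ▸ Subfield.mem_top z : z ∈ F)⟩
    have h : Function.Bijective (Scheme.stalkClosedPointTo (lZ ≫ Zo.ι)).hom := by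
      rw [hlZ]; exact hN
    rw [Scheme.stalkClosedPointTo_comp] at h
    replace h : Function.Bijective ((Scheme.stalkClosedPointTo lZ).hom ∘
      (Zo.ι.stalkMap (lZ (closedPoint L'))).hom) := h
    exact (Function.Bijective.of_comp_iff _
      (ConcreteCategory.bijective_of_isIso (Zo.ι.stalkMap (lZ (closedPoint L'))))).1 h
  haveI : IsIso (Scheme.stalkClosedPointTo lZ) := (ConcreteCategory.isIso_iff_bijective _).2 hbij
  have hkey' : (Spec.map (inv (Scheme.stalkClosedPointTo lZ)) ≫ Spec.map (CommRingCat.ofHom ι') ≫ lv) ≫ g =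
      (Zo : Scheme.{u}).fromSpecStalk (lZ (closedPoint L')) ≫ q := by
    rw [← cancel_epi (Spec.map (Scheme.stalkClosedPointTo lZ)), ← Category.assoc _ _ q,
      Scheme.Spec_stalkClosedPointTo_fromSpecStalk, hlq, Category.assoc, ← Category.assoc _ (Spec.map (inv _)),
      ← Spec.map_comp, IsIso.inv_hom_id, Spec.map_id, Category.id_comp, Category.assoc]
  obtain ⟨W, hW, w, -, hw⟩ := spread_out_of_isGermInjective' (sX := q) (sY := g)
    (Spec.map (inv (Scheme.stalkClosedPointTo lZ)) ≫ Spec.map (CommRingCat.ofHom ι') ≫ lv) hkey'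
  refine ⟨⟨Bs, σ, inferInstance, N, a, π₂ ≫ p, inferInstance, ?_, hagen, hgood, Zo, hmemZ, q, inferInstance, ?_, ?_,
    W, hZpt ▸ hW, w, hw⟩⟩
  · simp only [a, π₂, Category.assoc]
    rw [pullback.condition]
  · simp only [q, Category.assoc]
    rw [← hip, ← Category.assoc, hqT, Category.assoc]
  · rw [← hZpt, ← Scheme.Hom.comp_apply, hlq]
    simp only [Scheme.Hom.comp_apply, lX, lv]
    exact congrArg g (Scheme.fromSpecResidueField_apply v _)

end Groth.L23.CohProp.Model
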