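import Groth.Agent.L23.BigSite.ProperSets
import Groth.Agent.L27.BigSets.Pull
import Groth.Agent.L23.LocAcycSets.Basis

/-! # The big sheaf of an inverse image -/

universe u

open CategoryTheory CategoryTheory.Limits AlgebraicGeometry Opposite

set_option autoImplicit false
set_option maxHeartbeats 800000
set_option backward.isDefEq.respectTransparency.types false
set_option linter.style.haveILetI false
set_option linter.unusedSectionVars false
set_option linter.unusedVariables false

noncomputable section

namespace Groth.L23.CohProp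

open Groth.L27.BigSets
open Groth.L27.Fppf (Jet cT pr compatiblePreserving_cT)
open Groth.L23.LocAcycSets (Basis eqNear_trans eqNear_symm)

variable {S T : Scheme.{u}} (i : T ⟶ S) (F : EtDesc.Sh S)

/-- The big sheaf restricted to schemes over `T`. -/
def resG : Sheaf (Jet T) (Type (u + 1)) :=
  haveI : (Over.map i).IsContinuous (Jet T) (Jet S) :=
    inferInstanceAs ((Over.map i).IsContinuous ((Scheme.grothendieckTopology EtCoh.etaleMP.{u}).over T)
      ((Scheme.grothendieckTopology EtCoh.etaleMP.{u}).over S))
  ((Over.map i).sheafPushforwardContinuous (Type (u + 1)) (Jet T) (Jet S)).obj (G F)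

/-- The comparison on étale schemes. -/
def pullCmp₀ : ((EtDesc.pullSh i).obj F).obj ⟶ (EtFppf.a T).op ⋙ (resG i F).obj where
  app U := (theta i F).hom.app U
  naturality U U' b := (theta i F).hom.naturality b

/-- The comparison before sheafification. -/
def pullCmp₁ : L ((EtDesc.pullSh i).obj F) ⟶ (resG i F).obj :=
  (((EtFppf.a T).op.lanAdjunction (Type (u + 1))).homEquiv _ _).symm (pullCmp₀ i F)

/-- The comparison. -/
def pullCmp : G ((EtDesc.pullSh i).obj F) ⟶ resG i F :=
  ⟨sheafifyLift (Jet T) (pullCmp₁ i F) (resG i F).property⟩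

theorem pullCmp_e {V : Over T} {U : T.Etale} (c : V ⟶ (EtFppf.a T).obj U)
    (s : ((EtDesc.pullSh i).obj F).obj.obj (op U)) :
    (pullCmp i F).hom.app (op V) (e ((EtDesc.pullSh i).obj F) c s) =
      (G F).obj.map ((Over.map i).map c).op ((theta i F).hom.app (op U) s) := by
  have h₀ := ((EtFppf.a T).op.lanAdjunction (Type (u + 1))).homEquiv _ _ |>.apply_symm_apply (pullCmp₀ i F)
  rw [Adjunction.homEquiv_unit, Functor.lanAdjunction_unit] at h₀
  have h₁ : (pullCmp i F).hom.app (op V) ((toSheafify (Jet T) (L ((EtDesc.pullSh i).obj F))).app (op V)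
      (el ((EtDesc.pullSh i).obj F) c s)) = (pullCmp₁ i F).app (op V) (el ((EtDesc.pullSh i).obj F) c s) :=
    ConcreteCategory.congr_hom (congrArg (fun k => NatTrans.app k (op V))
      (toSheafify_sheafifyLift (Jet T) (pullCmp₁ i F) (resG i F).property)) _
  refine h₁.trans ((NatTrans.naturality_apply (pullCmp₁ i F) c.op _).trans ?_)
  exact congrArg ((resG i F).obj.map c.op)
    (ConcreteCategory.congr_hom (congrArg (fun k => NatTrans.app k (op U)) h₀) s)

section Restrict

variable {Z : Scheme.{u}} (g : Z ⟶ T)

/-- The restriction of the comparison to a small site. -/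
def resPull : GT g ((EtDesc.pullSh i).obj F) ⟶ GT (g ≫ i) F :=
  ⟨{ app := fun R => (pullCmp i F).hom.app (op ((cT g).obj R.unop)) ≫
        (G F).obj.map (Over.homMk (U := (cT (g ≫ i)).obj R.unop)
          (V := (Over.map i).obj ((cT g).obj R.unop)) (𝟙 R.unop.left)
          ((Category.id_comp _).trans (Category.assoc _ _ _))).op
     naturality := fun R R' b => by
       refine ConcreteCategory.hom_ext _ _ fun x => ?_
       show (G F).obj.map _ ((pullCmp i F).hom.app (op ((cT g).obj R'.unop))
          ((G ((EtDesc.pullSh i).obj F)).obj.map ((cT g).map b.unop).op x)) =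
        (G F).obj.map ((cT (g ≫ i)).map b.unop).op ((G F).obj.map _
          ((pullCmp i F).hom.app (op ((cT g).obj R.unop)) x))
       rw [NatTrans.naturality_apply (pullCmp i F).hom]
       show (G F).obj.map _ ((G F).obj.map ((Over.map i).map ((cT g).map b.unop)).op _) = _
       rw [map_comp', map_comp']
       refine congrArg (fun k : (cT (g ≫ i)).obj R'.unop ⟶ (Over.map i).obj ((cT g).obj R.unop) =>
         (G F).obj.map k.op _) ?_
       exact Over.OverMorphism.ext ((Category.id_comp _).trans (Category.comp_id _).symm) }⟩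

theorem theta_resPull : theta g ((EtDesc.pullSh i).obj F) ≫ resPull i F g =
    (EtDesc.pullSh g).map (theta i F) ≫ psi₂ i F g := by
  apply ((EtDesc.adjSh g).homEquiv _ _).injective
  rw [Adjunction.homEquiv_naturality_left, psi₂, Equiv.apply_symm_apply, Adjunction.homEquiv_naturality_right,
    transpose_theta]
  refine Sheaf.hom_ext (NatTrans.ext (funext fun U => ConcreteCategory.hom_ext _ _ fun s => ?_))
  show (G F).obj.map _ ((pullCmp i F).hom.app (op ((cT g).obj ((EtCoh.bc g).obj U.unop)))
      (e ((EtDesc.pullSh i).obj F) (pr g U.unop) s)) =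
    (G F).obj.map (proj i g U.unop).op ((theta i F).hom.app U s)
  rw [pullCmp_e, map_comp']
  refine congrArg (fun k : (cT (g ≫ i)).obj ((EtCoh.bc g).obj U.unop) ⟶ (cT i).obj U.unop =>
    (G F).obj.map k.op _) ?_
  exact Over.OverMorphism.ext (Category.id_comp _)

end Restrict

theorem isIso_pullCmp : IsIso (pullCmp i F) := by
  haveI : ∀ V, IsIso ((pullCmp i F).hom.app V) := fun V => by
    let g := V.unop.hom
    haveI := isIso_theta g ((EtDesc.pullSh i).obj F)
    haveI := isIso_theta i F
    haveI := isIso_psi₂ i F g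
    haveI : IsIso (theta g ((EtDesc.pullSh i).obj F) ≫ resPull i F g) := by
      rw [theta_resPull]; infer_instance
    haveI : IsIso (resPull i F g) := IsIso.of_isIso_comp_left (theta g ((EtDesc.pullSh i).obj F)) _
    let R : V.unop.left.Etale := EtCoh.top V.unop.left
    have h0 : IsIso (((sheafToPresheaf _ _).map (resPull i F g)).app (op R)) := inferInstance
    let j : (cT g).obj R ≅ V.unop :=
      Over.isoMk (Iso.refl _) ((Category.id_comp g).trans (Category.id_comp g).symm)
    let k : (cT (g ≫ i)).obj R ≅ (Over.map i).obj ((cT g).obj R) :=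
      Over.isoMk (Iso.refl _) ((Category.id_comp _).trans (Category.assoc _ _ _))
    have hk : IsIso ((G F).obj.map k.hom.op) := ((G F).obj.mapIso k.op).isIso_hom
    haveI : IsIso ((pullCmp i F).hom.app (op ((cT g).obj R))) :=
      @IsIso.of_isIso_comp_right _ _ _ _ _ _ ((G F).obj.map k.hom.op) hk h0
    have hn := (pullCmp i F).hom.naturality j.hom.op
    haveI : IsIso ((pullCmp i F).hom.app V ≫ (resG i F).obj.map j.hom.op) := by
      rw [show (pullCmp i F).hom.app V ≫ (resG i F).obj.map j.hom.op = _ from hn.symm]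
      infer_instance
    exact IsIso.of_isIso_comp_right _ ((resG i F).obj.map j.hom.op)
  haveI : IsIso ((sheafToPresheaf _ _).map (pullCmp i F)) := NatIso.isIso_of_isIso_app (pullCmp i F).hom
  exact isIso_of_fully_faithful (sheafToPresheaf _ _) _

/-- The comparison of sections. -/
def pullEquiv (A : Over T) :
    (G ((EtDesc.pullSh i).obj F)).obj.obj (op A) ≃ (G F).obj.obj (op ((Over.map i).obj A)) :=
  Equiv.ofBijective ((pullCmp i F).hom.app (op A)) (by
    haveI := isIso_pullCmp i F
    exact ConcreteCategory.bijective_of_isIso (((sheafToPresheaf _ _).map (pullCmp i F)).app (op A)))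

theorem pullEquiv_map {A B : Over T} (r : A ⟶ B) (x : (G ((EtDesc.pullSh i).obj F)).obj.obj (op B)) :
    pullEquiv i F A ((G ((EtDesc.pullSh i).obj F)).obj.map r.op x) =
      (G F).obj.map ((Over.map i).map r).op (pullEquiv i F B x) :=
  NatTrans.naturality_apply (pullCmp i F).hom r.op x

theorem bijective_pull_iff {A B : Over T} (r : A ⟶ B) :
    Function.Bijective ((G ((EtDesc.pullSh i).obj F)).obj.map r.op) ↔
      Function.Bijective ((G F).obj.map ((Over.map i).map r).op) := by
  have e : ((pullEquiv i F A) ∘ (G ((EtDesc.pullSh i).obj F)).obj.map r.op) =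
      ((G F).obj.map ((Over.map i).map r).op ∘ (pullEquiv i F B)) := funext (pullEquiv_map i F r)
  rw [← Function.Bijective.of_comp_iff' (pullEquiv i F A).bijective, e,
    Function.Bijective.of_comp_iff _ (pullEquiv i F B).bijective]

theorem injective_pull_iff {A B : Over T} (r : A ⟶ B) :
    Function.Injective ((G ((EtDesc.pullSh i).obj F)).obj.map r.op) ↔
      Function.Injective ((G F).obj.map ((Over.map i).map r).op) := by
  have e : ((pullEquiv i F A) ∘ (G ((EtDesc.pullSh i).obj F)).obj.map r.op) =
      ((G F).obj.map ((Over.map i).map r).op ∘ (pullEquiv i F B)) := funext (pullEquiv_map i F r)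
  rw [← (pullEquiv i F A).injective.of_comp_iff, e,
    Function.Injective.of_comp_iff' _ (pullEquiv i F B).bijective]

theorem eqNear_pull {A : Over T} (x y : (G ((EtDesc.pullSh i).obj F)).obj.obj (op A)) (a : A.left) :
    EqNear ((EtDesc.pullSh i).obj F) x y a ↔ EqNear F (pullEquiv i F A x) (pullEquiv i F A y) a := by
  constructor
  · rintro ⟨A', g, a', hg, ha, h⟩
    exact ⟨(Over.map i).obj A', (Over.map i).map g, a', hg, ha, by rw [← pullEquiv_map, ← pullEquiv_map, h]⟩
  · rintro ⟨A', g, a', hg, ha, h⟩
    let gl : A'.left ⟶ A.left := g.left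
    let A₁ : Over T := Over.mk (gl ≫ A.hom)
    let g₁ : A₁ ⟶ A := Over.homMk gl rfl
    let c : (Over.map i).obj A₁ ⟶ A' := Over.homMk (𝟙 _) (by
      show 𝟙 _ ≫ A'.hom = (gl ≫ A.hom) ≫ i
      rw [Category.id_comp, Category.assoc]
      exact (Over.w g).symm)
    refine ⟨A₁, g₁, a', hg, ha, (pullEquiv i F A₁).injective ?_⟩
    have e : (Over.map i).map g₁ = c ≫ g := Over.OverMorphism.ext (Category.id_comp _).symm
    rw [pullEquiv_map, pullEquiv_map, e, ← map_comp', ← map_comp', h]

/-- Bases of the inverse image from bases of the sheaf. -/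
def Basis.toPull {U : Over T} {M : Type (u + 1)} (β : Basis F ((Over.map i).obj U) M) :
    Basis ((EtDesc.pullSh i).obj F) U M where
  Φ a := (pullEquiv i F U).symm (β.Φ a)
  exists_near {A} h x t := by
    obtain ⟨a, ha⟩ := β.exists_near ((Over.map i).map h) (pullEquiv i F A x) t
    exact ⟨a, (eqNear_pull i F _ _ t).2 (by rwa [pullEquiv_map, Equiv.apply_symm_apply])⟩
  eq_of_eqNear a b u h := β.eq_of_eqNear a b u (by
    have := (eqNear_pull i F _ _ u).1 h
    rwa [Equiv.apply_symm_apply, Equiv.apply_symm_apply] at this)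

/-- Bases pull back. -/
def Basis.pull {U U' : Over S} {M : Type (u + 1)} (β : Basis F U M) (h : U' ⟶ U) : Basis F U' M where
  Φ a := (G F).obj.map h.op (β.Φ a)
  exists_near {A} h' x t := by
    obtain ⟨a, ha⟩ := β.exists_near (h' ≫ h) x t
    exact ⟨a, by rwa [map_comp']⟩
  eq_of_eqNear a b u hu := β.eq_of_eqNear a b _ (EqNear.of_map F h _ _ u hu)

end Groth.L23.CohProp
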