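import Groth.Agent.L23.CohProp.Split
import Mathlib.AlgebraicGeometry.Morphisms.Finite

/-! # Splitting of finite morphisms over a dense open -/

universe u

open CategoryTheory CategoryTheory.Limits AlgebraicGeometry TopologicalSpace IsLocalRing

set_option autoImplicit false
set_option maxHeartbeats 800000
set_option backward.isDefEq.respectTransparency.types false
set_option linter.style.haveILetI false
set_option linter.unusedSectionVars false

noncomputable section

namespace Groth.L23.CohProp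

/-- Splitting passes to open immersions of source and target. -/
theorem Split.transfer {S' S T S₁ : Scheme.{u}} (j : S' ⟶ S) [IsOpenImmersion j] {σ : T ⟶ S'} {D : S'.Opens}
    (hσ : Split σ D) (i : S₁ ⟶ T) [IsOpenImmersion i] (hi : ∀ t, σ t ∈ D → t ∈ Set.range i) (U O : S.Opens)
    (hU : (U : Set S) ⊆ j '' (D : Set S') ∪ O) (hO : ∀ t, (i ≫ σ ≫ j) t ∉ O) : Split (i ≫ σ ≫ j) U := by
  intro R _ _ _ e he
  rcases hU (he (closedPoint R)) with hcl | hcl
  swap
  · have hE : ∀ t : ↥(pullback (i ≫ σ ≫ j) e), False := fun t => by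
      refine hO (pullback.fst (i ≫ σ ≫ j) e t) ?_
      rw [← Scheme.Hom.comp_apply, pullback.condition, Scheme.Hom.comp_apply]
      exact ((IsLocalRing.specializes_closedPoint _).map e.continuous).mem_open O.2 hcl
    exact ⟨PEmpty, inferInstance, PEmpty.elim, fun x => x.elim, fun x => x.elim, fun x => x.elim,
      fun t => (hE t).elim, fun x => x.elim, fun Ω _ _ σ x => x.elim⟩
  have hr : Set.range e ⊆ Set.range j := by
    rintro _ ⟨x, rfl⟩
    exact ((IsLocalRing.specializes_closedPoint x).map e.continuous).mem_open j.isOpenEmbedding.isOpen_range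
      (Set.image_subset_range _ _ hcl)
  let e₀ := IsOpenImmersion.lift j e hr
  have he₀ : e₀ ≫ j = e := IsOpenImmersion.lift_fac _ _ hr
  have hD : ∀ x, e₀ x ∈ D := fun x => by
    have h : j (e₀ x) ∈ j '' (D : Set S') := by
      rw [← Scheme.Hom.comp_apply, he₀]
      exact ((IsLocalRing.specializes_closedPoint x).map e.continuous).mem_open (j.isOpenEmbedding.isOpenMap _ D.2) hcl
    obtain ⟨d, hd, hde⟩ := h
    exact j.isEmbedding.injective hde ▸ hd
  obtain ⟨ι, hι, Ri, c, hc, hR, hcov, hdis, hpt⟩ := hσ R e₀ hD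
  let Ψ : pullback (i ≫ σ ≫ j) e ⟶ pullback σ e₀ :=
    pullback.lift (pullback.fst _ _ ≫ i) (pullback.snd _ _) (by
      rw [← cancel_mono j, Category.assoc, Category.assoc, Category.assoc, he₀]
      exact pullback.condition)
  have hk : Set.range (pullback.fst σ e₀) ⊆ Set.range i := by
    rintro _ ⟨z, rfl⟩
    refine hi _ ?_
    rw [← Scheme.Hom.comp_apply, pullback.condition, Scheme.Hom.comp_apply]
    exact hD _
  let Φ : pullback σ e₀ ⟶ pullback (i ≫ σ ≫ j) e :=
    pullback.lift (IsOpenImmersion.lift i (pullback.fst σ e₀) hk) (pullback.snd σ e₀) (by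
      rw [← Category.assoc, IsOpenImmersion.lift_fac, ← Category.assoc, pullback.condition, Category.assoc, he₀])
  have h1 : Φ ≫ Ψ = 𝟙 _ := by
    refine pullback.hom_ext ?_ ?_
    · rw [Category.assoc, pullback.lift_fst, ← Category.assoc, pullback.lift_fst, IsOpenImmersion.lift_fac,
        Category.id_comp]
    · rw [Category.assoc, pullback.lift_snd, pullback.lift_snd, Category.id_comp]
  have h2 : Ψ ≫ Φ = 𝟙 _ := by
    refine pullback.hom_ext ?_ ?_
    · rw [← cancel_mono i, Category.assoc, Category.assoc, ← Category.assoc Φ, pullback.lift_fst,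
        IsOpenImmersion.lift_fac, pullback.lift_fst, Category.id_comp]
    · rw [Category.assoc, pullback.lift_snd, pullback.lift_snd, Category.id_comp]
  haveI : IsIso Φ := ⟨Ψ, h1, h2⟩
  haveI := hc
  have hrange : ∀ x, Set.range (c x ≫ Φ) = Φ '' Set.range (c x) := fun x => by
    rw [Scheme.Hom.comp_base, TopCat.coe_comp, Set.range_comp]
  refine ⟨ι, hι, Ri, fun x => c x ≫ Φ, fun x => inferInstance, hR, fun t => ?_, fun x y hxy => ?_,
    fun Ω _ _ σΩ x => ?_⟩
  · obtain ⟨t', rfl⟩ := Φ.homeomorph.surjective t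
    obtain ⟨x, hx⟩ := hcov t'
    exact ⟨x, (hrange x).symm ▸ Set.mem_image_of_mem _ hx⟩
  · rw [hrange, hrange]
    exact (Set.disjoint_image_iff Φ.homeomorph.injective).2 (hdis x y hxy)
  · obtain ⟨l, hl⟩ := hpt Ω σΩ x
    have e1 : (c x ≫ Φ) ≫ pullback.snd (i ≫ σ ≫ j) e = c x ≫ pullback.snd σ e₀ := by
      rw [Category.assoc, pullback.lift_snd]
    exact ⟨l ≫ (pullback.congrHom e1 rfl).inv, MorphismProperty.comp_mem @Surjective _ _ hl inferInstance⟩

/-- Finite morphisms from integral affine schemes split near the generic point of an irreducible affine base. -/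
theorem exists_split {S' : Scheme.{u}} [IsAffine S'] {B : Type u} [CommRing B] [IsDomain B]
    (σ : Spec (CommRingCat.of B) ⟶ S') [IsFinite σ]
    (hgen : ∀ y : S', σ (⟨⊥, Ideal.isPrime_bot⟩ : PrimeSpectrum B) ⤳ y) :
    ∃ D : S'.Opens, σ (⟨⊥, Ideal.isPrime_bot⟩ : PrimeSpectrum B) ∈ D ∧ Split σ D := by
  let A : Type u := Γ(S', ⊤)
  obtain ⟨φ, hφ⟩ := Spec.map_surjective (σ ≫ S'.isoSpec.hom)
  letI : Algebra A B := φ.hom.toAlgebra
  haveI : Module.Finite A B := by
    haveI : IsFinite (Spec.map φ) := hφ ▸ inferInstance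
    exact RingHom.finite_algebraMap.1 ((IsFinite.SpecMap_iff φ).1 inferInstance)
  let t₀ : PrimeSpectrum B := ⟨⊥, Ideal.isPrime_bot⟩
  have hker : RingHom.ker (algebraMap A B) ≤ nilradical A := fun x hx => by
    rw [mem_nilradical, ← PrimeSpectrum.basicOpen_eq_bot_iff]
    refine le_bot_iff.1 fun p (hp : p ∈ PrimeSpectrum.basicOpen x) => ?_
    obtain ⟨y, rfl⟩ : ∃ y, S'.isoSpec.hom y = p := S'.isoSpec.hom.homeomorph.surjective p
    have h := ((hgen y).map S'.isoSpec.hom.continuous).mem_open (PrimeSpectrum.basicOpen x).2 hp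
    rw [← Scheme.Hom.comp_apply, ← hφ] at h
    exact (PrimeSpectrum.mem_basicOpen _ _).1 h (show algebraMap A B x ∈ (⊥ : Ideal B) from hx)
  obtain ⟨D⟩ := nonempty_rootData hker
  have hs : Split (Spec.map φ) (PrimeSpectrum.basicOpen D.a) := split_of_rootData D
  refine ⟨S'.isoSpec.hom ⁻¹ᵁ PrimeSpectrum.basicOpen D.a, ?_, ?_⟩
  · show S'.isoSpec.hom (σ t₀) ∈ PrimeSpectrum.basicOpen D.a
    rw [← Scheme.Hom.comp_apply, ← hφ]
    exact (PrimeSpectrum.mem_basicOpen _ _).2 fun h => D.ha h
  · have h := hs.transfer S'.isoSpec.inv (𝟙 (Spec (CommRingCat.of B))) (fun t _ => ⟨t, rfl⟩)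
      (S'.isoSpec.hom ⁻¹ᵁ PrimeSpectrum.basicOpen D.a) ⊥ (fun y hy => Or.inl ⟨S'.isoSpec.hom y, hy, by
        rw [← Scheme.Hom.comp_apply, Iso.hom_inv_id]; rfl⟩) (fun t ht => ht)
    rwa [show 𝟙 _ ≫ Spec.map φ ≫ S'.isoSpec.inv = σ by
      rw [Category.id_comp, hφ, Category.assoc, Iso.hom_inv_id, Category.comp_id]] at h

end Groth.L23.CohProp
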