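import Groth.Agent.L23.CohProp.Sand
import Groth.Agent.L23.CohProp.PullCmp
import Groth.Agent.L23.CohProp.ModelAux
import Groth.Agent.L23.CohProp.ModelScheme
import Groth.Agent.L23.CohProp.SplitScheme
import Groth.Agent.L20.GenericFlatScheme
import Groth.Agent.S4827
import Groth.Agent.S3427

/-! # Pieces over a dense open of the base -/

universe u

open CategoryTheory CategoryTheory.Limits AlgebraicGeometry TopologicalSpace Topology IsLocalRing

set_option autoImplicit false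
set_option maxHeartbeats 800000
set_option maxSynthPendingDepth 3
set_option backward.isDefEq.respectTransparency.types false
set_option linter.style.haveILetI false
set_option linter.unusedSectionVars false
set_option linter.unusedVariables false

noncomputable section

namespace Groth.L23.CohProp

open Groth.L27.BigSets
open Groth.L23.LocAcycSets (Basis)
open Model

/-- The scheme-theoretic data of a piece, without the sheaf. -/
structure Pre {X Y S : Scheme.{u}} (f : X ⟶ Y) (b : Y ⟶ S) (U : S.Opens) (U₀ : Over X) where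
  N : Scheme.{u}
  S₁ : Scheme.{u}
  Z : Scheme.{u}
  a : N ⟶ S₁
  [flat : Flat a]
  [lfp : LocallyOfFinitePresentation a]
  [qs : QuasiSeparatedSpace N]
  norm : NormFib a
  s : S₁ ⟶ S
  π : N ⟶ Y
  hw : π ≫ b = a ≫ s
  j : Z ⟶ N
  [jOpen : IsOpenImmersion j]
  q : Z ⟶ X
  lft : LocallyOfFiniteType q
  qc : QuasiCompact q
  hq : q ≫ f = j ≫ π
  W : Z.Opens
  hWc : IsCompact (W : Set Z)
  hd : ∀ w : N, w ∈ closure (j '' (W : Set Z) ∩ {y | a y = a w})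
  hπ : IsProper (π ∣_ b ⁻¹ᵁ U)
  split : Split s U
  hfin : ∀ {T : Scheme.{u}} (t : T ⟶ X), Lands (f ≫ b) U t → IsFinite (pullback.fst t q)
  w : Over.mk (W.ι ≫ q) ⟶ U₀

/-- The piece of a sheaf with a basis of sections. -/
def Pre.toPiece {X Y S : Scheme.{u}} {f : X ⟶ Y} {b : Y ⟶ S} {U : S.Opens} {U₀ : Over X} (P : Pre f b U U₀)
    {F : EtDesc.Sh X} {M : Type (u + 1)} [Finite M] (β : Basis F U₀ M) : Piece f b F U :=
  letI := P.flat
  letI := P.lfp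
  letI := P.qs
  letI := P.jOpen
  mkPiece P.a P.norm P.s P.π P.hw P.j P.q P.hq P.W P.hWc P.hd P.hπ M (Basis.pull F β P.w) P.hfin

/-- Flatness is inherited by smaller opens of the base. -/
theorem prop_restrict_le {P : MorphismProperty Scheme.{u}} [P.IsStableUnderBaseChange] {A B : Scheme.{u}} (a : A ⟶ B)
    {U V : B.Opens} (h : V ≤ U) (hP : P (a ∣_ U)) : P (a ∣_ V) := by
  refine MorphismProperty.of_isPullback (f' := A.homOfLE (a.preimage_mono h)) (f := B.homOfLE h) ?_ hP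
  refine IsPullback.of_right (h₁₂ := (a ⁻¹ᵁ U).ι) (v₁₃ := a) (h₂₂ := U.ι) ?_ ?_
    (isPullback_morphismRestrict a U).flip
  · rw [Scheme.homOfLE_ι, Scheme.homOfLE_ι]
    exact (isPullback_morphismRestrict a V).flip
  · rw [← cancel_mono U.ι, Category.assoc, Category.assoc, morphismRestrict_ι, Scheme.homOfLE_ι,
      ← Category.assoc, Scheme.homOfLE_ι, morphismRestrict_ι]

/-- The points of a restriction. -/
theorem coe_restrict {A B : Scheme.{u}} (h : A ⟶ B) (W : B.Opens) (x : ↥(h ⁻¹ᵁ W).toScheme) :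
    ((h ∣_ W) x).1 = h x.1 := by
  have e := congr($(morphismRestrict_ι h W) x)
  rw [Scheme.Hom.comp_apply, Scheme.Hom.comp_apply] at e
  exact e

/-- Closure in an open subscheme. -/
theorem mem_closure_opens {A : Scheme.{u}} (W : A.Opens) (s : Set ↥W.toScheme) (x : ↥W.toScheme)
    (h : x.1 ∈ closure (Subtype.val '' s)) : x ∈ closure s := by
  rw [W.ι.isEmbedding.isInducing.closure_eq_preimage_closure_image]
  exact h

/-- Flatness over an open of the scheme carrying flat projections. -/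
theorem flat_fst_restrict {T X Z : Scheme.{u}} (d : T ⟶ X) (q : Z ⟶ X) {D Dk : T.Opens} (hle : D ≤ Dk)
    (h1 : Flat (pullback.fst d q ∣_ Dk)) (h2 : LocallyOfFinitePresentation (pullback.fst d q ∣_ Dk)) :
    Flat (pullback.fst (D.ι ≫ d) q) ∧ LocallyOfFinitePresentation (pullback.fst (D.ι ≫ d) q) := by
  have hp := (isPullback_zMap q d (D.ι ≫ d) D.ι rfl).flip
  have hq' := isPullback_morphismRestrict (pullback.fst d q) D
  rw [show pullback.fst (D.ι ≫ d) q = (hp.isoIsPullback _ _ hq').hom ≫ (pullback.fst d q ∣_ D) from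
    (hp.isoIsPullback_hom_fst _ _ hq').symm]
  exact ⟨(MorphismProperty.cancel_left_of_respectsIso @Flat _ _).2 (prop_restrict_le (P := @Flat) _ hle h1),
    (MorphismProperty.cancel_left_of_respectsIso @LocallyOfFinitePresentation _ _).2
      (prop_restrict_le (P := @LocallyOfFinitePresentation) _ hle h2)⟩

set_option maxHeartbeats 1600000 in
/-- A piece covering the neighbourhood of a point over a dense open of the base. -/
theorem exists_pre {X Y S : Scheme.{u}} [AlgebraicGeometry.IsNoetherian S] [IsAffine X] [IsAffine Y] (f : X ⟶ Y)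
    (b : Y ⟶ S) [LocallyOfFiniteType f] [LocallyOfFiniteType b] {V : S.Opens} (hV : IsAffineOpen V)
    (hb : ∀ y, b y ∈ V) (U₀ : Over X) [LocallyOfFiniteType U₀.hom] [LocallyQuasiFinite U₀.hom] (v : U₀.left)
    {κ : Type u} [Finite κ] (Zk : κ → Scheme.{u}) (qk : ∀ k, Zk k ⟶ X) (hl : ∀ k, LocallyOfFiniteType (qk k))
    (hc : ∀ k, QuasiCompact (qk k)) :
    ∃ (U : S.Opens) (O : X.Opens), Dense (U : Set S) ∧ U₀.hom v ∈ O ∧
      ((∀ x ∈ O, U₀.hom v ⤳ x → (f ≫ b) x ∉ U) ∨ ∃ P : Pre f b U U₀,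
        (∀ x ∈ O, U₀.hom v ⤳ x → (f ≫ b) x ∈ U → ∃ z ∈ P.W, P.q z = x) ∧
        ∀ k, Flat (pullback.fst (P.W.ι ≫ P.q) (qk k)) ∧
          LocallyOfFinitePresentation (pullback.fst (P.W.ι ≫ P.q) (qk k))) := by
  classical
  let u₀ := U₀.hom v
  let η := (f ≫ b) u₀
  by_cases hmax : ∀ ξ, ξ ⤳ η → ξ = η
  swap
  · simp only [not_forall] at hmax
    obtain ⟨ξ, hξ, hne⟩ := hmax
    refine ⟨⟨(closure {η})ᶜ, isClosed_closure.isOpen_compl⟩, ⊤, dense_compl_closure hξ hne, trivial, Or.inl ?_⟩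
    intro x _ hx hx'
    exact hx' ((hx.map (f ≫ b).continuous).mem_closure)
  haveI : IsLocallyNoetherian Y := LocallyOfFiniteType.isLocallyNoetherian b
  haveI : IsLocallyNoetherian X := LocallyOfFiniteType.isLocallyNoetherian f
  obtain ⟨O₀, hO₀, hηO₀, hO₀sub⟩ := exists_open_subset_closure hmax
  have hηV : η ∈ V := hb (f u₀)
  obtain ⟨r, hr, hηr⟩ := hV.exists_basicOpen_le (V := ⟨O₀, hO₀⟩) ⟨η, hηO₀⟩ hηV
  let Uη : S.Opens := S.basicOpen r
  have hUηsub : (Uη : Set S) ⊆ closure {η} := fun x hx => hO₀sub (hr hx)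
  have hUη : IsAffineOpen Uη := hV.basicOpen r
  have hpre : b ⁻¹ᵁ V = ⊤ := top_le_iff.1 fun y _ => hb y
  have hYη : IsAffineOpen (b ⁻¹ᵁ Uη) := by
    show IsAffineOpen (b ⁻¹ᵁ S.basicOpen r)
    rw [Scheme.preimage_basicOpen]
    exact (hpre.symm ▸ isAffineOpen_top Y : IsAffineOpen (b ⁻¹ᵁ V)).basicOpen _
  have hXη : IsAffineOpen (f ⁻¹ᵁ b ⁻¹ᵁ Uη) := hYη.preimage f
  haveI : IsAffine Uη.toScheme := hUη
  haveI : IsAffine (b ⁻¹ᵁ Uη).toScheme := hYη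
  haveI : IsAffine (f ⁻¹ᵁ b ⁻¹ᵁ Uη).toScheme := hXη
  haveI : AlgebraicGeometry.IsNoetherian Uη.toScheme :=
    { toIsLocallyNoetherian := inferInstance, toCompactSpace := inferInstance }
  let Xη := f ⁻¹ᵁ b ⁻¹ᵁ Uη
  let b₀ := b ∣_ Uη
  let f₀ := f ∣_ (b ⁻¹ᵁ Uη)
  let g₀ := U₀.hom ∣_ Xη
  haveI : LocallyQuasiFinite g₀ := by
    haveI : LocallyQuasiFinite (g₀ ≫ Xη.ι) := by rw [morphismRestrict_ι]; infer_instance
    exact LocallyQuasiFinite.of_comp g₀ Xη.ι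
  let v₀ : ↥(U₀.hom ⁻¹ᵁ Xη).toScheme := ⟨v, hηr⟩
  obtain ⟨m⟩ := nonempty_scheme₁ f₀ b₀ g₀ v₀
  letI := m.commRing
  haveI := m.isDomain
  haveI := m.noeth
  haveI := m.integral
  haveI := m.proper
  haveI := m.σ_finite
  haveI := m.q_finite
  haveI : LocallyOfFiniteType m.a := by
    haveI : LocallyOfFiniteType (m.a ≫ m.σ) := by rw [← m.w]; infer_instance
    exact locallyOfFiniteType_of_comp m.a m.σ
  haveI : LocallyOfFinitePresentation m.a := LocallyOfFinitePresentation.iff_locallyOfFiniteType.2 inferInstance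
  haveI : CompactSpace m.N := QuasiCompact.compactSpace_of_compactSpace m.π
  haveI : QuasiSeparatedSpace m.N := quasiSeparatedSpace_of_quasiSeparated m.π
  haveI : IsLocallyNoetherian m.N := LocallyOfFiniteType.isLocallyNoetherian m.a
  haveI : AlgebraicGeometry.IsNoetherian m.N := { }
  haveI : QuasiCompact m.a := quasiCompact_of_compactSpace m.a
  haveI : QuasiSeparated m.a := inferInstance
  haveI : AlgebraicGeometry.IsNoetherian m.Z.toScheme :=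
    { toIsLocallyNoetherian := inferInstance, toCompactSpace := isCompact_iff_compactSpace.1 (NoetherianSpace.isCompact _) }
  haveI : Nonempty m.Z.toScheme := ⟨⟨_, m.mem⟩⟩
  haveI : IsIntegral m.Z.toScheme := isIntegral_of_isOpenImmersion m.Z.ι
  let ξ : ↥m.Z.toScheme := ⟨genericPoint m.N, m.mem⟩
  have hξ : ∀ z : ↥m.Z.toScheme, ξ ⤳ z := fun z =>
    IsInducing.subtypeVal.specializes_iff.1 (genericPoint_specializes z.1)
  -- where the given morphisms are flat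
  let qX : m.Z.toScheme ⟶ X := m.q ≫ Xη.ι
  haveI : QuasiCompact qX := quasiCompact_of_compactSpace qX
  haveI : IsReduced qX.image := (Groth.Agent.S2266.result qX).1
  haveI : IrreducibleSpace qX.image := (Groth.Agent.S2266.result qX).2 inferInstance inferInstance
  have hgenT : ∀ t, qX.toImage ξ ⤳ t := fun t => by
    rw [specializes_iff_mem_closure]
    refine closure_minimal ?_ isClosed_closure (qX.toImage.denseRange.closure_range.ge trivial)
    rintro _ ⟨z, rfl⟩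
    exact ((hξ z).map qX.toImage.continuous).mem_closure
  have hflat : ∀ k, ∃ Dk : qX.image.Opens, qX.toImage ξ ∈ Dk ∧ Flat (pullback.fst qX.imageι (qk k) ∣_ Dk) ∧
      LocallyOfFinitePresentation (pullback.fst qX.imageι (qk k) ∣_ Dk) := fun k => by
    haveI := hl k; haveI := hc k
    obtain ⟨Dk, hd, h1, h2⟩ := Groth.L20.GFR.exists_dense_flat_lfp (pullback.fst qX.imageι (qk k))
    obtain ⟨t, ht⟩ := hd.nonempty
    exact ⟨Dk, (hgenT t).mem_open Dk.2 ht, h1, h2⟩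
  choose Dk hDk hDflat hDlfp using hflat
  let D : qX.image.Opens := ⟨⋂ k, (Dk k : Set qX.image), isOpen_iInter_of_finite fun k => (Dk k).2⟩
  have hDle : ∀ k, D ≤ Dk k := fun k t ht => Set.mem_iInter.1 ht k
  let W : m.Z.toScheme.Opens := m.W ⊓ qX.toImage ⁻¹ᵁ D
  have hξW : ξ ∈ W := ⟨m.memW, Set.mem_iInter.2 hDk⟩
  let Wn : m.N.Opens := m.Z.ι ''ᵁ W
  have hξn : genericPoint m.N ∈ Wn := ⟨ξ, hξW, rfl⟩
  -- the good part of the base
  let t₀ : ↥(Spec (CommRingCat.of m.B)) := (⟨⊥, Ideal.isPrime_bot⟩ : PrimeSpectrum m.B)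
  have ht₀ : ∀ t : ↥(Spec (CommRingCat.of m.B)), t₀ ⤳ t := fun t =>
    (PrimeSpectrum.le_iff_specializes (R := m.B) _ _).1 bot_le
  obtain ⟨Uf, hUfd, hUff, hUfl⟩ := Groth.L20.GFR.exists_dense_flat_lfp m.a
  have ht₀f : t₀ ∈ Uf := by
    obtain ⟨t, ht⟩ := hUfd.nonempty
    exact (ht₀ t).mem_open Uf.2 ht
  let Dset := {t : ↥(Spec (CommRingCat.of m.B)) |
    (Set.univ : Set m.N) ∩ m.a.base ⁻¹' {t} ⊆ closure ((Wn : Set m.N) ∩ m.a.base ⁻¹' {t})}
  have hDset : Topology.IsConstructible Dset :=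
    (Groth.Agent.S3427.result m.a (Wn : Set m.N) Set.univ
      ((NoetherianSpace.isCompact (Wn : Set m.N)).isConstructible Wn.2).isLocallyConstructible
      (IsLocallyConstructible.univ) (Set.subset_univ _)).isConstructible
  have ht₀d : t₀ ∈ Dset := by
    rintro w ⟨-, hw⟩
    refine closure_mono (show ({genericPoint m.N} : Set m.N) ⊆ (Wn : Set m.N) ∩ m.a.base ⁻¹' {t₀} from
      Set.singleton_subset_iff.2 ⟨hξn, m.a_generic⟩) ?_
    exact (genericPoint_specializes w).mem_closure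
  have hGset : Topology.IsConstructible {t | GoodPt m.a t} := (Groth.Agent.S4827.result m.a).isConstructible
  have hUf : Topology.IsConstructible (Uf : Set ↥(Spec (CommRingCat.of m.B))) :=
    (NoetherianSpace.isCompact _).isConstructible Uf.2
  have ht₀G : t₀ ∈ {t | GoodPt m.a t} ∩ Dset ∩ (Uf : Set ↥(Spec (CommRingCat.of m.B))) := ⟨⟨m.good, ht₀d⟩, ht₀f⟩
  obtain ⟨O₁, hO₁, ht₀O₁, hO₁sub⟩ := exists_open_of_generic ((hGset.inter hDset).inter hUf) ht₀ ht₀G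
  have hση : (m.σ t₀).1 = η := by
    rw [← show m.a (genericPoint m.N) = t₀ from m.a_generic, ← Scheme.Hom.comp_apply, ← m.w,
      ← show m.Z.ι ξ = genericPoint m.N from rfl, ← Scheme.Hom.comp_apply, ← Category.assoc, ← m.hq,
      Scheme.Hom.comp_apply, Scheme.Hom.comp_apply, m.q_generic, coe_restrict, coe_restrict, coe_restrict]
    rfl
  have hclosedσ : IsClosed (m.σ '' O₁ᶜ) := m.σ.isClosedMap _ hO₁.isClosed_compl
  obtain ⟨D₁, ht₀D₁, hsplit₁⟩ := exists_split m.σ fun y => IsInducing.subtypeVal.specializes_iff.1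
    (hση.symm ▸ specializes_iff_mem_closure.2 (hUηsub y.2))
  let U₁ : Uη.toScheme.Opens := ⟨(m.σ '' O₁ᶜ)ᶜ, hclosedσ.isOpen_compl⟩ ⊓ D₁
  have ht₀U₁ : m.σ t₀ ∈ U₁ := by
    refine ⟨?_, ht₀D₁⟩
    rintro ⟨c, hc', e⟩
    exact hc' ((eq_of_apply_eq m.σ (ht₀ c) e).symm ▸ ht₀O₁)
  let U : S.Opens := Uη.ι ''ᵁ U₁ ⊔ ⟨(closure {η})ᶜ, isClosed_closure.isOpen_compl⟩
  have hηU : η ∈ Uη.ι ''ᵁ U₁ := ⟨m.σ t₀, ht₀U₁, hση⟩
  have hUmem : ∀ s : ↥Uη.toScheme, s.1 ∈ U ↔ s ∈ U₁ := fun s =>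
    ⟨fun h => h.elim (fun ⟨s', hs', e⟩ => (Subtype.ext e : s' = s) ▸ hs') fun h => absurd (hUηsub s.2) h,
      fun h => Or.inl ⟨s, h, rfl⟩⟩
  have hUcl : ∀ s ∈ U, s ∈ Uη ↔ s ∈ closure {η} := fun s hs =>
    ⟨fun h => hUηsub h, fun h => hs.elim (fun ⟨s', _, e⟩ => e ▸ s'.2) fun h' => absurd h h'⟩
  let S₁ : (Spec (CommRingCat.of m.B)).Opens := m.σ ⁻¹ᵁ U₁
  have hS₁ : ∀ t ∈ S₁, t ∈ O₁ := fun t ht => by
    by_contra h
    exact (show m.σ t ∈ U₁ from ht).1 ⟨t, h, rfl⟩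
  have hsplit : Split (S₁.ι ≫ m.σ ≫ Uη.ι) U := (hsplit₁.mono (U' := U₁) inf_le_right).transfer Uη.ι S₁.ι
    (fun t ht => by rw [Scheme.Opens.range_ι]; exact ht) U ⟨(closure {η})ᶜ, isClosed_closure.isOpen_compl⟩
    (fun y hy => hy) (fun t ht => ht (hUηsub (by
      rw [Scheme.Hom.comp_apply, Scheme.Hom.comp_apply]
      exact (m.σ (S₁.ι t)).2)))
  have hS₁f : S₁ ≤ Uf := fun t ht => (hO₁sub (hS₁ t ht)).2
  let N' : m.N.Opens := m.a ⁻¹ᵁ S₁
  haveI : Flat (m.a ∣_ S₁) := prop_restrict_le (P := @Flat) m.a hS₁f hUff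
  haveI : LocallyOfFinitePresentation (m.a ∣_ S₁) := prop_restrict_le (P := @LocallyOfFinitePresentation) m.a hS₁f hUfl
  let Z' : m.Z.toScheme.Opens := m.Z.ι ⁻¹ᵁ N'
  let j : Z'.toScheme ⟶ N'.toScheme := m.Z.ι ∣_ N'
  have hmemZ' : ∀ z : ↥m.Z.toScheme, (f ≫ b) (qX z) ∈ U → z ∈ Z' := fun z hz => by
    show m.σ (m.a (m.Z.ι z)) ∈ U₁
    rw [← hUmem]
    have e : Xη.ι (m.q z) = qX z := (Scheme.Hom.comp_apply _ _ _).symm
    rw [← Scheme.Hom.comp_apply m.a, ← m.w, ← Scheme.Hom.comp_apply m.Z.ι, ← Category.assoc, ← m.hq,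
      Scheme.Hom.comp_apply, Scheme.Hom.comp_apply]
    rw [← e] at hz
    rw [coe_restrict, coe_restrict]
    exact hz
  haveI : IsLocallyNoetherian N'.toScheme := inferInstance
  haveI : AlgebraicGeometry.IsNoetherian N'.toScheme :=
    { toIsLocallyNoetherian := inferInstance, toCompactSpace := isCompact_iff_compactSpace.1 (NoetherianSpace.isCompact _) }
  haveI : AlgebraicGeometry.IsNoetherian Z'.toScheme :=
    { toIsLocallyNoetherian := inferInstance, toCompactSpace := isCompact_iff_compactSpace.1 (NoetherianSpace.isCompact _) }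
  -- the piece
  have hWn : ∀ w : N'.toScheme, w ∈ closure (j '' (Z'.ι ⁻¹ᵁ W : Set Z'.toScheme) ∩ {y | (m.a ∣_ S₁) y = (m.a ∣_ S₁) w}) := by
    intro w
    have h1 : w.1 ∈ closure ((Wn : Set m.N) ∩ m.a.base ⁻¹' {m.a w.1}) :=
      (hO₁sub (hS₁ _ w.2)).1.2 ⟨trivial, rfl⟩
    refine mem_closure_opens N' _ w (closure_mono ?_ h1)
    rintro y ⟨⟨z, hz, rfl⟩, hy⟩
    have hy' : m.a (m.Z.ι z) = m.a w.1 := hy
    have hzN : m.Z.ι z ∈ N' := by
      show m.a (m.Z.ι z) ∈ S₁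
      rw [hy']; exact w.2
    refine ⟨⟨m.Z.ι z, hzN⟩, ⟨⟨⟨z, hzN⟩, hz, Subtype.ext ?_⟩, Subtype.ext ?_⟩, rfl⟩
    · have e := congr($(morphismRestrict_ι m.Z.ι N') ⟨z, hzN⟩)
      rw [Scheme.Hom.comp_apply, Scheme.Hom.comp_apply] at e
      exact e
    · have e1 := congr($(morphismRestrict_ι m.a S₁) ⟨m.Z.ι z, hzN⟩)
      have e2 := congr($(morphismRestrict_ι m.a S₁) w)
      rw [Scheme.Hom.comp_apply, Scheme.Hom.comp_apply] at e1 e2
      exact e1.trans (hy'.trans e2.symm)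
  have hN'eq : N' = m.π ⁻¹ᵁ (b ⁻¹ᵁ Uη).ι ⁻¹ᵁ (b ⁻¹ᵁ U) := by
    ext n
    show m.σ (m.a n) ∈ U₁ ↔ b ((b ⁻¹ᵁ Uη).ι (m.π n)) ∈ U
    rw [← Scheme.Hom.comp_apply m.a, ← m.w, Scheme.Hom.comp_apply, ← hUmem, coe_restrict]
    rfl
  have hπ : IsProper ((N'.ι ≫ m.π ≫ (b ⁻¹ᵁ Uη).ι) ∣_ b ⁻¹ᵁ U) := by
    refine prop_restrict (P := @IsProper) (fun k => inferInstance) m.π m.proper _ _ ?_ N' hN'eq
    rw [Scheme.Opens.range_ι]
    have : (b ⁻¹ᵁ U).ι ⁻¹' ((b ⁻¹ᵁ Uη : Y.Opens) : Set Y) = (b ⁻¹ᵁ U).ι ⁻¹' (b ⁻¹' closure {η}) :=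
      Set.ext fun y => hUcl (b y.1) y.2
    rw [this]
    exact (isClosed_closure.preimage b.continuous).preimage (b ⁻¹ᵁ U).ι.continuous
  have hZ'eq : Z' = m.q ⁻¹ᵁ Xη.ι ⁻¹ᵁ ((f ≫ b) ⁻¹ᵁ U) := by
    ext z
    refine ⟨fun h => ?_, fun h => hmemZ' z ?_⟩
    · show (f ≫ b) (Xη.ι (m.q z)) ∈ U
      have h' : m.σ (m.a (m.Z.ι z)) ∈ U₁ := h
      rw [← hUmem, ← Scheme.Hom.comp_apply m.a, ← m.w, ← Scheme.Hom.comp_apply m.Z.ι, ← Category.assoc, ← m.hq,
        Scheme.Hom.comp_apply, Scheme.Hom.comp_apply, coe_restrict, coe_restrict] at h'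
      exact h'
    · rw [Scheme.Hom.comp_apply m.q Xη.ι]
      exact h
  have hfin : IsFinite ((Z'.ι ≫ m.q ≫ Xη.ι) ∣_ ((f ≫ b) ⁻¹ᵁ U)) := by
    refine prop_restrict (P := @IsFinite) (fun k => inferInstance) m.q m.q_finite _ _ ?_ Z' hZ'eq
    rw [Scheme.Opens.range_ι]
    have : ((f ≫ b) ⁻¹ᵁ U).ι ⁻¹' (Xη : Set X) = ((f ≫ b) ⁻¹ᵁ U).ι ⁻¹' ((f ≫ b) ⁻¹' closure {η}) :=
      Set.ext fun x => hUcl ((f ≫ b) x.1) x.2
    rw [this]
    exact (isClosed_closure.preimage (f ≫ b).continuous).preimage ((f ≫ b) ⁻¹ᵁ U).ι.continuous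
  -- the neighbourhood
  have hclC : IsClosed (m.q '' (W : Set _)ᶜ) := m.q.isClosedMap _ W.2.isClosed_compl
  let O : X.Opens := Xη.ι ''ᵁ (⟨(m.q '' (W : Set _)ᶜ)ᶜ, hclC.isOpen_compl⟩ : Xη.toScheme.Opens)
  have hqξ : m.q ξ = (⟨u₀, hηr⟩ : ↥Xη.toScheme) := m.q_generic.trans (Subtype.ext <| by
    have e := congr($(morphismRestrict_ι U₀.hom Xη) v₀)
    rw [Scheme.Hom.comp_apply, Scheme.Hom.comp_apply] at e
    exact e)
  have hcov : ∀ x ∈ O, u₀ ⤳ x → (f ≫ b) x ∈ U → ∃ z ∈ Z'.ι ⁻¹ᵁ W, (Z'.ι ≫ m.q ≫ Xη.ι) z = x := by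
    intro x hx hux hxU
    obtain ⟨x', hx', rfl⟩ := hx
    have hs : m.q ξ ⤳ x' := by
      rw [hqξ]
      exact IsInducing.subtypeVal.specializes_iff.1 hux
    obtain ⟨z, hz⟩ := hs.mem_closed m.q.isClosedMap.isClosed_range ⟨ξ, rfl⟩
    have hzZ : z ∈ Z' := hmemZ' z (by
      rw [show qX z = Xη.ι x' by rw [← hz]; exact Scheme.Hom.comp_apply _ _ _]
      exact hxU)
    refine ⟨⟨z, hzZ⟩, ?_, ?_⟩
    · by_contra h
      exact hx' ⟨z, h, hz⟩
    · show (Z'.ι ≫ m.q ≫ Xη.ι) ⟨z, hzZ⟩ = Xη.ι x'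
      rw [Scheme.Hom.comp_apply, Scheme.Hom.comp_apply, ← hz]
      rfl
  have hflat' : ∀ k, Flat (pullback.fst ((Z'.ι ⁻¹ᵁ W).ι ≫ Z'.ι ≫ m.q ≫ Xη.ι) (qk k)) ∧
      LocallyOfFinitePresentation (pullback.fst ((Z'.ι ⁻¹ᵁ W).ι ≫ Z'.ι ≫ m.q ≫ Xη.ι) (qk k)) := by
    intro k
    let wD : (Z'.ι ⁻¹ᵁ W).toScheme ⟶ D.toScheme :=
      (Z'.ι ∣_ W) ≫ m.Z.toScheme.homOfLE inf_le_right ≫ (qX.toImage ∣_ D)
    have e : (Z'.ι ⁻¹ᵁ W).ι ≫ Z'.ι ≫ m.q ≫ Xη.ι = wD ≫ D.ι ≫ qX.imageι := by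
      simp only [wD, Category.assoc]
      rw [morphismRestrict_ι_assoc, qX.toImage_imageι, Scheme.homOfLE_ι_assoc, morphismRestrict_ι_assoc]
    rw [e]
    exact flat_fst_comp wD (D.ι ≫ qX.imageι) (qk k) (flat_fst_restrict _ _ (hDle k) (hDflat k) (hDlfp k)).1
      (flat_fst_restrict _ _ (hDle k) (hDflat k) (hDlfp k)).2
  let P₀ : Pre f b U U₀ :=
    { N := N'.toScheme
      S₁ := S₁.toScheme
      Z := Z'.toScheme
      a := m.a ∣_ S₁
      norm := normFib_restrict m.a S₁ fun t ht => (hO₁sub (hS₁ t ht)).1.1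
      s := S₁.ι ≫ m.σ ≫ Uη.ι
      π := N'.ι ≫ m.π ≫ (b ⁻¹ᵁ Uη).ι
      hw := by
        simp only [Category.assoc]
        rw [← morphismRestrict_ι b Uη, ← Category.assoc m.π, m.w, Category.assoc, ← morphismRestrict_ι_assoc]
      j := j
      q := Z'.ι ≫ m.q ≫ Xη.ι
      lft := inferInstance
      qc := quasiCompact_of_compactSpace _
      hq := by
        simp only [Category.assoc]
        rw [← morphismRestrict_ι f (b ⁻¹ᵁ Uη), ← Category.assoc m.q, m.hq, Category.assoc,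
          ← morphismRestrict_ι_assoc]
      W := Z'.ι ⁻¹ᵁ W
      hWc := NoetherianSpace.isCompact _
      hd := hWn
      hπ := hπ
      split := hsplit
      hfin := fun t ht => isFinite_fst_of_lands _ (f ≫ b) U hfin t ht
      w := Over.homMk ((Z'.ι ∣_ W) ≫ m.Z.toScheme.homOfLE inf_le_left ≫ m.toV ≫ (U₀.hom ⁻¹ᵁ Xη).ι) (by
        simp only [Category.assoc]
        rw [← morphismRestrict_ι U₀.hom Xη, ← Category.assoc m.toV, m.toV_comp, Category.assoc,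
          Scheme.homOfLE_ι_assoc, morphismRestrict_ι_assoc]
        rfl) }
  refine ⟨U, O, ?_, ⟨⟨u₀, hηr⟩, ?_, rfl⟩, Or.inr ⟨P₀, hcov, hflat'⟩⟩
  · have hd : Dense (((Uη.ι ''ᵁ U₁ : S.Opens) : Set S) ∪ (closure ({η} : Set S))ᶜ) := dense_union_compl_closure hηU
    exact hd
  · rintro ⟨c, hc', e⟩
    exact hc' ((eq_of_apply_eq m.q (hξ c) (e.trans hqξ.symm)).symm ▸ hξW)
end Groth.L23.CohProp
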