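import Groth.Agent.L19.Approx.AffineFinite
import Groth.Agent.L19.Approx.IdealStage
import Mathlib.AlgebraicGeometry.Normalization
import Mathlib.AlgebraicGeometry.ResidueField
import Mathlib.FieldTheory.IntermediateField.Adjoin.Defs

/-! # Values at points with coordinates in a field -/

universe u

open CategoryTheory CategoryTheory.Limits AlgebraicGeometry TopologicalSpace IsLocalRing Opposite

set_option autoImplicit false
set_option maxHeartbeats 800000
set_option backward.isDefEq.respectTransparency.types false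
set_option backward.isDefEq.respectTransparency false
set_option backward.defeqAttrib.useBackward true
set_option linter.style.haveILetI false
set_option linter.unusedSectionVars false

noncomputable section

namespace Groth.L23.CohProp.Model

open Groth.L19.Approx

variable {K : Type u} [Field K] {P : Scheme.{u}} (l : Spec (CommRingCat.of K) ⟶ P)

theorem top_le_preimage {U : P.Opens} (h : l (closedPoint K) ∈ U) : ⊤ ≤ l ⁻¹ᵁ U := fun x _ => by
  rw [show x = closedPoint K from Subsingleton.elim (α := PrimeSpectrum K) _ _]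
  exact h

/-- The values of the sections at the point. -/
def secC (U : P.Opens) (h : l (closedPoint K) ∈ U) : Γ(P, U) ⟶ CommRingCat.of K :=
  l.appLE U ⊤ (top_le_preimage l h) ≫ (Scheme.ΓSpecIso (CommRingCat.of K)).hom

/-- The values of the sections at the point. -/
def sec (U : P.Opens) (h : l (closedPoint K) ∈ U) : Γ(P, U) →+* K := (secC l U h).hom

theorem secC_eq_germ (U : P.Opens) (h : l (closedPoint K) ∈ U) :
    P.presheaf.germ U _ h ≫ Scheme.stalkClosedPointTo l = secC l U h := by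
  rw [Scheme.germ_stalkClosedPointTo, secC, Scheme.Hom.appLE, Category.assoc]
  simp
  rfl

theorem sec_eq_germ (U : P.Opens) (h : l (closedPoint K) ∈ U) (a : Γ(P, U)) :
    (Scheme.stalkClosedPointTo l).hom (P.presheaf.germ U _ h a) = sec l U h a :=
  congr($(secC_eq_germ l U h) a)

theorem secC_comp {Q : Scheme.{u}} (g : P ⟶ Q) (U : Q.Opens) (h : (l ≫ g) (closedPoint K) ∈ U) :
    secC (l ≫ g) U h = g.app U ≫ secC l (g ⁻¹ᵁ U) h := by
  rw [secC, secC, Scheme.Hom.app_eq_appLE, ← Category.assoc, Scheme.Hom.appLE_comp_appLE]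

theorem secC_comp_appLE {Q : Scheme.{u}} (g : P ⟶ Q) (V : Q.Opens) (W : P.Opens) (e : W ≤ g ⁻¹ᵁ V)
    (h : (l ≫ g) (closedPoint K) ∈ V) (h' : l (closedPoint K) ∈ W) :
    secC (l ≫ g) V h = g.appLE V W e ≫ secC l W h' := by
  rw [secC, secC, ← Category.assoc, Scheme.Hom.appLE_comp_appLE]

theorem sec_comp {Q : Scheme.{u}} (g : P ⟶ Q) (U : Q.Opens) (h : (l ≫ g) (closedPoint K) ∈ U) (a : Γ(Q, U)) :
    sec (l ≫ g) U h a = sec l (g ⁻¹ᵁ U) h (g.app U a) :=
  congr($(secC_comp l g U h) a)

theorem sec_map {U V : P.Opens} (hle : V ≤ U) (h : l (closedPoint K) ∈ V) (a : Γ(P, U)) :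
    sec l V h (P.presheaf.map (homOfLE hle).op a) = sec l U (hle h) a := by
  show secC l V h (P.presheaf.map (homOfLE hle).op a) = secC l U (hle h) a
  rw [← CommRingCat.comp_apply, secC, secC, ← Category.assoc, Scheme.Hom.map_appLE]

theorem sec_SpecMap {K' : Type u} [Field K'] (φ : K →+* K') (U : P.Opens)
    (h : (Spec.map (CommRingCat.ofHom φ) ≫ l) (closedPoint K') ∈ U) (h' : l (closedPoint K) ∈ U) (a : Γ(P, U)) :
    sec (Spec.map (CommRingCat.ofHom φ) ≫ l) U h a = φ (sec l U h' a) := by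
  have e : secC (Spec.map (CommRingCat.ofHom φ) ≫ l) U h = secC l U h' ≫ CommRingCat.ofHom φ := by
    rw [secC, secC, Category.assoc, ← Scheme.ΓSpecIso_naturality, ← Category.assoc]
    congr 1
  exact congr($e a)

/-- The field generated by the values at the point. -/
def fld : Subfield K := Subfield.closure (Set.range (Scheme.stalkClosedPointTo l).hom)

theorem sec_mem_fld (U : P.Opens) (h : l (closedPoint K) ∈ U) (a : Γ(P, U)) : sec l U h a ∈ fld l :=
  sec_eq_germ l U h a ▸ Subfield.subset_closure ⟨_, rfl⟩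

theorem fld_eq {U : P.Opens} (hU : IsAffineOpen U) (h : l (closedPoint K) ∈ U) :
    fld l = Subfield.closure (Set.range (sec l U h)) := by
  refine le_antisymm (Subfield.closure_le.2 ?_) (Subfield.closure_le.2 ?_)
  · rintro _ ⟨x, rfl⟩
    letI : Algebra Γ(P, U) (P.presheaf.stalk (l (closedPoint K))) := (P.presheaf.germ U _ h).hom.toAlgebra
    haveI : IsLocalization.AtPrime (P.presheaf.stalk (l (closedPoint K))) (hU.primeIdealOf ⟨_, h⟩).asIdeal :=
      hU.isLocalization_stalk ⟨_, h⟩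
    obtain ⟨a, s, rfl⟩ := IsLocalization.exists_mk'_eq (hU.primeIdealOf ⟨_, h⟩).asIdeal.primeCompl x
    let S := Subfield.closure (Set.range (sec l U h))
    have hs : IsUnit ((Scheme.stalkClosedPointTo l).hom (algebraMap Γ(P, U) _ (s : Γ(P, U)))) :=
      (IsLocalization.map_units _ s).map _
    have e : (Scheme.stalkClosedPointTo l).hom (IsLocalization.mk' (P.presheaf.stalk (l (closedPoint K))) a s) =
        sec l U h a / sec l U h s := by
      rw [eq_div_iff (by rw [← sec_eq_germ]; exact hs.ne_zero), ← sec_eq_germ, ← sec_eq_germ, ← map_mul]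
      exact congrArg _ (IsLocalization.mk'_spec (P.presheaf.stalk (l (closedPoint K))) a s)
    rw [e]
    exact S.div_mem (Subfield.subset_closure ⟨_, rfl⟩) (Subfield.subset_closure ⟨_, rfl⟩)
  · rintro _ ⟨a, rfl⟩
    exact sec_mem_fld l U h a

theorem fld_comp {Q : Scheme.{u}} (g : P ⟶ Q) [IsPreimmersion g] : fld (l ≫ g) = fld l := by
  unfold fld
  rw [Scheme.stalkClosedPointTo_comp]
  exact congrArg Subfield.closure ((g.stalkMap_surjective (l (closedPoint K))).range_comp
    (Scheme.stalkClosedPointTo l).hom)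

theorem fld_SpecMap {K' : Type u} [Field K'] (φ : K →+* K') :
    fld (Spec.map (CommRingCat.ofHom φ) ≫ l) = (fld l).map φ := by
  obtain ⟨_, ⟨U, hU, rfl⟩, h, -⟩ := P.isBasis_affineOpens.exists_subset_of_mem_open
    (Set.mem_univ (l (closedPoint K))) isOpen_univ
  have h' : (Spec.map (CommRingCat.ofHom φ) ≫ l) (closedPoint K') ∈ U := by
    rw [Scheme.Hom.comp_apply]
    exact top_le_preimage l h trivial
  rw [fld_eq l hU h, fld_eq _ hU h', RingHom.map_field_closure, ← Set.range_comp]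
  exact congrArg _ (congrArg Set.range (funext fun a => sec_SpecMap l φ U h' h a))

theorem fld_fromSpecResidueField {X : Scheme.{u}} (x : X) : fld (X.fromSpecResidueField x) = ⊤ := by
  refine eq_top_iff.2 fun z _ => Subfield.subset_closure ?_
  have hs : Function.Surjective (Scheme.stalkClosedPointTo (X.fromSpecResidueField x)).hom := by
    rw [Scheme.stalkClosedPointTo, CommRingCat.hom_comp, RingHom.coe_comp]
    exact (ConcreteCategory.bijective_of_isIso (stalkClosedPointIso (CommRingCat.of (X.residueField x))).hom).2.comp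
      ((X.fromSpecResidueField x).stalkMap_surjective _)
  exact hs z

theorem mem_preimage_of_comp {D : Scheme.{u}} {d : Spec (CommRingCat.of K) ⟶ D} {π : D ⟶ P} (e : d ≫ π = l)
    {U : P.Opens} (h : l (closedPoint K) ∈ U) : d (closedPoint K) ∈ π ⁻¹ᵁ U := by
  subst e; exact h

theorem map_map_eqToHom {Q : Scheme.{u}} {V W : Q.Opens} (e : V = W) (a : Γ(Q, W)) :
    Q.presheaf.map (eqToHom e.symm).op (Q.presheaf.map (eqToHom e).op a) = a := by
  subst e; simp

/-- An integral value lifts to the normalisation. -/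
theorem exists_lift_normalization [QuasiCompact l] [QuasiSeparated l] {U : P.Opens} (hU : IsAffineOpen U)
    (h : l (closedPoint K) ∈ U) {x : K} (hx : (sec l U h).IsIntegralElem x) :
    ∃ a : Γ(l.normalization, l.fromNormalization ⁻¹ᵁ U),
      sec l.toNormalization (l.fromNormalization ⁻¹ᵁ U)
        (mem_preimage_of_comp l l.toNormalization_fromNormalization h) a = x := by
  letI := (l.app U).hom.toAlgebra
  let e : l ⁻¹ᵁ U = ⊤ := top_le_iff.1 (top_le_preimage l h)
  let θ := (Spec (CommRingCat.of K)).presheaf.map (eqToHom e.symm).op ≫ (Scheme.ΓSpecIso (CommRingCat.of K)).hom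
  haveI : IsIso θ := by dsimp only [θ]; infer_instance
  have hθ : l.app U ≫ θ = secC l U h := by
    rw [secC, Scheme.Hom.appLE, Category.assoc]
    rfl
  let x' : Γ(Spec (CommRingCat.of K), l ⁻¹ᵁ U) := (inv θ) x
  have hx' : IsIntegral Γ(P, U) x' := by
    have h2 : (secC l U h ≫ inv θ).hom.IsIntegralElem x' := by
      obtain ⟨p, hp, hpx⟩ := hx
      refine ⟨p, hp, ?_⟩
      show Polynomial.eval₂ ((inv θ).hom.comp (secC l U h).hom) ((inv θ).hom x) p = 0
      rw [← Polynomial.hom_eval₂, show Polynomial.eval₂ (secC l U h).hom x p = 0 from hpx, map_zero]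
    rw [← hθ, Category.assoc, IsIso.hom_inv_id, Category.comp_id] at h2
    exact h2
  refine ⟨(l.normalizationObjIso hU).inv ⟨x', hx'⟩, ?_⟩
  have key := congr($(l.normalizationObjIso_hom_val hU) ((l.normalizationObjIso hU).inv ⟨x', hx'⟩))
  rw [CommRingCat.comp_apply, ← CommRingCat.comp_apply (l.normalizationObjIso hU).inv,
    Iso.inv_hom_id, CommRingCat.id_apply] at key
  show secC l.toNormalization _ _ _ = x
  rw [secC, ← Scheme.Hom.appLE_map _ (show l ⁻¹ᵁ U ≤ l.toNormalization ⁻¹ᵁ l.fromNormalization ⁻¹ᵁ U by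
    rw [← Scheme.Hom.comp_preimage, l.toNormalization_fromNormalization]) (eqToHom e.symm).op,
    Category.assoc, CommRingCat.comp_apply, ← key]
  show θ x' = x
  show θ ((inv θ) x) = x
  rw [← CommRingCat.comp_apply, IsIso.inv_hom_id, CommRingCat.id_apply]

/-- Finitely many sections on a limit come from one stage. -/
theorem exists_common_stage {I : Type u} [Category.{u} I] [IsCofiltered I] [Nonempty I] (D : I ⥤ Over P)
    (c : Cone (D ⋙ Over.forget P)) (hc : IsLimit c) (g : c.pt ⟶ P) (hw : ∀ i, c.π.app i ≫ (D.obj i).hom = g)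
    [∀ {i i'} (a : i ⟶ i'), IsAffineHom ((D ⋙ Over.forget P).map a)] [∀ i, IsAffineHom (D.obj i).hom]
    {σ : Type u} [Finite σ] (U : σ → P.Opens) (hU : ∀ i, IsAffineOpen (U i)) (a : ∀ i, Γ(c.pt, g ⁻¹ᵁ U i)) :
    ∃ k : I, ∀ i, ∃ (hle : g ⁻¹ᵁ U i ≤ c.π.app k ⁻¹ᵁ ((D.obj k).hom ⁻¹ᵁ U i))
      (y : Γ((D.obj k).left, (D.obj k).hom ⁻¹ᵁ U i)),
      (c.π.app k).appLE ((D.obj k).hom ⁻¹ᵁ U i) (g ⁻¹ᵁ U i) hle y = a i := by
  classical
  let F := D ⋙ Over.forget P
  obtain ⟨k₀⟩ := ‹Nonempty I›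
  have hst : ∀ i, ∃ k : Over k₀, ∀ (j : Over k₀), (j ⟶ k) →
      ∃ (hle : g ⁻¹ᵁ U i ≤ c.π.app j.left ⁻¹ᵁ ((D.obj j.left).hom ⁻¹ᵁ U i))
        (y : Γ((D.obj j.left).left, (D.obj j.left).hom ⁻¹ᵁ U i)),
        (c.π.app j.left).appLE ((D.obj j.left).hom ⁻¹ᵁ U i) (g ⁻¹ᵁ U i) hle y = a i := by
    intro i
    have hpre : ∀ j, c.π.app j ⁻¹ᵁ ((D.obj j).hom ⁻¹ᵁ U i) = g ⁻¹ᵁ U i := fun j =>
      (Scheme.Hom.comp_preimage (c.π.app j) (D.obj j).hom (U i)).symm.trans
        (congrArg (fun t => t ⁻¹ᵁ U i) (hw j))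
    obtain ⟨k, hk, y, hy⟩ := exists_appLE_eq hc k₀ ((hU i).preimage (D.obj k₀).hom)
      (c.pt.presheaf.map (eqToHom (hpre k₀)).op (a i))
    refine ⟨k, fun j m => ?_⟩
    have hj : ∀ q : Over k₀, F.map q.hom ⁻¹ᵁ ((D.obj k₀).hom ⁻¹ᵁ U i) = (D.obj q.left).hom ⁻¹ᵁ U i := fun q => by
      exact (Scheme.Hom.comp_preimage (F.map q.hom) (D.obj k₀).hom (U i)).symm.trans
        (congrArg (fun t => t ⁻¹ᵁ U i) (Over.w (D.map q.hom)))
    have e₁ : (D.obj j.left).hom ⁻¹ᵁ U i ≤ F.map m.left ⁻¹ᵁ (F.map k.hom ⁻¹ᵁ ((D.obj k₀).hom ⁻¹ᵁ U i)) := by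
      rw [hj k]
      exact ((Scheme.Hom.comp_preimage (F.map m.left) (D.obj k.left).hom (U i)).symm.trans
        (congrArg (fun t => t ⁻¹ᵁ U i) (Over.w (D.map m.left)))).ge
    refine ⟨(hpre j.left).ge, (F.map m.left).appLE _ _ e₁ y, ?_⟩
    have hπ : c.π.app j.left ≫ F.map m.left = c.π.app k.left := c.w m.left
    rw [← CommRingCat.comp_apply, Scheme.Hom.appLE_comp_appLE, appLE_congr_hom hπ]
    calc (c.π.app k.left).appLE _ (g ⁻¹ᵁ U i) _ y
        = ((c.π.app k.left).appLE _ (c.π.app k₀ ⁻¹ᵁ ((D.obj k₀).hom ⁻¹ᵁ U i)) hk ≫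
            c.pt.presheaf.map (eqToHom (hpre k₀).symm).op) y := by
          exact (congr($(Scheme.Hom.appLE_map (c.π.app k.left) hk (eqToHom (hpre k₀).symm).op) y)).symm
      _ = a i := by
          rw [CommRingCat.comp_apply, hy]
          exact map_map_eqToHom (hpre k₀) _
  choose kx hkx using hst
  obtain ⟨k, hk⟩ := IsCofiltered.inf_objs_exists ((Set.finite_range kx).toFinset : Finset (Over k₀))
  refine ⟨k.left, fun i => ?_⟩
  obtain ⟨m⟩ : Nonempty (k ⟶ kx i) := hk ((Set.Finite.mem_toFinset _).mpr ⟨i, rfl⟩)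
  exact hkx i k m

/-- Finitely many integral values are values of sections on a finite scheme. -/
theorem exists_finite_stage [CompactSpace P] [QuasiSeparatedSpace P] {σ : Type u} [Finite σ]
    (U : σ → P.Opens) (hU : ∀ i, IsAffineOpen (U i)) (h : ∀ i, l (closedPoint K) ∈ U i) (x : σ → K)
    (hx : ∀ i, (sec l (U i) (h i)).IsIntegralElem (x i)) :
    ∃ (D : Scheme.{u}) (d : Spec (CommRingCat.of K) ⟶ D) (π : D ⟶ P) (e : d ≫ π = l),
      IsFinite π ∧ ∀ i, x i ∈ Set.range (sec d (π ⁻¹ᵁ U i) (mem_preimage_of_comp l e (h i))) := by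
  haveI : QuasiCompact l := quasiCompact_of_compactSpace l
  haveI : QuasiSeparated l := inferInstance
  choose a ha using fun i => exists_lift_normalization l (hU i) (h i) (hx i)
  have hcof : Cofinal l.fromNormalization (@IsFinite : MorphismProperty Scheme.{u}) :=
    fun {_} => cofinal_isFinite l.fromNormalization
  haveI := isDirected_idx hcof
  haveI := nonempty_idx hcof
  let D := system l.fromNormalization (@IsFinite : MorphismProperty Scheme.{u})
  let c := (Over.forget P).mapCone (cone l.fromNormalization (@IsFinite : MorphismProperty Scheme.{u}))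
  haveI : _root_.CategoryTheory.IsConnected (Idx l.fromNormalization (@IsFinite : MorphismProperty Scheme.{u}))ᵒᵖ :=
    IsCofiltered.isConnected _
  have hc : IsLimit c := isLimitOfPreserves (Over.forget P) (nonempty_isLimit_cone _ _ hcof).some
  haveI hfin : ∀ i, IsFinite (D.obj i).hom := fun i => prop_system_hom _ _ i
  haveI : ∀ {i i'} (a : i ⟶ i'), IsAffineHom ((D ⋙ Over.forget P).map a) := fun a => isAffineHom_system_map _ _ a
  have hw : ∀ i, c.π.app i ≫ (D.obj i).hom = l.fromNormalization := fun i =>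
    Over.w ((cone l.fromNormalization (@IsFinite : MorphismProperty Scheme.{u})).π.app i)
  obtain ⟨k, hk⟩ := exists_common_stage D c hc l.fromNormalization hw U hU a
  have hdπ : (l.toNormalization ≫ c.π.app k) ≫ (D.obj k).hom = l :=
    ((Category.assoc _ _ _).trans (congrArg (_ ≫ ·) (hw k))).trans l.toNormalization_fromNormalization
  refine ⟨(D.obj k).left, l.toNormalization ≫ c.π.app k, (D.obj k).hom, hdπ, hfin k, fun i => ?_⟩
  obtain ⟨hle, y, hy⟩ := hk i
  refine ⟨y, ?_⟩
  rw [← ha i, ← hy]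
  exact congr($(secC_comp_appLE l.toNormalization (c.π.app k) ((D.obj k).hom ⁻¹ᵁ U i)
    (l.fromNormalization ⁻¹ᵁ U i) hle (mem_preimage_of_comp l hdπ (h i))
    (mem_preimage_of_comp l l.toNormalization_fromNormalization (h i))) y)

end Groth.L23.CohProp.Model
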