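import Groth.Agent.L23.CohProp.TopExt
import Groth.Agent.L23.CohProp.Proper
import Groth.Agent.L23.CohProp.PullCmp

/-! # Pieces trivialising a sheaf, with values of sections on them -/

universe u

open CategoryTheory CategoryTheory.Limits AlgebraicGeometry Opposite IsLocalRing

set_option autoImplicit false
set_option maxHeartbeats 800000
set_option maxSynthPendingDepth 3
set_option backward.isDefEq.respectTransparency.types false
set_option linter.style.haveILetI false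
set_option linter.unusedSectionVars false
set_option linter.unusedVariables false

noncomputable section

namespace Groth.L23.CohProp

open Groth.L27.BigSets
open Groth.L27.Fppf (cT exists_pullback comp_left_apply etale_comp)
open Groth.L23.LocAcycSets (Basis eqNear_trans eqNear_symm)

/-- A morphism lands over `U`. -/
def Lands {T X S : Scheme.{u}} (h : X ⟶ S) (U : S.Opens) (t : T ⟶ X) : Prop := ∀ x : T, h (t x) ∈ U

theorem Lands.comp {T T' X S : Scheme.{u}} {h : X ⟶ S} {U : S.Opens} {t : T ⟶ X} (ht : Lands h U t) (m : T' ⟶ T) :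
    Lands h U (m ≫ t) := fun x => by
  rw [Scheme.Hom.comp_apply]; exact ht _

theorem Lands.mono {T X S : Scheme.{u}} {h : X ⟶ S} {U U' : S.Opens} (hle : U ≤ U') {t : T ⟶ X}
    (ht : Lands h U t) : Lands h U' t := fun x => hle (ht x)

/-- Squares of strictly local schemes over `U`. -/
def SqOk {Y S : Scheme.{u}} (b : Y ⟶ S) (U : S.Opens) (R R' : Type u) [CommRing R] [CommRing R']
    (ψ : R →+* R') (η : Spec (CommRingCat.of R) ⟶ Y) : Prop :=
  HenselianLocalRing R ∧ HenselianLocalRing R' ∧ (∀ [IsLocalRing R], IsSepClosed (ResidueField R)) ∧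
    (∀ [IsLocalRing R'], IsSepClosed (ResidueField R')) ∧ IsLocalHom ψ ∧
    WeaklyEtale η ∧ ∃ (S' Y' : Scheme.{u}) (p : S' ⟶ S) (g : Y' ⟶ Y) (q' : Y' ⟶ S')
      (η' : Spec (CommRingCat.of R') ⟶ Y'), (∀ x, p x ∈ U) ∧ IsPullback g q' b p ∧ WeaklyEtale η' ∧
        η' ≫ g = Spec.map (CommRingCat.ofHom ψ) ≫ η

theorem SqOk.mono {Y S : Scheme.{u}} {b : Y ⟶ S} {U U' : S.Opens} (hle : U ≤ U') {R R' : Type u} [CommRing R]
    [CommRing R'] {ψ : R →+* R'} {η : Spec (CommRingCat.of R) ⟶ Y} (h : SqOk b U R R' ψ η) :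
    SqOk b U' R R' ψ η := by
  obtain ⟨h1, h2, h3, h4, h5, h6, S', Y', p, g, q', η', h7, h8⟩ := h
  exact ⟨h1, h2, h3, h4, h5, h6, S', Y', p, g, q', η', fun x => hle (h7 x), h8⟩

/-- The map between base changes of `Z` along a morphism. -/
def zMap {X Z T T' : Scheme.{u}} (q : Z ⟶ X) (t : T ⟶ X) (t' : T' ⟶ X) (m : T' ⟶ T) (hm : m ≫ t = t') :
    pullback t' q ⟶ pullback t q :=
  pullback.lift (pullback.fst t' q ≫ m) (pullback.snd t' q) (by rw [Category.assoc, hm, pullback.condition])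

theorem zMap_fst {X Z T T' : Scheme.{u}} (q : Z ⟶ X) (t : T ⟶ X) (t' : T' ⟶ X) (m : T' ⟶ T) (hm : m ≫ t = t') :
    zMap q t t' m hm ≫ pullback.fst t q = pullback.fst t' q ≫ m := pullback.lift_fst _ _ _

theorem zMap_snd {X Z T T' : Scheme.{u}} (q : Z ⟶ X) (t : T ⟶ X) (t' : T' ⟶ X) (m : T' ⟶ T) (hm : m ≫ t = t') :
    zMap q t t' m hm ≫ pullback.snd t q = pullback.snd t' q := pullback.lift_snd _ _ _

theorem isPullback_zMap {X Z T T' : Scheme.{u}} (q : Z ⟶ X) (t : T ⟶ X) (t' : T' ⟶ X) (m : T' ⟶ T) (hm : m ≫ t = t') :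
    IsPullback (zMap q t t' m hm) (pullback.fst t' q) (pullback.fst t q) m := by
  refine IsPullback.of_right (h₁₂ := pullback.snd t q) (v₁₃ := q) (h₂₂ := t) ?_ (zMap_fst q t t' m hm)
    (IsPullback.of_hasPullback t q).flip
  rw [zMap_snd, hm]
  exact (IsPullback.of_hasPullback t' q).flip

variable {X Y S : Scheme.{u}} (f : X ⟶ Y) (b : Y ⟶ S) (F : EtDesc.Sh X) (U : S.Opens)

/-- The properties of the base changes of a piece to a square of strictly local schemes. -/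
def SandOk {Z : Scheme.{u}} (q : Z ⟶ X) (W : Z.Opens) {T T' : Scheme.{u}} (t : T ⟶ X) (ρ : T' ⟶ T) : Prop :=
  (∀ M : Type (u + 1), Function.Bijective (lcMap (zMap q t (ρ ≫ t) ρ rfl) :
    LocallyConstant ↥(pullback t q) M → LocallyConstant ↥(pullback (ρ ≫ t) q) M)) ∧
  ∀ A : Set ↥(pullback.snd t q ⁻¹ᵁ W), IsClopen A → A.Nonempty →
    ∃ (z' : ↥(pullback (ρ ≫ t) q)) (h : zMap q t (ρ ≫ t) ρ rfl z' ∈ pullback.snd t q ⁻¹ᵁ W),
      (⟨_, h⟩ : ↥(pullback.snd t q ⁻¹ᵁ W)) ∈ A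

/-- A piece: a scheme over `X`, finite over the part over `U`, with an open carrying a basis of sections from
which locally constant functions extend. -/
structure Piece where
  Z : Scheme.{u}
  q : Z ⟶ X
  W : Z.Opens
  M : Type (u + 1)
  finM : Finite M
  β : Basis F (Over.mk (W.ι ≫ q)) M
  finite : ∀ {T : Scheme.{u}} (t : T ⟶ X), Lands (f ≫ b) U t → IsFinite (pullback.fst t q)
  ext_of_weaklyEtale : ∀ {Q : Scheme.{u}} [IsAffine Q] (μ : Q ⟶ Z) [WeaklyEtale μ],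
    Lands (f ≫ b) U (μ ≫ q) → Ext (↑(μ ⁻¹ᵁ W) : Set Q)
  sand : ∀ (R R' : Type u) [CommRing R] [CommRing R'] (ψ : R →+* R') (η : Spec (CommRingCat.of R) ⟶ Y),
    SqOk b U R R' ψ η → ∀ {T' : Scheme.{u}} (ρ : T' ⟶ pullback f η) (π' : T' ⟶ Spec (CommRingCat.of R')),
      IsPullback ρ π' (pullback.snd f η) (Spec.map (CommRingCat.ofHom ψ)) → SandOk q W (pullback.fst f η) ρ

variable {f b F U}

/-- A piece over a smaller open. -/
def Piece.mono (P : Piece f b F U) {U' : S.Opens} (hle : U' ≤ U) : Piece f b F U' :=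
  { P with
    finite := fun t ht => P.finite t (ht.mono hle)
    ext_of_weaklyEtale := fun μ _ ht => P.ext_of_weaklyEtale μ (ht.mono hle)
    sand := fun R R' _ _ ψ η h => P.sand R R' ψ η (h.mono hle) }

/-- The value of a section over a scheme with a map to a scheme with a basis. -/
def valB {U₀ : Over X} {M : Type (u + 1)} (β : Basis F U₀ M) {T : Over X} (h : T ⟶ U₀)
    (x : (G F).obj.obj (op T)) : LocallyConstant T.left M :=
  ⟨fun t => (β.exists_near h x t).choose, (IsLocallyConstant.iff_exists_open _).2 fun t =>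
    ⟨{s | EqNear F x ((G F).obj.map h.op (β.Φ (β.exists_near h x t).choose)) s}, isOpen_eqNear F _ _,
      (β.exists_near h x t).choose_spec, fun s hs => β.eq_of_near h (β.exists_near h x s).choose_spec hs⟩⟩

theorem valB_spec {U₀ : Over X} {M : Type (u + 1)} (β : Basis F U₀ M) {T : Over X} (h : T ⟶ U₀)
    (x : (G F).obj.obj (op T)) (t : T.left) : EqNear F x ((G F).obj.map h.op (β.Φ (valB β h x t))) t :=
  (β.exists_near h x t).choose_spec

theorem valB_eq {U₀ : Over X} {M : Type (u + 1)} (β : Basis F U₀ M) {T : Over X} (h : T ⟶ U₀)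
    (x : (G F).obj.obj (op T)) (t : T.left) {a : M} (ha : EqNear F x ((G F).obj.map h.op (β.Φ a)) t) :
    valB β h x t = a :=
  β.eq_of_near h (valB_spec β h x t) ha

theorem valB_map {U₀ : Over X} {M : Type (u + 1)} (β : Basis F U₀ M) {T T₂ : Over X} (m : T₂ ⟶ T) (h : T ⟶ U₀)
    (x : (G F).obj.obj (op T)) (t : T₂.left) :
    valB β (m ≫ h) ((G F).obj.map m.op x) t = valB β h x (m.left t) := by
  refine valB_eq β _ _ t ?_
  have := EqNear.map F m _ _ t (valB_spec β h x (m.left t))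
  rwa [map_comp' F m h] at this

namespace Piece

variable (P : Piece f b F U)

section Phi

variable {V : Scheme.{u}} (ν : V ⟶ X)

/-- The part over the open with a basis. -/
abbrev qW : Over X := Over.mk ((pullback.snd ν P.q ⁻¹ᵁ P.W).ι ≫ pullback.fst ν P.q ≫ ν)

/-- The projection to the étale scheme. -/
abbrev toV : P.qW ν ⟶ Over.mk ν :=
  Over.homMk ((pullback.snd ν P.q ⁻¹ᵁ P.W).ι ≫ pullback.fst ν P.q) (Category.assoc _ _ _)

/-- The projection to the open with a basis. -/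
abbrev toW : P.qW ν ⟶ Over.mk (P.W.ι ≫ P.q) :=
  Over.homMk (pullback.snd ν P.q ∣_ P.W) (by
    show (pullback.snd ν P.q ∣_ P.W) ≫ P.W.ι ≫ P.q = _ ≫ pullback.fst ν P.q ≫ ν
    rw [← Category.assoc, morphismRestrict_ι, Category.assoc, pullback.condition])

variable [IsAffine V] [AlgebraicGeometry.Etale ν] (hν : Lands (f ≫ b) U ν)

include hν in
theorem ext_phi : Ext (↑(pullback.snd ν P.q ⁻¹ᵁ P.W) : Set ↥(pullback ν P.q)) := by
  haveI := P.finite ν hν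
  haveI : IsAffine (pullback ν P.q) := isAffine_of_isAffineHom (pullback.fst ν P.q)
  refine P.ext_of_weaklyEtale (pullback.snd ν P.q) ?_
  rw [← pullback.condition]
  exact hν.comp _

/-- The values of a section over an affine étale scheme. -/
def phi (y : (G F).obj.obj (op (Over.mk ν))) : LocallyConstant ↥(pullback ν P.q) P.M :=
  ((P.ext_phi ν hν P.M).2 (valB P.β (P.toW ν) ((G F).obj.map (P.toV ν).op y))).choose

theorem phi_spec (y : (G F).obj.obj (op (Over.mk ν))) (z : ↥(pullback.snd ν P.q ⁻¹ᵁ P.W)) :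
    P.phi ν hν y ((pullback.snd ν P.q ⁻¹ᵁ P.W).ι z) = valB P.β (P.toW ν) ((G F).obj.map (P.toV ν).op y) z :=
  DFunLike.congr_fun ((P.ext_phi ν hν P.M).2 (valB P.β (P.toW ν) ((G F).obj.map (P.toV ν).op y))).choose_spec z

theorem phi_map {V' : Scheme.{u}} (ν' : V' ⟶ X) [IsAffine V'] [AlgebraicGeometry.Etale ν']
    (hν' : Lands (f ≫ b) U ν') (k : V' ⟶ V) (hk : k ≫ ν = ν') (y : (G F).obj.obj (op (Over.mk ν))) :
    P.phi ν' hν' ((G F).obj.map (Over.homMk k hk : Over.mk ν' ⟶ Over.mk ν).op y) =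
      lcMap (zMap P.q ν ν' k hk) (P.phi ν hν y) := by
  refine (P.ext_phi ν' hν' P.M).1 (LocallyConstant.ext fun z => ?_)
  have hz : pullback.snd ν P.q (zMap P.q ν ν' k hk ((pullback.snd ν' P.q ⁻¹ᵁ P.W).ι z)) ∈ P.W := by
    rw [← Scheme.Hom.comp_apply (zMap P.q ν ν' k hk), zMap_snd]
    exact z.2
  have hr : Set.range ((pullback.snd ν' P.q ⁻¹ᵁ P.W).ι ≫ zMap P.q ν ν' k hk) ⊆
      Set.range (pullback.snd ν P.q ⁻¹ᵁ P.W).ι := by
    rintro _ ⟨w, rfl⟩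
    rw [Scheme.Opens.range_ι, Scheme.Hom.comp_apply]
    show pullback.snd ν P.q (zMap P.q ν ν' k hk _) ∈ P.W
    rw [← Scheme.Hom.comp_apply (zMap P.q ν ν' k hk), zMap_snd]
    exact w.2
  let ml := IsOpenImmersion.lift (pullback.snd ν P.q ⁻¹ᵁ P.W).ι _ hr
  have hml : ml ≫ (pullback.snd ν P.q ⁻¹ᵁ P.W).ι = _ := IsOpenImmersion.lift_fac _ _ hr
  let m : P.qW ν' ⟶ P.qW ν := Over.homMk ml (by
    show ml ≫ _ ≫ pullback.fst ν P.q ≫ ν = _
    rw [← Category.assoc, hml, Category.assoc, ← Category.assoc (zMap P.q ν ν' k hk), zMap_fst, Category.assoc, hk]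
    rfl)
  have e1 : m ≫ P.toW ν = P.toW ν' := Over.OverMorphism.ext (by
    show ml ≫ (pullback.snd ν P.q ∣_ P.W) = pullback.snd ν' P.q ∣_ P.W
    rw [← cancel_mono P.W.ι, Category.assoc, morphismRestrict_ι, morphismRestrict_ι, ← Category.assoc, hml,
      Category.assoc, zMap_snd])
  have e2 : P.toV ν' ≫ (Over.homMk k hk : Over.mk ν' ⟶ Over.mk ν) = m ≫ P.toV ν := Over.OverMorphism.ext (by
    show ((pullback.snd ν' P.q ⁻¹ᵁ P.W).ι ≫ pullback.fst ν' P.q) ≫ k = ml ≫ _ ≫ pullback.fst ν P.q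
    rw [← Category.assoc, hml, Category.assoc, Category.assoc, zMap_fst])
  have hpt : (pullback.snd ν P.q ⁻¹ᵁ P.W).ι (ml z) = zMap P.q ν ν' k hk ((pullback.snd ν' P.q ⁻¹ᵁ P.W).ι z) := by
    rw [← Scheme.Hom.comp_apply, hml, Scheme.Hom.comp_apply]
  show P.phi ν' hν' _ ((pullback.snd ν' P.q ⁻¹ᵁ P.W).ι z) =
    P.phi ν hν y (zMap P.q ν ν' k hk ((pullback.snd ν' P.q ⁻¹ᵁ P.W).ι z))
  rw [← hpt, phi_spec, phi_spec, map_comp', e2, ← map_comp', ← e1, valB_map]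
  rfl

end Phi

/-- A representative of a section near a point. -/
structure Rep {T : Over X} (x : (G F).obj.obj (op T)) (t : T.left) where
  T' : Over X
  g : T' ⟶ T
  pt : T'.left
  V : Scheme.{u}
  ν : V ⟶ X
  affine : IsAffine V
  etale : AlgebraicGeometry.Etale ν
  lands : Lands (f ≫ b) U ν
  c : T' ⟶ Over.mk ν
  y : (G F).obj.obj (op (Over.mk ν))
  g_etale : AlgebraicGeometry.Etale g.left
  g_pt : g.left pt = t
  map_eq : (G F).obj.map g.op x = (G F).obj.map c.op y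

theorem nonempty_rep {T : Over X} (hl : Lands (f ≫ b) U T.hom) (x : (G F).obj.obj (op T)) (t : T.left) :
    Nonempty (Rep (f := f) (b := b) (U := U) x t) := by
  obtain ⟨T₁, g, t₁, V, c, s, hg, ht, hs⟩ := exists_e F x t
  let cl : T₁.left ⟶ V.left := c.left
  haveI : AlgebraicGeometry.Etale V.hom := V.prop
  have hmem : cl t₁ ∈ (V.hom ≫ f ≫ b) ⁻¹ᵁ U := by
    show (V.hom ≫ f ≫ b) (cl t₁) ∈ U
    rw [← Scheme.Hom.comp_apply, ← Category.assoc, show cl ≫ V.hom = g.left ≫ T.hom from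
      (Over.w c).trans (Over.w g).symm, Category.assoc, Scheme.Hom.comp_apply, Scheme.Hom.comp_apply]
    exact hl _
  obtain ⟨O, hO, hcO, hOle⟩ := exists_isAffineOpen_mem_and_subset hmem
  haveI : IsAffine (O : Scheme.{u}) := hO
  let ν : (O : Scheme.{u}) ⟶ X := O.ι ≫ V.hom
  haveI : AlgebraicGeometry.Etale ν := inferInstanceAs (AlgebraicGeometry.Etale (O.ι ≫ V.hom))
  let T₂ : Over X := Over.mk ((cl ⁻¹ᵁ O).ι ≫ T₁.hom)
  let j : T₂ ⟶ T₁ := Over.homMk (cl ⁻¹ᵁ O).ι rfl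
  let c₂ : T₂ ⟶ Over.mk ν := Over.homMk (cl ∣_ O) (by
    show (cl ∣_ O) ≫ O.ι ≫ V.hom = (cl ⁻¹ᵁ O).ι ≫ T₁.hom
    rw [← Category.assoc, morphismRestrict_ι, Category.assoc]
    exact congrArg (_ ≫ ·) (Over.w c))
  let kO : Over.mk ν ⟶ (EtFppf.a X).obj V := Over.homMk O.ι rfl
  haveI := hg
  refine ⟨⟨T₂, j ≫ g, ⟨t₁, hcO⟩, O, ν, inferInstance, inferInstance, fun z => ?_, c₂, e F kO s,
    inferInstanceAs (AlgebraicGeometry.Etale ((cl ⁻¹ᵁ O).ι ≫ g.left)), ?_, ?_⟩⟩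
  · have h := hOle z.2
    show (f ≫ b) ((O.ι ≫ V.hom) z) ∈ U
    rw [Scheme.Hom.comp_apply]
    exact h
  · exact (comp_left_apply j g _).trans ht
  · rw [← map_comp', hs, e_map, e_map]
    refine congrArg (fun k => L27.BigSets.e F k s) (Over.OverMorphism.ext ?_)
    exact (morphismRestrict_ι cl O).symm

variable {T : Over X} (r : T.left ⟶ P.Z) (hr : r ≫ P.q = T.hom)

/-- The point of a representative. -/
def repMap {x : (G F).obj.obj (op T)} {t : T.left} (ρ : Rep (f := f) (b := b) (U := U) x t) :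
    ρ.T'.left ⟶ pullback ρ.ν P.q :=
  pullback.lift ρ.c.left (ρ.g.left ≫ r) (by
    rw [Category.assoc, hr]; exact (Over.w ρ.c).trans (Over.w ρ.g).symm)

/-- The value given by a representative. -/
def repVal {x : (G F).obj.obj (op T)} {t : T.left} (ρ : Rep (f := f) (b := b) (U := U) x t) : P.M :=
  haveI := ρ.affine; haveI := ρ.etale
  P.phi ρ.ν ρ.lands ρ.y (P.repMap r hr ρ ρ.pt)

theorem repVal_eq {x : (G F).obj.obj (op T)} {t : T.left} (ρ₁ ρ₂ : Rep (f := f) (b := b) (U := U) x t) :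
    P.repVal r hr ρ₁ = P.repVal r hr ρ₂ := by
  haveI := ρ₁.affine; haveI := ρ₁.etale; haveI := ρ₂.affine; haveI := ρ₂.etale
  haveI := ρ₁.g_etale; haveI := ρ₂.g_etale
  obtain ⟨Q, a₁, a₂, ha, hQ, -⟩ := exists_pullback ρ₁.g ρ₂.g
  obtain ⟨p, hp₁, hp₂⟩ := Scheme.exists_preimage_of_isPullback hQ ρ₁.pt ρ₂.pt (ρ₁.g_pt.trans ρ₂.g_pt.symm)
  let V₁₂ : Over X := Over.mk (pullback.fst ρ₁.ν ρ₂.ν ≫ ρ₁.ν)
  let π₁ : V₁₂ ⟶ Over.mk ρ₁.ν := Over.homMk (pullback.fst ρ₁.ν ρ₂.ν) rfl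
  let π₂ : V₁₂ ⟶ Over.mk ρ₂.ν := Over.homMk (pullback.snd ρ₁.ν ρ₂.ν) pullback.condition.symm
  let d : Q ⟶ V₁₂ := Over.homMk (pullback.lift (a₁ ≫ ρ₁.c).left (a₂ ≫ ρ₂.c).left
      ((Over.w (a₁ ≫ ρ₁.c)).trans (Over.w (a₂ ≫ ρ₂.c)).symm)) (by
    show pullback.lift _ _ _ ≫ pullback.fst ρ₁.ν ρ₂.ν ≫ ρ₁.ν = Q.hom
    rw [← Category.assoc, pullback.lift_fst]
    exact Over.w (a₁ ≫ ρ₁.c))
  have hd₁ : d ≫ π₁ = a₁ ≫ ρ₁.c := Over.OverMorphism.ext (pullback.lift_fst _ _ _)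
  have hd₂ : d ≫ π₂ = a₂ ≫ ρ₂.c := Over.OverMorphism.ext (pullback.lift_snd _ _ _)
  have hne : EqNear F ((G F).obj.map π₁.op ρ₁.y) ((G F).obj.map π₂.op ρ₂.y) (d.left p) := by
    refine EqNear.of_map F d _ _ p (eqNear_of_eq F _ _ ?_ p)
    rw [map_comp', map_comp', hd₁, hd₂, ← map_comp', ← map_comp', ← ρ₁.map_eq, ← ρ₂.map_eq, map_comp', map_comp', ha]
  obtain ⟨T₃, g₃, t₃, hg₃, ht₃, he₃⟩ := hne
  obtain ⟨O, hO, ht₃O, -⟩ := exists_isAffineOpen_mem_and_subset (X := T₃.left) (x := t₃) (U := ⊤) trivial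
  haveI : IsAffine (O : Scheme.{u}) := hO
  let ν₃ : (O : Scheme.{u}) ⟶ X := O.ι ≫ T₃.hom
  let g₃l : T₃.left ⟶ pullback ρ₁.ν ρ₂.ν := g₃.left
  haveI : AlgebraicGeometry.Etale g₃l := hg₃
  haveI : AlgebraicGeometry.Etale ν₃ := by
    rw [show ν₃ = O.ι ≫ g₃l ≫ pullback.fst ρ₁.ν ρ₂.ν ≫ ρ₁.ν from congrArg (O.ι ≫ ·) (Over.w g₃).symm]
    infer_instance
  let O₃ : Over.mk ν₃ ⟶ T₃ := Over.homMk O.ι rfl
  have hν₃ : Lands (f ≫ b) U ν₃ := by
    rw [show ν₃ = (O.ι ≫ g₃l ≫ pullback.fst ρ₁.ν ρ₂.ν) ≫ ρ₁.ν by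
      simp only [Category.assoc]; exact congrArg (O.ι ≫ ·) (Over.w g₃).symm]
    exact ρ₁.lands.comp _
  let k₁ := O₃ ≫ g₃ ≫ π₁
  let k₂ := O₃ ≫ g₃ ≫ π₂
  have hy : (G F).obj.map k₁.op ρ₁.y = (G F).obj.map k₂.op ρ₂.y := by
    simp only [k₁, k₂, ← map_comp']
    rw [he₃]
  -- the point
  let z : P.Z := r t
  have hz : ν₃ ⟨t₃, ht₃O⟩ = P.q z := by
    show (O.ι ≫ T₃.hom) ⟨t₃, ht₃O⟩ = P.q (r t)
    rw [← Scheme.Hom.comp_apply r, hr, Scheme.Hom.comp_apply]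
    show T₃.hom t₃ = T.hom t
    rw [← Over.w g₃, Scheme.Hom.comp_apply, ht₃, ← Scheme.Hom.comp_apply, Over.w d, ← Over.w (a₁ ≫ ρ₁.g),
      Scheme.Hom.comp_apply]
    exact congrArg T.hom ((comp_left_apply a₁ ρ₁.g p).trans ((congrArg ρ₁.g.left hp₁).trans ρ₁.g_pt))
  let dl : Q.left ⟶ pullback V₁₂.hom P.q := pullback.lift d.left ((a₁ ≫ ρ₁.g).left ≫ r) (by
    rw [Category.assoc, hr]; exact (Over.w d).trans (Over.w (a₁ ≫ ρ₁.g)).symm)
  let kd : (O : Scheme.{u}) ⟶ V₁₂.left := O.ι ≫ g₃l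
  have hkd : kd ≫ V₁₂.hom = ν₃ := (Category.assoc _ _ _).trans (congrArg (O.ι ≫ ·) (Over.w g₃))
  obtain ⟨w, hw, -⟩ := Scheme.exists_preimage_of_isPullback (isPullback_zMap P.q V₁₂.hom ν₃ kd hkd) (dl p) ⟨t₃, ht₃O⟩ (by
    rw [← Scheme.Hom.comp_apply dl, pullback.lift_fst]
    exact ht₃.symm)
  have key : ∀ (ρ : Rep (f := f) (b := b) (U := U) x t) [IsAffine ρ.V] [AlgebraicGeometry.Etale ρ.ν]
      (a : Q ⟶ ρ.T') (π : V₁₂ ⟶ Over.mk ρ.ν), d ≫ π = a ≫ ρ.c → a ≫ ρ.g = a₁ ≫ ρ₁.g → a.left p = ρ.pt →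
      P.phi ν₃ hν₃ ((G F).obj.map (O₃ ≫ g₃ ≫ π).op ρ.y) w = P.repVal r hr ρ := by
    intro ρ _ _ a π hπ hag hap
    let kl : (O : Scheme.{u}) ⟶ ρ.V := (O₃ ≫ g₃ ≫ π).left
    have hkl : kl ≫ ρ.ν = ν₃ := Over.w (O₃ ≫ g₃ ≫ π)
    have e : (O₃ ≫ g₃ ≫ π) = (Over.homMk kl hkl : Over.mk ν₃ ⟶ Over.mk ρ.ν) := rfl
    rw [e, P.phi_map ρ.ν ρ.lands ν₃ hν₃ kl hkl ρ.y]
    show P.phi ρ.ν ρ.lands ρ.y (zMap P.q ρ.ν ν₃ kl hkl w) = P.phi ρ.ν ρ.lands ρ.y (P.repMap r hr ρ ρ.pt)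
    refine congrArg _ ?_
    let πl : V₁₂.left ⟶ ρ.V := π.left
    have hz1 : zMap P.q ρ.ν ν₃ kl hkl = zMap P.q V₁₂.hom ν₃ kd hkd ≫ zMap P.q ρ.ν V₁₂.hom πl (Over.w π) := by
      refine pullback.hom_ext ?_ ?_
      · rw [zMap_fst, Category.assoc, zMap_fst, ← Category.assoc, zMap_fst, Category.assoc]
        rfl
      · rw [zMap_snd, Category.assoc, zMap_snd, zMap_snd]
    have hz2 : dl ≫ zMap P.q ρ.ν V₁₂.hom πl (Over.w π) = a.left ≫ P.repMap r hr ρ := by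
      refine pullback.hom_ext ?_ ?_
      · rw [Category.assoc, zMap_fst, ← Category.assoc, pullback.lift_fst, Category.assoc, repMap, pullback.lift_fst]
        exact congrArg (fun k => k.left) hπ
      · rw [Category.assoc, zMap_snd, pullback.lift_snd, Category.assoc, repMap, pullback.lift_snd, ← Category.assoc]
        exact congrArg (fun k => k.left ≫ r) hag.symm
    rw [hz1, Scheme.Hom.comp_apply, hw, ← Scheme.Hom.comp_apply, hz2, Scheme.Hom.comp_apply, hap]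
  rw [← key ρ₁ a₁ π₁ hd₁ rfl hp₁, ← key ρ₂ a₂ π₂ hd₂ ha.symm hp₂]
  exact congrArg (fun y => P.phi ν₃ hν₃ y w) hy

/-- The value of a section at a point. -/
def valAt (hl : Lands (f ≫ b) U T.hom) (x : (G F).obj.obj (op T)) (t : T.left) : P.M :=
  P.repVal r hr (nonempty_rep hl x t).some

/-- The values of a section. -/
def val (hl : Lands (f ≫ b) U T.hom) (x : (G F).obj.obj (op T)) : LocallyConstant T.left P.M :=
  ⟨P.valAt r hr hl x, (IsLocallyConstant.iff_exists_open _).2 fun t => by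
    let ρ := (nonempty_rep (f := f) (b := b) (U := U) hl x t).some
    haveI := ρ.affine; haveI := ρ.etale; haveI := ρ.g_etale
    let A : Set ρ.T'.left := P.repMap r hr ρ ⁻¹' {w | P.phi ρ.ν ρ.lands ρ.y w = P.valAt r hr hl x t}
    have hA : IsOpen A :=
      ((P.phi ρ.ν ρ.lands ρ.y).isLocallyConstant.isOpen_fiber _).preimage (P.repMap r hr ρ).continuous
    refine ⟨ρ.g.left '' A, ρ.g.left.isOpenMap A hA, ⟨ρ.pt, rfl, ρ.g_pt⟩, ?_⟩
    rintro _ ⟨u, hu, rfl⟩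
    let ρu : Rep (f := f) (b := b) (U := U) x (ρ.g.left u) := { ρ with pt := u, g_pt := rfl }
    exact (P.repVal_eq r hr _ ρu).trans hu⟩

theorem val_eq_repVal (hl : Lands (f ≫ b) U T.hom) {x : (G F).obj.obj (op T)} {t : T.left}
    (ρ : Rep (f := f) (b := b) (U := U) x t) : P.val r hr hl x t = P.repVal r hr ρ :=
  P.repVal_eq r hr _ ρ

theorem val_map {T₂ : Over X} (m : T₂ ⟶ T) (r₂ : T₂.left ⟶ P.Z) (hr₂ : r₂ ≫ P.q = T₂.hom)
    (hm : m.left ≫ r = r₂) (hl : Lands (f ≫ b) U T.hom) (hl₂ : Lands (f ≫ b) U T₂.hom)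
    (x : (G F).obj.obj (op T)) (t : T₂.left) :
    P.val r₂ hr₂ hl₂ ((G F).obj.map m.op x) t = P.val r hr hl x (m.left t) := by
  obtain ⟨ρ⟩ := nonempty_rep (f := f) (b := b) (U := U) hl x (m.left t)
  haveI := ρ.affine; haveI := ρ.etale; haveI := ρ.g_etale
  obtain ⟨T₃, a, c, hac, hP, -⟩ := exists_pullback m ρ.g
  obtain ⟨t₃, ha₃, hc₃⟩ := Scheme.exists_preimage_of_isPullback hP t ρ.pt ρ.g_pt.symm
  haveI : AlgebraicGeometry.Etale a.left := MorphismProperty.of_isPullback (P := EtCoh.etaleMP.{u}) hP.flip ρ.g_etale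
  let ρ₂ : Rep (f := f) (b := b) (U := U) ((G F).obj.map m.op x) t :=
    ⟨T₃, a, t₃, ρ.V, ρ.ν, ρ.affine, ρ.etale, ρ.lands, c ≫ ρ.c, ρ.y, inferInstance, ha₃, by
      rw [map_comp', hac, ← map_comp', ρ.map_eq, map_comp']⟩
  rw [P.val_eq_repVal r₂ hr₂ hl₂ ρ₂, P.val_eq_repVal r hr hl ρ]
  show P.phi ρ.ν ρ.lands ρ.y (P.repMap r₂ hr₂ ρ₂ t₃) = P.phi ρ.ν ρ.lands ρ.y (P.repMap r hr ρ ρ.pt)
  refine congrArg _ ?_
  have e : P.repMap r₂ hr₂ ρ₂ = c.left ≫ P.repMap r hr ρ := by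
    refine pullback.hom_ext ?_ ?_
    · rw [Category.assoc, repMap, repMap, pullback.lift_fst, pullback.lift_fst]; rfl
    · rw [Category.assoc, repMap, repMap, pullback.lift_snd, pullback.lift_snd, ← Category.assoc]
      show a.left ≫ r₂ = (c ≫ ρ.g).left ≫ r
      rw [← hac, ← hm]
      exact (Category.assoc _ _ _).symm
  rw [e, Scheme.Hom.comp_apply, hc₃]

theorem val_eq_of_eqNear (hl : Lands (f ≫ b) U T.hom) {x y : (G F).obj.obj (op T)} {t : T.left}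
    (h : EqNear F x y t) : P.val r hr hl x t = P.val r hr hl y t := by
  obtain ⟨T', g, t', hg, rfl, he⟩ := h
  have hr' : (g.left ≫ r) ≫ P.q = T'.hom := by rw [Category.assoc, hr, Over.w g]
  have hl' : Lands (f ≫ b) U T'.hom := by rw [← Over.w g]; exact hl.comp _
  rw [← P.val_map r hr g _ hr' rfl hl hl', ← P.val_map r hr g _ hr' rfl hl hl', he]

theorem val_spec (hl : Lands (f ≫ b) U T.hom) (x : (G F).obj.obj (op T)) (h : T ⟶ Over.mk (P.W.ι ≫ P.q))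
    (hh : h.left ≫ P.W.ι = r) (t : T.left) : P.val r hr hl x t = valB P.β h x t := by
  obtain ⟨ρ⟩ := nonempty_rep (f := f) (b := b) (U := U) hl x t
  haveI := ρ.affine; haveI := ρ.etale; haveI := ρ.g_etale
  rw [P.val_eq_repVal r hr hl ρ]
  let Wν := pullback.snd ρ.ν P.q ⁻¹ᵁ P.W
  have hrange : Set.range (P.repMap r hr ρ) ⊆ Set.range Wν.ι := by
    rintro _ ⟨u, rfl⟩
    rw [Scheme.Opens.range_ι]
    show pullback.snd ρ.ν P.q (P.repMap r hr ρ u) ∈ P.W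
    rw [← Scheme.Hom.comp_apply, repMap, pullback.lift_snd, ← hh, ← Category.assoc, Scheme.Hom.comp_apply]
    exact ((ρ.g.left ≫ h.left) u).2
  let ll := IsOpenImmersion.lift Wν.ι _ hrange
  have hll : ll ≫ Wν.ι = P.repMap r hr ρ := IsOpenImmersion.lift_fac _ _ hrange
  let l : ρ.T' ⟶ P.qW ρ.ν := Over.homMk ll (by
    show ll ≫ Wν.ι ≫ pullback.fst ρ.ν P.q ≫ ρ.ν = ρ.T'.hom
    rw [← Category.assoc, hll, ← Category.assoc, repMap, pullback.lift_fst]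
    exact Over.w ρ.c)
  have e1 : l ≫ P.toV ρ.ν = ρ.c := Over.OverMorphism.ext (by
    show ll ≫ Wν.ι ≫ pullback.fst ρ.ν P.q = ρ.c.left
    rw [← Category.assoc, hll, repMap, pullback.lift_fst])
  have e2 : l ≫ P.toW ρ.ν = ρ.g ≫ h := Over.OverMorphism.ext (by
    show ll ≫ (pullback.snd ρ.ν P.q ∣_ P.W) = ρ.g.left ≫ h.left
    rw [← cancel_mono P.W.ι, Category.assoc, morphismRestrict_ι, ← Category.assoc, hll, repMap, pullback.lift_snd,
      Category.assoc, hh])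
  show P.phi ρ.ν ρ.lands ρ.y (P.repMap r hr ρ ρ.pt) = _
  rw [← hll, Scheme.Hom.comp_apply, phi_spec]
  conv_rhs => rw [← ρ.g_pt, ← valB_map P.β ρ.g h, ρ.map_eq, ← e1, ← map_comp', ← e2, valB_map P.β l]
  rfl

end Piece

end Groth.L23.CohProp
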