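import Mathlib.FieldTheory.PrimitiveElement
import Mathlib.FieldTheory.PurelyInseparable.Basic
import Mathlib.RingTheory.Localization.FractionRing
import Mathlib.RingTheory.Polynomial.ScaleRoots
import Mathlib.RingTheory.Ideal.GoingUp
import Mathlib.RingTheory.Nilpotent.Lemmas

/-! # Homomorphisms into fields of a finite extension of domains are roots of a separable polynomial -/

universe u

open Polynomial

set_option autoImplicit false
set_option maxHeartbeats 800000
set_option synthInstance.maxHeartbeats 200000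
set_option linter.style.haveILetI false
set_option linter.unusedSectionVars false

noncomputable section

namespace Groth.L23.CohProp

/-- A polynomial whose roots are the extensions to `B` of the homomorphisms from `A` into fields not killing `a`. -/
structure RootData (A B : Type u) [CommRing A] [CommRing B] [Algebra A B] where
  a : A
  ha : algebraMap A B a ≠ 0
  g : A[X]
  monic : g.Monic
  θ : B
  root : aeval θ g = 0
  sep : ∀ (L : Type u) [Field L] (φ : A →+* L), φ a ≠ 0 → (g.map φ).Separable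
  ext : ∀ (L : Type u) [Field L] [IsAlgClosed L] (φ : A →+* L) (r : L), φ a ≠ 0 → g.eval₂ φ r = 0 →
    ∃ χ : B →+* L, χ.comp (algebraMap A B) = φ ∧ χ θ = r
  uniq : ∀ (L : Type u) [Field L] (χ χ' : B →+* L), χ (algebraMap A B a) ≠ 0 →
    χ.comp (algebraMap A B) = χ'.comp (algebraMap A B) → χ θ = χ' θ → χ = χ'

variable {A B : Type u} [CommRing A] [CommRing B] [Algebra A B]

/-- A root of the reduction modulo the kernel of a nil kernel map extends. -/
theorem exists_ext [IsDomain B] [Algebra.IsIntegral A B] {θ : B} {L : Type u} [Field L] [IsAlgClosed L]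
    (φ : A →+* L) (r : L) (h : ∀ P : A[X], aeval θ P = 0 → P.eval₂ φ r = 0) :
    ∃ χ : B →+* L, χ.comp (algebraMap A B) = φ ∧ χ θ = r := by
  let C := (aeval θ : A[X] →ₐ[A] B).range
  let π : A[X] →+* C := (aeval θ : A[X] →ₐ[A] B).rangeRestrict.toRingHom
  have hπ : Function.Surjective π := AlgHom.rangeRestrict_surjective _
  let ψ : C →+* L := π.liftOfSurjective hπ ⟨eval₂RingHom φ r, fun P hP => h P (congrArg Subtype.val hP)⟩
  have hψ : ∀ P, ψ (π P) = P.eval₂ φ r := RingHom.liftOfRightInverse_comp_apply _ _ _ ⟨eval₂RingHom φ r, _⟩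
  haveI : Algebra.IsIntegral C B := Algebra.IsIntegral.tower_top (R := A)
  haveI : (RingHom.ker ψ).IsPrime := RingHom.ker_isPrime ψ
  obtain ⟨Q, -, hQp, hQ⟩ := Ideal.exists_ideal_over_prime_of_isIntegral (RingHom.ker ψ) (⊥ : Ideal B)
    (fun x hx => (Subtype.ext hx : x = 0) ▸ zero_mem _)
  haveI := hQp
  let C₀ := C ⧸ RingHom.ker ψ
  haveI : IsDomain C₀ := Ideal.Quotient.isDomain _
  let i₀ : C₀ →+* B ⧸ Q := Ideal.quotientMap Q (algebraMap C B) hQ.ge
  letI : Algebra C₀ (B ⧸ Q) := i₀.toAlgebra
  haveI : FaithfulSMul C₀ (B ⧸ Q) :=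
    (faithfulSMul_iff_algebraMap_injective _ _).2 (Ideal.quotientMap_injective' hQ.le)
  haveI : Algebra.IsIntegral C₀ (B ⧸ Q) := ⟨fun x => by
    obtain ⟨y, rfl⟩ := Ideal.Quotient.mk_surjective x
    obtain ⟨p, hp, hpy⟩ := Algebra.IsIntegral.isIntegral (R := C) y
    refine ⟨p.map (Ideal.Quotient.mk _), hp.map _, ?_⟩
    rw [eval₂_map]
    have e := congrArg (Ideal.Quotient.mk Q) hpy
    rw [hom_eval₂, map_zero] at e
    exact e⟩
  let ψ₀ : C₀ →+* L := Ideal.Quotient.lift _ ψ fun x hx => hx
  letI : Algebra C₀ L := ψ₀.toAlgebra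
  haveI : FaithfulSMul C₀ L :=
    (faithfulSMul_iff_algebraMap_injective _ _).2 ((injective_iff_map_eq_zero ψ₀).2 fun x hx => by
      obtain ⟨y, rfl⟩ := Ideal.Quotient.mk_surjective x
      exact Ideal.Quotient.eq_zero_iff_mem.2 hx)
  haveI : Algebra.IsAlgebraic C₀ (B ⧸ Q) := Algebra.IsIntegral.isAlgebraic
  let χ₀ : (B ⧸ Q) →ₐ[C₀] L := IsAlgClosed.lift
  have hcomp : ∀ c : C, χ₀ (Ideal.Quotient.mk Q c.1) = ψ c := fun c =>
    (χ₀.commutes (Ideal.Quotient.mk _ c) :)
  refine ⟨χ₀.toRingHom.comp (Ideal.Quotient.mk Q), RingHom.ext fun a => ?_, ?_⟩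
  · show χ₀ (Ideal.Quotient.mk Q (algebraMap A B a)) = φ a
    rw [show algebraMap A B a = (π (Polynomial.C a)).1 from (aeval_C θ a).symm, hcomp, hψ, eval₂_C]
  · show χ₀ (Ideal.Quotient.mk Q θ) = r
    rw [show θ = (π X).1 from (aeval_X θ).symm, hcomp, hψ, eval₂_X]

/-- Elements with equal powers of the exponential characteristic of a subfield are equal. -/
theorem eq_of_pow_expChar {K : Type u} [Field K] (j : B →+* K) (hj : Function.Injective j) (q : ℕ) [hq : ExpChar K q]
    {L : Type u} [Field L] (χ : B →+* L) (n : ℕ) {x y : L} (h : x ^ q ^ n = y ^ q ^ n) : x = y := by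
  cases hq with
  | zero => simpa using h
  | prime hp =>
    haveI : Fact q.Prime := ⟨hp⟩
    have h0 : (q : B) = 0 := hj (by rw [map_natCast, CharP.cast_eq_zero, map_zero])
    haveI : CharP L q := (CharP.charP_iff_prime_eq_zero hp).2 (by rw [← map_natCast χ, h0, map_zero])
    haveI : ExpChar L q := ExpChar.prime hp
    exact iterateFrobenius_inj L q n h

set_option maxHeartbeats 1600000 in
/-- Root data exist for finite algebras which are domains, with nil kernel. -/
theorem nonempty_rootData [IsDomain B] [Module.Finite A B] (hker : RingHom.ker (algebraMap A B) ≤ nilradical A) :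
    Nonempty (RootData A B) := by
  classical
  let K := FractionRing B
  let j : B →+* K := algebraMap B K
  have hj : Function.Injective j := IsFractionRing.injective B K
  let ι : A →+* K := j.comp (algebraMap A B)
  have hnil : ∀ (L : Type u) [Field L] (φ : A →+* L) (x : A), ι x = 0 → φ x = 0 := fun L _ φ x hx => by
    have : IsNilpotent x := hker (hj (hx.trans (map_zero j).symm))
    exact (this.map φ).eq_zero
  let k : Subfield K := Subfield.closure (Set.range ι)
  let ιk : A →+* k := ι.codRestrict k fun x => Subfield.subset_closure ⟨x, rfl⟩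
  have hfrac : ∀ x : k, ∃ u v : A, ιk v ≠ 0 ∧ x * ιk v = ιk u := fun x => by
    obtain ⟨y, hy, z, hz, he⟩ := Subfield.mem_closure_iff.1 x.2
    rw [show Set.range ι = (ι.range : Set K) from rfl, Subring.closure_eq] at hy hz
    obtain ⟨u, rfl⟩ := hy
    obtain ⟨v, rfl⟩ := hz
    by_cases hv : ι v = 0
    · refine ⟨0, 1, by rw [map_one]; exact one_ne_zero, Subtype.ext ?_⟩
      show (x : K) * ι 1 = ι 0
      rw [← he, hv, div_zero, zero_mul, map_zero]
    · exact ⟨u, v, fun h => hv (congrArg Subtype.val h), Subtype.ext (by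
        show (x : K) * ι v = ι u
        rw [← he, div_mul_cancel₀ _ hv])⟩
  have hclear : ∀ P : k[X], ∃ (v : A) (P₀ : A[X]), ιk v ≠ 0 ∧ P₀.map ιk = Polynomial.C (ιk v) * P := fun P => by
    induction P using Polynomial.induction_on' with
    | add P Q hP hQ =>
      obtain ⟨v, P₀, hv, hP⟩ := hP
      obtain ⟨w, Q₀, hw, hQ⟩ := hQ
      refine ⟨v * w, Polynomial.C w * P₀ + Polynomial.C v * Q₀, by rw [map_mul]; exact mul_ne_zero hv hw, ?_⟩
      rw [Polynomial.map_add, Polynomial.map_mul, Polynomial.map_mul, map_C, map_C, hP, hQ, map_mul, C_mul]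
      ring
    | monomial n c =>
      obtain ⟨u, v, hv, he⟩ := hfrac c
      exact ⟨v, monomial n u, hv, by rw [map_monomial, C_mul_monomial, mul_comm, he]⟩
  obtain ⟨S, hS⟩ := (inferInstance : Module.Finite A B).fg_top
  let gs : Set K := j '' (S : Set B)
  have hint : ∀ b : B, IsIntegral k (j b) := fun b => by
    obtain ⟨p, hp, hpb⟩ := Algebra.IsIntegral.isIntegral (R := A) b
    refine ⟨p.map ιk, hp.map _, ?_⟩
    rw [eval₂_map]
    show p.eval₂ ι (j b) = 0
    rw [← hom_eval₂, hpb, map_zero]
  have hjmem : ∀ b : B, j b ∈ IntermediateField.adjoin k gs := fun b => by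
    have hb : b ∈ Submodule.span A (S : Set B) := hS ▸ Submodule.mem_top
    induction hb using Submodule.span_induction with
    | mem x hx => exact IntermediateField.subset_adjoin k gs ⟨x, hx, rfl⟩
    | zero => rw [map_zero]; exact zero_mem _
    | add x y _ _ hx hy => rw [map_add]; exact add_mem hx hy
    | smul c x _ hx =>
      rw [Algebra.smul_def, map_mul]
      exact mul_mem ((IntermediateField.adjoin k gs).algebraMap_mem (ιk c)) hx
  have htop : IntermediateField.adjoin k gs = ⊤ := top_unique fun z _ => by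
    obtain ⟨x, y, -, rfl⟩ := IsFractionRing.div_surjective B z
    exact div_mem (hjmem x) (hjmem y)
  haveI : FiniteDimensional k K := by
    haveI := (S.finite_toSet.image j).to_subtype
    haveI : FiniteDimensional k (IntermediateField.adjoin k gs) :=
      IntermediateField.finiteDimensional_adjoin fun x hx => by obtain ⟨b, -, rfl⟩ := hx; exact hint b
    exact ((IntermediateField.equivOfEq htop).trans IntermediateField.topEquiv).toLinearEquiv.finiteDimensional
  have hmul : ∀ z : K, ∃ (v : A) (b : B), ι v ≠ 0 ∧ ι v * z = j b := fun z => by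
    have hz : z ∈ Algebra.adjoin k gs := by
      rw [← IntermediateField.adjoin_toSubalgebra, htop]
      trivial
    induction hz using Algebra.adjoin_induction with
    | mem x hx =>
      obtain ⟨b, -, rfl⟩ := hx
      exact ⟨1, b, by rw [map_one]; exact one_ne_zero, by rw [map_one, one_mul]⟩
    | algebraMap c =>
      obtain ⟨u, v, hv, he⟩ := hfrac c
      exact ⟨v, algebraMap A B u, fun h => hv (Subtype.ext h), (mul_comm _ _).trans (congrArg Subtype.val he)⟩
    | add x y _ _ hx hy =>
      obtain ⟨v, b, hv, hb⟩ := hx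
      obtain ⟨w, c, hw, hc⟩ := hy
      refine ⟨v * w, algebraMap A B w * b + algebraMap A B v * c, by rw [map_mul]; exact mul_ne_zero hv hw, ?_⟩
      rw [map_mul, map_add, map_mul j, map_mul j, ← hb, ← hc]
      show _ = ι w * _ + ι v * _
      ring
    | mul x y _ _ hx hy =>
      obtain ⟨v, b, hv, hb⟩ := hx
      obtain ⟨w, c, hw, hc⟩ := hy
      exact ⟨v * w, b * c, by rw [map_mul]; exact mul_ne_zero hv hw, by rw [map_mul, map_mul j, ← hb, ← hc]; ring⟩
  obtain ⟨q, hq⟩ := ExpChar.exists k
  haveI := hq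
  haveI : ExpChar K q := expChar_of_injective_ringHom (algebraMap k K).injective q
  let Ks := separableClosure k K
  obtain ⟨α, hα⟩ := Field.exists_primitive_element k Ks
  obtain ⟨v₁, b₁, hv₁, hb₁⟩ := hmul α
  let h := minpoly k (j b₁)
  obtain ⟨v, h₀, hv, hh₀⟩ := hclear h
  let c : k := ιk v
  let zK : K := algebraMap k K c * j b₁
  let θ : B := algebraMap A B v * b₁
  have hθ : j θ = zK := by simp only [θ, map_mul]; rfl
  have hzα : zK = algebraMap k K (c * ιk v₁) * (α : K) := by
    rw [map_mul, mul_assoc]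
    show algebraMap k K c * j b₁ = _
    rw [← hb₁]
    rfl
  have hzs : IsSeparable k zK := by
    rw [← mem_separableClosure_iff, hzα]
    exact mul_mem (Ks.algebraMap_mem _) α.2
  let G := minpoly k zK
  have hGsep : G.Separable := hzs
  have hGm : G.Monic := minpoly.monic (Algebra.IsIntegral.isIntegral zK)
  have hcz : c ≠ 0 := hv
  have hGeq : G = h.scaleRoots c := by
    have hm : h.Monic := minpoly.monic (hint b₁)
    refine (minpoly.unique k zK ((monic_scaleRoots_iff c).2 hm) (scaleRoots_aeval_eq_zero (minpoly.aeval _ _)) fun r hr hr0 => ?_).symm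
    have h1 : aeval (j b₁) (r.scaleRoots c⁻¹) = 0 := by
      have := scaleRoots_aeval_eq_zero (r := c⁻¹) hr0
      rwa [← mul_assoc, ← map_mul, inv_mul_cancel₀ hcz, map_one, one_mul] at this
    rw [degree_scaleRoots, ← degree_scaleRoots r (s := c⁻¹)]
    exact minpoly.min k (j b₁) ((monic_scaleRoots_iff _).2 hr) h1
  have hlifts : G ∈ Polynomial.lifts ιk := by
    rw [hGeq, Polynomial.lifts_iff_coeff_lifts]
    intro i
    rw [coeff_scaleRoots]
    rcases lt_trichotomy i h.natDegree with hi | rfl | hi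
    · obtain ⟨m, hm⟩ : ∃ m, h.natDegree - i = m + 1 := ⟨h.natDegree - i - 1, by omega⟩
      refine ⟨h₀.coeff i * v ^ m, ?_⟩
      have e := congrArg (fun P => Polynomial.coeff P i) hh₀
      rw [coeff_map, coeff_C_mul] at e
      rw [map_mul, map_pow, e, hm, pow_succ']
      ring
    · refine ⟨1, ?_⟩
      rw [map_one, Nat.sub_self, pow_zero, mul_one, Polynomial.coeff_natDegree]
      exact (minpoly.monic (hint b₁)).leadingCoeff.symm
    · exact ⟨0, by rw [map_zero, coeff_eq_zero_of_natDegree_lt hi, zero_mul]⟩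
  obtain ⟨g, hg, -, hgm⟩ := Polynomial.lifts_and_natDegree_eq_and_monic hlifts hGm
  have heval : ∀ P : A[X], j (aeval θ P) = aeval zK (P.map ιk) := fun P => by
    rw [aeval_def, hom_eval₂, aeval_def, eval₂_map, hθ]
    rfl
  have hzero : ∀ P : A[X], P.map ιk = 0 → ∀ (L : Type u) [Field L] (φ : A →+* L), P.map φ = 0 := fun P hP L _ φ => by
    ext i
    rw [coeff_map, coeff_zero]
    refine hnil L φ _ ?_
    have e := congrArg (fun Q => ((Polynomial.coeff Q i : k) : K)) hP
    simp only [coeff_map, coeff_zero] at e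
    exact e
  obtain ⟨U, V, hUV⟩ := hGsep
  obtain ⟨vU, U₀, hvU, hU₀⟩ := hclear U
  obtain ⟨vV, V₀, hvV, hV₀⟩ := hclear V
  have hsing : ∀ x : S, ∃ (v : A) (n : ℕ) (P : A[X]),
      ιk v ≠ 0 ∧ algebraMap A B v * (x : B) ^ q ^ n = aeval θ P := fun x => by
    obtain ⟨n, y, hy⟩ := IsPurelyInseparable.pow_mem Ks q (j x)
    have hy₁ : y ∈ IntermediateField.adjoin k ({α} : Set Ks) := hα ▸ IntermediateField.mem_top
    have hmap : (y : K) ∈ (IntermediateField.adjoin k ({α} : Set Ks)).map Ks.val := ⟨y, hy₁, rfl⟩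
    rw [IntermediateField.adjoin_map, Set.image_singleton] at hmap
    have hle : IntermediateField.adjoin k ({Ks.val α} : Set K) ≤ IntermediateField.adjoin k ({zK} : Set K) := by
      rw [IntermediateField.adjoin_le_iff, Set.singleton_subset_iff]
      have e : (Ks.val α : K) = algebraMap k K (c * ιk v₁)⁻¹ * zK := by
        rw [hzα, ← mul_assoc, ← map_mul, inv_mul_cancel₀ (mul_ne_zero hcz fun h => hv₁ (congrArg Subtype.val h)),
          map_one, one_mul]
        rfl
      rw [SetLike.mem_coe, e]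
      exact mul_mem (IntermediateField.algebraMap_mem _ _) (IntermediateField.mem_adjoin_simple_self k zK)
    have h2 : (y : K) ∈ (IntermediateField.adjoin k ({zK} : Set K)).toSubalgebra := hle hmap
    rw [IntermediateField.adjoin_simple_toSubalgebra_of_isAlgebraic (Algebra.IsAlgebraic.isAlgebraic zK),
      Algebra.adjoin_singleton_eq_range_aeval] at h2
    obtain ⟨P, hP⟩ := h2
    obtain ⟨w, P₀, hw, hP₀⟩ := hclear P
    refine ⟨w, n, P₀, hw, hj ?_⟩
    rw [heval, hP₀, map_mul (aeval zK), aeval_C, map_mul, map_pow]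
    exact congrArg (ι w * ·) (hy.symm.trans hP.symm)
  choose vs ns Ps hvs hPs using hsing
  let a : A := vU * vV * ∏ x, vs x
  have hιa : ιk a ≠ 0 := by
    simp only [a, map_mul, map_prod]
    exact mul_ne_zero (mul_ne_zero hvU hvV) (Finset.prod_ne_zero_iff.2 fun x _ => hvs x)
  refine ⟨⟨a, fun h => hιa (Subtype.ext ((congrArg j h).trans (map_zero j))), g, hgm, θ, hj ?_, ?_, ?_, ?_⟩⟩
  · rw [heval, hg, map_zero]
    exact minpoly.aeval k zK
  · intro L _ φ hφ
    have hφ' : φ vU ≠ 0 ∧ φ vV ≠ 0 := by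
      simp only [a, map_mul] at hφ
      exact ⟨left_ne_zero_of_mul (left_ne_zero_of_mul hφ), right_ne_zero_of_mul (left_ne_zero_of_mul hφ)⟩
    let D := Polynomial.C vV * U₀ * g + Polynomial.C vU * V₀ * derivative g - Polynomial.C (vU * vV)
    have hD : D.map ιk = 0 := by
      simp only [D, Polynomial.map_add, Polynomial.map_sub, Polynomial.map_mul, map_C, hU₀, hV₀, ← derivative_map, hg,
        map_mul]
      linear_combination (Polynomial.C (ιk vU) * Polynomial.C (ιk vV)) * hUV
    have hD' := hzero D hD L φ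
    simp only [D, Polynomial.map_add, Polynomial.map_sub, Polynomial.map_mul, map_C, ← derivative_map, map_mul,
      sub_eq_zero] at hD'
    refine ⟨Polynomial.C (φ vU * φ vV)⁻¹ * (Polynomial.C (φ vV) * U₀.map φ),
      Polynomial.C (φ vU * φ vV)⁻¹ * (Polynomial.C (φ vU) * V₀.map φ), ?_⟩
    have hu : Polynomial.C (φ vU * φ vV)⁻¹ * Polynomial.C (φ vU * φ vV) = 1 := by
      rw [← C_mul, inv_mul_cancel₀ (mul_ne_zero hφ'.1 hφ'.2), C_1]
    rw [← C_mul] at hD'
    linear_combination Polynomial.C (φ vU * φ vV)⁻¹ * hD' + hu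
  · intro L _ _ φ r _ hr
    refine exists_ext φ r fun P hP => ?_
    have h0 : aeval zK (P.map ιk) = 0 := by rw [← heval, hP, map_zero]
    have hmod : (P %ₘ g).map ιk = 0 := by
      rw [map_modByMonic _ hgm, hg]
      exact (modByMonic_eq_zero_iff_dvd hGm).2 (minpoly.dvd k zK h0)
    rw [← modByMonic_add_div P g, eval₂_add, eval₂_mul, hr, zero_mul, add_zero, eval₂_eq_eval_map,
      hzero _ hmod L φ, eval_zero]
  · intro L _ χ χ' hχ hcomp hθθ
    have hv' : ∀ x, χ (algebraMap A B (vs x)) ≠ 0 := fun x h0 => hχ (by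
      simp only [a, map_mul, map_prod, Finset.prod_eq_zero (f := fun x => χ (algebraMap A B (vs x))) (Finset.mem_univ x) h0,
        mul_zero])
    have hP : ∀ P : A[X], χ (aeval θ P) = χ' (aeval θ P) := fun P => by
      rw [aeval_def, hom_eval₂, hom_eval₂, hcomp, hθθ]
    have hgen : ∀ x : S, χ x = χ' x := fun x => by
      refine eq_of_pow_expChar j hj q χ (ns x) (mul_left_cancel₀ (hv' x) ?_)
      rw [← map_pow, ← map_mul, hPs, hP, ← hPs, map_mul, map_pow, ← RingHom.comp_apply χ', ← hcomp]
      rfl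
    refine RingHom.ext fun b => ?_
    have hb : b ∈ Submodule.span A (S : Set B) := hS ▸ Submodule.mem_top
    induction hb using Submodule.span_induction with
    | mem x hx => exact hgen ⟨x, hx⟩
    | zero => rw [map_zero, map_zero]
    | add x y _ _ hx hy => rw [map_add, map_add, hx, hy]
    | smul c x _ hx =>
      rw [Algebra.smul_def, map_mul, map_mul, hx, ← RingHom.comp_apply χ, hcomp]
      rfl

end Groth.L23.CohProp
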