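import Groth.Agent.L23.CohProp.Milnor
import Groth.Agent.L23.CohProp.Core

/-! # Pieces from proper flat models with normal geometric fibres -/

universe u

open CategoryTheory CategoryTheory.Limits AlgebraicGeometry TopologicalSpace IsLocalRing

set_option autoImplicit false
set_option maxHeartbeats 800000
set_option maxSynthPendingDepth 3
set_option backward.isDefEq.respectTransparency.types false
set_option linter.style.haveILetI false
set_option linter.unusedSectionVars false
set_option linter.unusedVariables false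

noncomputable section

namespace Groth.L23.CohProp

open Groth.L27.BigSets
open Groth.L23.LocAcycSets (Basis)

variable {X Y S : Scheme.{u}} {f : X ⟶ Y} {b : Y ⟶ S}

/-- The base change of an open of `N` over `X` as an open of the base change of `N`. -/
theorem exists_openImmersion_base {N Z : Scheme.{u}} (π : N ⟶ Y) (j : Z ⟶ N) [IsOpenImmersion j] (q : Z ⟶ X)
    (hq : q ≫ f = j ≫ π) {A T : Scheme.{u}} {t : T ⟶ X} {τ : T ⟶ A} {η : A ⟶ Y} (h : IsPullback t τ f η) :
    ∃ k : pullback t q ⟶ pullback π η, IsOpenImmersion k ∧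
      k ≫ pullback.fst π η = pullback.snd t q ≫ j ∧ k ≫ pullback.snd π η = pullback.fst t q ≫ τ ∧
      Set.range k = pullback.fst π η ⁻¹' Set.range j := by
  have e : (pullback.snd t q ≫ j) ≫ π = (pullback.fst t q ≫ τ) ≫ η := by
    rw [Category.assoc, ← hq, ← Category.assoc, ← pullback.condition, Category.assoc, h.w, Category.assoc]
  let k : pullback t q ⟶ pullback π η := pullback.lift (pullback.snd t q ≫ j) (pullback.fst t q ≫ τ) e
  have h1 : k ≫ pullback.fst π η = pullback.snd t q ≫ j := pullback.lift_fst _ _ _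
  have h2 : k ≫ pullback.snd π η = pullback.fst t q ≫ τ := pullback.lift_snd _ _ _
  have hp : IsPullback k (pullback.snd t q) (pullback.fst π η) j := by
    refine IsPullback.of_right (h₁₂ := pullback.snd π η) (v₁₃ := η) (h₂₂ := π) ?_ h1
      (IsPullback.of_hasPullback π η).flip
    rw [h2, ← hq]
    exact (IsPullback.of_hasPullback t q).paste_horiz h.flip
  haveI : IsOpenImmersion k := MorphismProperty.of_isPullback (P := @IsOpenImmersion) hp.flip inferInstance
  refine ⟨k, inferInstance, h1, h2, ?_⟩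
  refine Set.Subset.antisymm ?_ fun x hx => ?_
  · rintro _ ⟨z, rfl⟩
    exact ⟨pullback.snd t q z, by rw [← Scheme.Hom.comp_apply, ← h1, Scheme.Hom.comp_apply]⟩
  · obtain ⟨z, hz⟩ := hx
    obtain ⟨w, hw, -⟩ := Scheme.exists_preimage_of_isPullback hp x z hz.symm
    exact ⟨w, hw⟩

/-- An open immersion of a part containing an open with unique extensions does not change locally constant
functions. -/
theorem bijective_lcMap_of_ext {A B : Scheme.{u}} (k : A ⟶ B) [IsOpenImmersion k] (V : B.Opens)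
    (hV : (V : Set B) ⊆ Set.range k) (hgen : ∀ m : B, ∃ v ∈ (V : Set B), v ⤳ m) (hext : Ext (V : Set B))
    (M : Type (u + 1)) : Function.Bijective (lcMap k : LocallyConstant B M → LocallyConstant A M) := by
  refine ⟨fun c d h => res_injective hgen M (LocallyConstant.ext fun v => ?_), fun c => ?_⟩
  · obtain ⟨z, hz⟩ := hV v.2
    rw [res_apply, res_apply, ← hz]
    exact DFunLike.congr_fun h z
  have hr : Set.range V.ι ⊆ Set.range k := by rw [Scheme.Opens.range_ι]; exact hV
  let e := IsOpenImmersion.lift k V.ι hr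
  obtain ⟨d, hd⟩ := (hext M).2 (lcMap e c)
  refine ⟨d, LocallyConstant.ext fun z => ?_⟩
  obtain ⟨v, hv, hvz⟩ := hgen (k z)
  obtain ⟨z₁, rfl⟩ := hV hv
  have hz₁ : z₁ ⤳ z := k.isEmbedding.isInducing.specializes_iff.1 hvz
  have h1 : d (k z₁) = c z₁ := by
    refine (DFunLike.congr_fun hd ⟨k z₁, hv⟩).trans (congrArg c ?_)
    refine k.isEmbedding.injective ?_
    exact (Scheme.Hom.comp_apply e k _).symm.trans
      (congrArg (fun m : (V : Scheme.{u}) ⟶ B => m ⟨k z₁, hv⟩) (IsOpenImmersion.lift_fac _ _ hr))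
  have h2 : d (k z₁) = d (k z) :=
    (hvz.mem_open (d.isLocallyConstant.isOpen_fiber (d (k z))) rfl :)
  have h3 : c z₁ = c z := (hz₁.mem_open (c.isLocallyConstant.isOpen_fiber (c z)) rfl :)
  exact (h2.symm.trans h1).trans h3

variable {F : EtDesc.Sh X} {U : S.Opens} {N S₁ Z : Scheme.{u}} (a : N ⟶ S₁) [Flat a]
  [LocallyOfFinitePresentation a] [QuasiSeparatedSpace N] (hn : NormFib a) (s : S₁ ⟶ S) (π : N ⟶ Y)
  (hw : π ≫ b = a ≫ s) (j : Z ⟶ N) [IsOpenImmersion j] (q : Z ⟶ X) (hq : q ≫ f = j ≫ π) (W : Z.Opens)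
  (hWc : IsCompact (W : Set Z)) (hd : ∀ w : N, w ∈ closure (j '' (W : Set Z) ∩ {y | a y = a w}))

include hn hWc hd in
theorem milnor_image {N' S' Q : Scheme.{u}} (ν : N' ⟶ N) (a' : N' ⟶ S') (p : S' ⟶ S₁) (h : IsPullback ν a' a p)
    (μ : Q ⟶ N') [WeaklyEtale μ] : Milnor ((μ ≫ ν) ⁻¹' ((j ''ᵁ W : N.Opens) : Set N)) :=
  milnor_of_normFib a hn (j ''ᵁ W) (hWc.image j.continuous) hd ν a' p h μ

include hn hWc hd in
theorem ext_of_weaklyEtale' {Q : Scheme.{u}} [IsAffine Q] (μ : Q ⟶ Z) [WeaklyEtale μ] :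
    Ext (↑(μ ⁻¹ᵁ W) : Set Q) := by
  haveI : QuasiSeparatedSpace Z := quasiSeparatedSpace_of_quasiSeparated j
  haveI : QuasiCompact μ := quasiCompact_of_compactSpace _
  have h := milnor_image a hn j W hWc hd (𝟙 N) a (𝟙 S₁) (IsPullback.of_horiz_isIso ⟨by simp⟩) (μ ≫ j)
  have e : ((μ ≫ j) ≫ 𝟙 N) ⁻¹' ((j ''ᵁ W : N.Opens) : Set N) = (↑(μ ⁻¹ᵁ W) : Set Q) := by
    rw [Category.comp_id, Scheme.Hom.comp_base, TopCat.coe_comp, Set.preimage_comp]
    exact congrArg (⇑μ ⁻¹' ·) (j.isEmbedding.injective.preimage_image _)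
  rw [e] at h
  exact h.ext (μ ⁻¹ᵁ W).2 (μ.isCompact_preimage hWc)

include hq hWc in
theorem sand_core (R R' : Type u) [CommRing R] [CommRing R'] (ψ : R →+* R')
    (η : Spec (CommRingCat.of R) ⟶ Y) {T' : Scheme.{u}} (ρ : T' ⟶ pullback f η)
    (π' : T' ⟶ Spec (CommRingCat.of R')) (hρ : IsPullback ρ π' (pullback.snd f η) (Spec.map (CommRingCat.ofHom ψ)))
    [CompactSpace ↥(pullback π η)] [QuasiSeparatedSpace ↥(pullback π η)]
    [CompactSpace ↥(pullback π (Spec.map (CommRingCat.ofHom ψ) ≫ η))]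
    [QuasiSeparatedSpace ↥(pullback π (Spec.map (CommRingCat.ofHom ψ) ≫ η))]
    (hV : Milnor (pullback.fst π η ⁻¹' ((j ''ᵁ W : N.Opens) : Set N)))
    (hV' : Milnor (pullback.fst π (Spec.map (CommRingCat.ofHom ψ) ≫ η) ⁻¹' ((j ''ᵁ W : N.Opens) : Set N)))
    (hbN₀ : ∀ ρN : pullback π (Spec.map (CommRingCat.ofHom ψ) ≫ η) ⟶ pullback π η,
      ρN ≫ pullback.fst π η = pullback.fst π (Spec.map (CommRingCat.ofHom ψ) ≫ η) →
      IsPullback ρN (pullback.snd π (Spec.map (CommRingCat.ofHom ψ) ≫ η)) (pullback.snd π η)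
        (Spec.map (CommRingCat.ofHom ψ)) →
      ∀ M : Type (u + 1), Function.Bijective (lcMap ρN : LocallyConstant ↥(pullback π η) M → _)) :
    SandOk q W (pullback.fst f η) ρ := by
  let σ := Spec.map (CommRingCat.ofHom ψ)
  let NR := pullback π η
  let NR' := pullback π (σ ≫ η)
  let ρN : NR' ⟶ NR := pullback.lift (pullback.fst π (σ ≫ η)) (pullback.snd π (σ ≫ η) ≫ σ)
    (pullback.condition.trans (Category.assoc _ _ _).symm)
  have hρN : IsPullback ρN (pullback.snd π (σ ≫ η)) (pullback.snd π η) σ := by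
    refine IsPullback.of_right (h₁₂ := pullback.fst π η) (v₁₃ := π) (h₂₂ := η) ?_ (pullback.lift_snd _ _ _)
      (IsPullback.of_hasPullback π η)
    rw [pullback.lift_fst]
    exact IsPullback.of_hasPullback π (σ ≫ η)
  let V : NR.Opens := pullback.fst π η ⁻¹ᵁ (j ''ᵁ W)
  let V' : NR'.Opens := pullback.fst π (σ ≫ η) ⁻¹ᵁ (j ''ᵁ W)
  replace hV : Milnor (V : Set NR) := hV
  replace hV' : Milnor (V' : Set NR') := hV'
  have hVc : IsCompact (V : Set NR) := by
    haveI : QuasiCompact (pullback.fst π η) := quasiCompact_of_compactSpace _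
    exact (pullback.fst π η).isCompact_preimage (hWc.image j.continuous)
  have hVc' : IsCompact (V' : Set NR') := by
    haveI : QuasiCompact (pullback.fst π (σ ≫ η)) := quasiCompact_of_compactSpace _
    exact (pullback.fst π (σ ≫ η)).isCompact_preimage (hWc.image j.continuous)
  have hextV : Ext (V : Set NR) := hV.ext V.2 hVc
  have hextV' : Ext (V' : Set NR') := hV'.ext V'.2 hVc'
  obtain ⟨k, _, hk1, hk2, hkr⟩ := exists_openImmersion_base (f := f) π j q hq (IsPullback.of_hasPullback f η)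
  obtain ⟨k', _, hk1', hk2', hkr'⟩ := exists_openImmersion_base (f := f) π j q hq
    (hρ.paste_horiz (IsPullback.of_hasPullback f η))
  have hsubV : (V : Set NR) ⊆ Set.range k := by
    rw [hkr]; exact Set.preimage_mono (Set.image_subset_range _ _)
  have hsubV' : (V' : Set NR') ⊆ Set.range k' := by
    rw [hkr']; exact Set.preimage_mono (Set.image_subset_range _ _)
  let ρZ := zMap q (pullback.fst f η) (ρ ≫ pullback.fst f η) ρ rfl
  have hcomm : k' ≫ ρN = ρZ ≫ k := by
    refine pullback.hom_ext ?_ ?_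
    · rw [Category.assoc, pullback.lift_fst, hk1', Category.assoc, hk1, ← Category.assoc, zMap_snd]
    · rw [Category.assoc, pullback.lift_snd, ← Category.assoc, hk2', Category.assoc, Category.assoc, hk2,
        ← Category.assoc ρZ, zMap_fst, Category.assoc, ← hρ.w]
  have hbN : ∀ M : Type (u + 1), Function.Bijective (lcMap ρN : LocallyConstant NR M → LocallyConstant NR' M) :=
    hbN₀ ρN (pullback.lift_fst _ _ _) hρN
  refine ⟨fun M => ?_, fun A hA hne => ?_⟩
  · have h1 := bijective_lcMap_of_ext k V hsubV hV.exists_generization hextV M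
    have h2 := bijective_lcMap_of_ext k' V' hsubV' hV'.exists_generization hextV' M
    refine (Function.Bijective.of_comp_iff _ h1).1 ?_
    have e : (lcMap ρZ ∘ lcMap k : LocallyConstant NR M → _) = lcMap k' ∘ lcMap ρN := funext fun c => by
      simp only [Function.comp_apply, lcMap_comp, hcomm]
    rw [e]
    exact h2.comp (hbN M)
  classical
  by_contra hcon
  push Not at hcon
  let WT := pullback.snd (pullback.fst f η) q ⁻¹ᵁ W
  have hrV : Set.range V.ι ⊆ Set.range (WT.ι ≫ k) := by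
    rw [Scheme.Opens.range_ι]
    intro v hv
    obtain ⟨z, rfl⟩ := hsubV hv
    refine ⟨⟨z, ?_⟩, Scheme.Hom.comp_apply _ _ _⟩
    show pullback.snd (pullback.fst f η) q z ∈ W
    obtain ⟨w, hw', hwe⟩ := (show pullback.fst π η (k z) ∈ j '' (W : Set Z) from hv)
    rw [← Scheme.Hom.comp_apply, hk1, Scheme.Hom.comp_apply] at hwe
    exact j.isEmbedding.injective hwe ▸ hw'
  let eW := IsOpenImmersion.lift (WT.ι ≫ k) V.ι hrV
  let ind : LocallyConstant ↥WT (ULift.{u + 1} Bool) :=
    ⟨fun z => ⟨if z ∈ A then true else false⟩, (IsLocallyConstant.iff_exists_open _).2 fun z => by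
      by_cases hz : z ∈ A
      · exact ⟨A, hA.2, hz, fun y hy => by simp [hy, hz]⟩
      · exact ⟨Aᶜ, hA.1.isOpen_compl, hz, fun y (hy : y ∉ A) => by simp [hy, hz]⟩⟩
  obtain ⟨c, hc⟩ := (hextV _).2 (lcMap eW ind)
  have hcz : ∀ (z : ↥WT) (hz : k (WT.ι z) ∈ V), c (k (WT.ι z)) = ind z := fun z hz => by
    refine (DFunLike.congr_fun hc ⟨_, hz⟩).trans (congrArg ind ?_)
    refine (WT.ι ≫ k).isEmbedding.injective ?_
    refine ((Scheme.Hom.comp_apply eW (WT.ι ≫ k) _).symm.trans
      (congrArg (fun m : (V : Scheme.{u}) ⟶ NR => m ⟨k (WT.ι z), hz⟩) (IsOpenImmersion.lift_fac _ _ hrV))).trans ?_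
    exact (Scheme.Hom.comp_apply WT.ι k z).symm
  have hc0 : lcMap ρN c = LocallyConstant.const _ ⟨false⟩ := by
    refine (hextV' _).1 (LocallyConstant.ext fun v => ?_)
    obtain ⟨z', hz'⟩ := hsubV' v.2
    show c (ρN v.1) = _
    rw [← hz', ← Scheme.Hom.comp_apply, hcomm, Scheme.Hom.comp_apply]
    have hz'W : ρZ z' ∈ WT := by
      show pullback.snd (pullback.fst f η) q (ρZ z') ∈ W
      rw [← Scheme.Hom.comp_apply, zMap_snd]
      obtain ⟨w, hw', hwe⟩ := (show pullback.fst π (σ ≫ η) v.1 ∈ j '' (W : Set Z) from v.2)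
      rw [← hz', ← Scheme.Hom.comp_apply, hk1', Scheme.Hom.comp_apply] at hwe
      exact j.isEmbedding.injective hwe ▸ hw'
    have hkV : k (WT.ι ⟨ρZ z', hz'W⟩) ∈ V := by
      show pullback.fst π η (k (ρZ z')) ∈ j '' (W : Set Z)
      rw [← Scheme.Hom.comp_apply, hk1, Scheme.Hom.comp_apply]
      exact ⟨_, hz'W, rfl⟩
    refine (hcz ⟨ρZ z', hz'W⟩ hkV).trans ?_
    show (⟨if (⟨ρZ z', hz'W⟩ : ↥WT) ∈ A then true else false⟩ : ULift.{u + 1} Bool) = ⟨false⟩
    rw [if_neg (hcon z' hz'W)]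
  have hc1 : c = LocallyConstant.const _ ⟨false⟩ := (hbN _).1 hc0
  obtain ⟨z, hz⟩ := hne
  have hkz : k (WT.ι z) ∈ V := by
    show pullback.fst π η (k (WT.ι z)) ∈ j '' (W : Set Z)
    rw [← Scheme.Hom.comp_apply, hk1, Scheme.Hom.comp_apply]
    exact ⟨_, z.2, rfl⟩
  have := hcz z hkz
  rw [hc1] at this
  simp [ind, hz] at this


include hn hw hq hWc hd in
theorem sand' (hπ : IsProper (π ∣_ b ⁻¹ᵁ U)) (R R' : Type u) [CommRing R] [CommRing R'] (ψ : R →+* R')
    (η : Spec (CommRingCat.of R) ⟶ Y) (hsq : SqOk b U R R' ψ η) {T' : Scheme.{u}} (ρ : T' ⟶ pullback f η)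
    (π' : T' ⟶ Spec (CommRingCat.of R')) (hρ : IsPullback ρ π' (pullback.snd f η) (Spec.map (CommRingCat.ofHom ψ))) :
    SandOk q W (pullback.fst f η) ρ := by
  obtain ⟨hR, hR', hk, hk', hloc, hη, S', Y', p, g, q', η', hp, hsquare, hη', hcomp⟩ := hsq
  haveI := hR; haveI := hR'; haveI := hk; haveI := hk'; haveI := hloc; haveI := hη; haveI := hη'
  let σ := Spec.map (CommRingCat.ofHom ψ)
  -- the base lands over `U`
  have hcl : b (η (closedPoint R)) ∈ U := by
    rw [← IsLocalRing.comap_closedPoint ψ]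
    show b (η (σ (closedPoint R'))) ∈ U
    rw [← Scheme.Hom.comp_apply σ, ← hcomp, Scheme.Hom.comp_apply, ← Scheme.Hom.comp_apply g, hsquare.w,
      Scheme.Hom.comp_apply]
    exact hp _
  have hηU : Set.range η ⊆ Set.range (b ⁻¹ᵁ U).ι := by
    rw [Scheme.Opens.range_ι]
    rintro _ ⟨x, rfl⟩
    exact (((IsLocalRing.specializes_closedPoint x).map η.continuous).map b.continuous).mem_open U.2 hcl
  let η₀ := IsOpenImmersion.lift (b ⁻¹ᵁ U).ι η hηU
  have hη₀ : η₀ ≫ (b ⁻¹ᵁ U).ι = η := IsOpenImmersion.lift_fac _ _ hηU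
  let NR := pullback π η
  haveI : IsProper (pullback.snd π η) := by
    have hr : Set.range (pullback.fst π η) ⊆ Set.range (π ⁻¹ᵁ b ⁻¹ᵁ U).ι := by
      rw [Scheme.Opens.range_ι]
      rintro _ ⟨x, rfl⟩
      show π (pullback.fst π η x) ∈ b ⁻¹ᵁ U
      rw [← Scheme.Hom.comp_apply, pullback.condition, Scheme.Hom.comp_apply]
      exact (((IsLocalRing.specializes_closedPoint _).map η.continuous).map b.continuous).mem_open U.2 hcl
    refine MorphismProperty.of_isPullback (P := @IsProper)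
      (f' := IsOpenImmersion.lift (π ⁻¹ᵁ b ⁻¹ᵁ U).ι (pullback.fst π η) hr) (f := η₀) ?_ hπ
    refine IsPullback.of_right (h₁₂ := (π ⁻¹ᵁ b ⁻¹ᵁ U).ι) (v₁₃ := π) (h₂₂ := (b ⁻¹ᵁ U).ι) ?_ ?_
      (isPullback_morphismRestrict π (b ⁻¹ᵁ U)).flip
    · rw [IsOpenImmersion.lift_fac, hη₀]
      exact IsPullback.of_hasPullback π η
    · rw [← cancel_mono (b ⁻¹ᵁ U).ι, Category.assoc, morphismRestrict_ι, ← Category.assoc, IsOpenImmersion.lift_fac,
        pullback.condition, Category.assoc, hη₀]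
  let NR' := pullback π (σ ≫ η)
  let ρN : NR' ⟶ NR := pullback.lift (pullback.fst π (σ ≫ η)) (pullback.snd π (σ ≫ η) ≫ σ)
    (pullback.condition.trans (Category.assoc _ _ _).symm)
  have hρN : IsPullback ρN (pullback.snd π (σ ≫ η)) (pullback.snd π η) σ := by
    refine IsPullback.of_right (h₁₂ := pullback.fst π η) (v₁₃ := π) (h₂₂ := η) ?_ (pullback.lift_snd _ _ _)
      (IsPullback.of_hasPullback π η)
    rw [pullback.lift_fst]
    exact IsPullback.of_hasPullback π (σ ≫ η)
  haveI : IsProper (pullback.snd π (σ ≫ η)) := MorphismProperty.of_isPullback hρN inferInstance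
  haveI : CompactSpace NR := QuasiCompact.compactSpace_of_compactSpace (pullback.snd π η)
  haveI : QuasiSeparatedSpace NR := quasiSeparatedSpace_of_quasiSeparated (pullback.snd π η)
  haveI : CompactSpace NR' := QuasiCompact.compactSpace_of_compactSpace (pullback.snd π (σ ≫ η))
  haveI : QuasiSeparatedSpace NR' := quasiSeparatedSpace_of_quasiSeparated (pullback.snd π (σ ≫ η))
  haveI : WeaklyEtale (pullback.fst π η) := MorphismProperty.pullback_fst _ _ hη
  let V : NR.Opens := pullback.fst π η ⁻¹ᵁ (j ''ᵁ W)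
  let V' : NR'.Opens := pullback.fst π (σ ≫ η) ⁻¹ᵁ (j ''ᵁ W)
  have hV : Milnor (V : Set NR) := by
    have h := milnor_image a hn j W hWc hd (𝟙 N) a (𝟙 S₁) (IsPullback.of_horiz_isIso ⟨by simp⟩) (pullback.fst π η)
    rwa [Category.comp_id] at h
  have hV' : Milnor (V' : Set NR') := by
    let NY := pullback π g
    let a'' : NY ⟶ pullback s p := pullback.lift (pullback.fst π g ≫ a) (pullback.snd π g ≫ q') (by
      rw [Category.assoc, ← hw, ← Category.assoc, pullback.condition, Category.assoc, hsquare.w, Category.assoc])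
    have hNY : IsPullback (pullback.fst π g) a'' a (pullback.fst s p) := by
      refine IsPullback.of_bot (v₂₁ := pullback.snd s p) (v₂₂ := s) ?_ (pullback.lift_fst _ _ _).symm
        (IsPullback.of_hasPullback s p)
      rw [pullback.lift_snd, ← hw]
      exact (IsPullback.of_hasPullback π g).paste_vert hsquare
    let μ : NR' ⟶ NY := pullback.lift (pullback.fst π (σ ≫ η)) (pullback.snd π (σ ≫ η) ≫ η') (by
      rw [Category.assoc, hcomp]; exact pullback.condition)
    have hμ : IsPullback (pullback.snd π (σ ≫ η)) μ η' (pullback.snd π g) := by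
      refine IsPullback.of_bot (v₂₁ := pullback.fst π g) (v₂₂ := g) (h₃₁ := π) ?_ (pullback.lift_snd _ _ _).symm
        (IsPullback.of_hasPullback π g).flip
      rw [pullback.lift_fst, hcomp]
      exact (IsPullback.of_hasPullback π (σ ≫ η)).flip
    haveI : WeaklyEtale μ := MorphismProperty.of_isPullback (P := @WeaklyEtale) hμ hη'
    have h := milnor_image a hn j W hWc hd (pullback.fst π g) a'' (pullback.fst s p) hNY μ
    rwa [show μ ≫ pullback.fst π g = pullback.fst π (σ ≫ η) from pullback.lift_fst _ _ _] at h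
  exact sand_core π j q hq W hWc R R' ψ η ρ π' hρ hV hV' fun ρN₀ _ h M =>
    bijective_lcMap_strictLocal ψ (pullback.snd π η) (pullback.snd π (σ ≫ η)) ρN₀ h M

/-- The piece of a proper flat model with normal geometric fibres. -/
def mkPiece (hπ : IsProper (π ∣_ b ⁻¹ᵁ U)) (M : Type (u + 1)) [Finite M] (β : Basis F (Over.mk (W.ι ≫ q)) M)
    (hfin : ∀ {T : Scheme.{u}} (t : T ⟶ X), Lands (f ≫ b) U t → IsFinite (pullback.fst t q)) :
    Piece f b F U where
  Z := Z
  q := q
  W := W
  M := M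
  finM := inferInstance
  β := β
  finite := hfin
  ext_of_weaklyEtale μ _ _ := ext_of_weaklyEtale' a hn j W hWc hd μ
  sand R R' _ _ ψ η h _ ρ π' hρ := sand' a hn s π hw j q hq W hWc hd hπ R R' ψ η h ρ π' hρ

end Groth.L23.CohProp
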