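import Groth.Agent.L23.CohProp.RootData
import Groth.Agent.L05.Hensel.Product
import Groth.Agent.L27.EtSite.Points
import Mathlib.RingTheory.TensorProduct.Finite
import Mathlib.AlgebraicGeometry.Morphisms.ClosedImmersion

/-! # Splitting of finite extensions over strictly henselian rings -/

universe u

open CategoryTheory CategoryTheory.Limits AlgebraicGeometry IsLocalRing Polynomial
open scoped TensorProduct

set_option autoImplicit false
set_option maxHeartbeats 800000
set_option synthInstance.maxHeartbeats 400000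
set_option backward.isDefEq.respectTransparency.types false
set_option linter.style.haveILetI false
set_option linter.unusedSectionVars false

noncomputable section

namespace Groth.L23.CohProp

namespace RootData

attribute [local instance] Algebra.TensorProduct.rightAlgebra

variable {A B : Type u} [CommRing A] [CommRing B] [Algebra A B] (D : RootData A B)
  (R : Type u) [CommRing R] [Algebra A R]

/-- The ideal of the piece of a root. -/
def pieceIdeal (r : R) : Ideal (B ⊗[A] R) :=
  Ideal.span {D.θ ⊗ₜ[A] (1 : R) - (1 : B) ⊗ₜ[A] r}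

/-- The piece of a root. -/
abbrev Piece (r : R) : Type u := (B ⊗[A] R) ⧸ D.pieceIdeal R r

theorem piece_hom_θ {r : R} {L : Type u} [Field L] (χ : D.Piece R r →+* L) :
    χ (Ideal.Quotient.mk _ (D.θ ⊗ₜ[A] (1 : R))) = χ (algebraMap R (D.Piece R r) r) := by
  refine congrArg χ ?_
  show Ideal.Quotient.mk _ (D.θ ⊗ₜ[A] (1 : R)) = Ideal.Quotient.mk _ ((1 : B) ⊗ₜ[A] r)
  exact Ideal.Quotient.eq.2 (Ideal.subset_span rfl)

theorem eval_hom {L : Type u} [Field L] (χ : (B ⊗[A] R) →+* L) :
    D.g.eval₂ (χ.comp (algebraMap A (B ⊗[A] R))) (χ (D.θ ⊗ₜ[A] (1 : R))) = 0 := by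
  rw [show χ.comp (algebraMap A (B ⊗[A] R)) = (χ.comp Algebra.TensorProduct.includeLeftRingHom).comp (algebraMap A B)
    from rfl]
  refine (hom_eval₂ D.g (algebraMap A B) (χ.comp Algebra.TensorProduct.includeLeftRingHom) D.θ).symm.trans ?_
  rw [← aeval_def, D.root, map_zero]

variable {R}

/-- Homomorphisms of a piece are determined on the base. -/
theorem piece_hom_ext (ha : IsUnit (algebraMap A R D.a)) {r : R} {L : Type u} [Field L]
    (χ χ' : D.Piece R r →+* L) (h : χ.comp (algebraMap R (D.Piece R r)) = χ'.comp (algebraMap R (D.Piece R r))) :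
    χ = χ' := by
  let m : (B ⊗[A] R) →+* D.Piece R r := Ideal.Quotient.mk _
  let iB : B →+* (B ⊗[A] R) := Algebra.TensorProduct.includeLeftRingHom
  have hR : ∀ x : R, χ (m ((1 : B) ⊗ₜ x)) = χ' (m ((1 : B) ⊗ₜ x)) := fun x => DFunLike.congr_fun h x
  have hAR : ∀ x : A, iB (algebraMap A B x) = (1 : B) ⊗ₜ[A] algebraMap A R x := fun x => by
    show algebraMap A B x ⊗ₜ[A] (1 : R) = _
    rw [Algebra.algebraMap_eq_smul_one, TensorProduct.smul_tmul, ← Algebra.algebraMap_eq_smul_one]
  have hB : (χ.comp m).comp iB = (χ'.comp m).comp iB := by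
    refine D.uniq L _ _ ?_ (RingHom.ext fun x => ?_) ?_
    · show χ (m (iB (algebraMap A B D.a))) ≠ 0
      rw [hAR]
      exact ((ha.map (algebraMap R (D.Piece R r))).map χ).ne_zero
    · show χ (m (iB (algebraMap A B x))) = χ' (m (iB (algebraMap A B x)))
      rw [hAR]
      exact hR _
    · exact (D.piece_hom_θ R χ).trans ((DFunLike.congr_fun h r).trans (D.piece_hom_θ R χ').symm)
  refine Ideal.Quotient.ringHom_ext (RingHom.ext fun x => ?_)
  induction x using TensorProduct.induction_on with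
  | zero => rw [map_zero, map_zero]
  | add x y hx hy => rw [map_add, map_add, hx, hy]
  | tmul b x =>
    rw [show b ⊗ₜ[A] x = iB b * ((1 : B) ⊗ₜ[A] x) from by
      show b ⊗ₜ[A] x = (b ⊗ₜ[A] (1 : R)) * ((1 : B) ⊗ₜ[A] x)
      rw [Algebra.TensorProduct.tmul_mul_tmul, mul_one, one_mul]]
    show χ (m (_ * _)) = χ' (m (_ * _))
    rw [map_mul, map_mul, map_mul, hR]
    exact congrArg (· * _) (DFunLike.congr_fun hB b)

/-- Homomorphisms to algebraically closed fields extend to pieces. -/
theorem exists_piece_hom (ha : IsUnit (algebraMap A R D.a)) {r : R} (hr : D.g.eval₂ (algebraMap A R) r = 0)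
    (L : Type u) [Field L] [IsAlgClosed L] (φ : R →+* L) :
    ∃ χ : D.Piece R r →+* L, χ.comp (algebraMap R (D.Piece R r)) = φ := by
  obtain ⟨χB, h1, h2⟩ := D.ext L (φ.comp (algebraMap A R)) (φ r) (ha.map φ).ne_zero
    (by rw [← hom_eval₂, hr, map_zero])
  letI : Algebra A L := (φ.comp (algebraMap A R)).toAlgebra
  let fB : B →ₐ[A] L := { χB with commutes' := fun x => DFunLike.congr_fun h1 x }
  let fR : R →ₐ[A] L := { φ with commutes' := fun _ => rfl }
  let χ₀ : (B ⊗[A] R) →ₐ[A] L := Algebra.TensorProduct.productMap fB fR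
  refine ⟨Ideal.Quotient.lift _ χ₀.toRingHom (fun x hx => ?_), RingHom.ext fun x => ?_⟩
  · obtain ⟨y, rfl⟩ := Ideal.mem_span_singleton'.1 hx
    rw [map_mul]
    refine mul_eq_zero_of_right _ ?_
    show χ₀ (D.θ ⊗ₜ[A] (1 : R) - (1 : B) ⊗ₜ[A] r) = 0
    rw [map_sub, sub_eq_zero]
    show fB D.θ * fR 1 = fB 1 * fR r
    rw [map_one, map_one, mul_one, one_mul]
    exact h2
  · show χ₀ ((1 : B) ⊗ₜ[A] x) = φ x
    show fB 1 * fR x = φ x
    rw [map_one, one_mul]
    rfl

variable [HenselianLocalRing R]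

theorem isLocalRing_piece [Module.Finite A B] [IsSepClosed (ResidueField R)] (ha : IsUnit (algebraMap A R D.a))
    {r : R} (hr : D.g.eval₂ (algebraMap A R) r = 0) : IsLocalRing (D.Piece R r) := by
  let k := ResidueField R
  let Ω := AlgebraicClosure k
  obtain ⟨χ, hχ⟩ := D.exists_piece_hom ha hr Ω ((algebraMap k Ω).comp (residue R))
  haveI : (RingHom.ker χ).IsPrime := RingHom.ker_isPrime χ
  haveI : Module.Finite R (B ⊗[A] R) :=
    Module.Finite.equiv (Algebra.TensorProduct.commRight A R B).toLinearEquiv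
  haveI : Module.Finite R (D.Piece R r) := Module.Finite.of_surjective
    (Ideal.Quotient.mkₐ R (D.pieceIdeal R r)).toLinearMap (Ideal.Quotient.mk_surjective)
  haveI : Nontrivial (D.Piece R r) := χ.domain_nontrivial
  obtain ⟨M₀, hM₀⟩ := Ideal.exists_maximal (D.Piece R r)
  refine IsLocalRing.of_unique_max_ideal ⟨M₀, hM₀, fun M hM => ?_⟩
  have key : ∀ M : Ideal (D.Piece R r), M.IsMaximal → M = RingHom.ker χ := fun M hM => by
    haveI := hM
    letI : Field (D.Piece R r ⧸ M) := Ideal.Quotient.field M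
    have hc : M.comap (algebraMap R (D.Piece R r)) = maximalIdeal R :=
      IsLocalRing.eq_maximalIdeal (Ideal.isMaximal_comap_of_isIntegral_of_isMaximal M)
    let i : k →+* D.Piece R r ⧸ M := Ideal.Quotient.lift _
      ((Ideal.Quotient.mk M).comp (algebraMap R (D.Piece R r)))
      fun x hx => Ideal.Quotient.eq_zero_iff_mem.2 (show x ∈ M.comap _ from hc ▸ hx)
    letI : Algebra k (D.Piece R r ⧸ M) := i.toAlgebra
    haveI : IsScalarTower R k (D.Piece R r ⧸ M) := IsScalarTower.of_algebraMap_eq fun _ => rfl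
    haveI : Module.Finite R (D.Piece R r ⧸ M) := Module.Finite.of_surjective
      (Ideal.Quotient.mkₐ R M).toLinearMap (Ideal.Quotient.mk_surjective)
    haveI : Module.Finite k (D.Piece R r ⧸ M) := Module.Finite.of_restrictScalars_finite R k _
    haveI : Algebra.IsAlgebraic k (D.Piece R r ⧸ M) := Algebra.IsAlgebraic.of_finite k _
    let e : (D.Piece R r ⧸ M) →ₐ[k] Ω := IsAlgClosed.lift
    have he : e.toRingHom.comp (Ideal.Quotient.mk M) = χ := by
      refine D.piece_hom_ext ha _ _ (RingHom.ext fun x => ?_)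
      show e (i (residue R x)) = _
      exact (e.commutes (residue R x)).trans (DFunLike.congr_fun hχ x).symm
    rw [← he, RingHom.ker_comp_of_injective _ e.toRingHom.injective, Ideal.mk_ker]
  rw [key M hM, key M₀ hM₀]

theorem finite_piece [Module.Finite A B] (r : R) : Module.Finite R (D.Piece R r) := by
  haveI : Module.Finite R (B ⊗[A] R) :=
    Module.Finite.equiv (Algebra.TensorProduct.commRight A R B).toLinearEquiv
  exact Module.Finite.of_surjective (Ideal.Quotient.mkₐ R (D.pieceIdeal R r)).toLinearMap Ideal.Quotient.mk_surjective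

theorem strict_piece [Module.Finite A B] [IsSepClosed (ResidueField R)] (ha : IsUnit (algebraMap A R D.a))
    {r : R} (hr : D.g.eval₂ (algebraMap A R) r = 0) :
    ∃ _ : HenselianLocalRing (D.Piece R r), IsSepClosed (ResidueField (D.Piece R r)) := by
  haveI := D.isLocalRing_piece ha hr
  haveI := D.finite_piece (R := R) r
  haveI : HenselianLocalRing (D.Piece R r) := L05.henselianLocalRing_of_finite (A := R) (D.Piece R r)
  haveI : IsLocalHom (algebraMap R (D.Piece R r)) :=
    (((IsLocalRing.local_hom_TFAE (algebraMap R (D.Piece R r))).out 0 4).mpr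
      (IsLocalRing.eq_maximalIdeal (Ideal.isMaximal_comap_of_isIntegral_of_isMaximal _)))
  haveI : Module.Finite (ResidueField R) (ResidueField (D.Piece R r)) := inferInstance
  haveI : Algebra.IsAlgebraic (ResidueField R) (ResidueField (D.Piece R r)) := Algebra.IsAlgebraic.of_finite _ _
  exact ⟨inferInstance, Algebra.IsAlgebraic.isSepClosed (F := ResidueField R)⟩

variable (R)

/-- The roots over a strictly henselian ring. -/
theorem exists_roots [IsSepClosed (ResidueField R)] (ha : IsUnit (algebraMap A R D.a)) :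
    ∃ (ι : Type u) (_ : Finite ι) (r : ι → R), (∀ i, D.g.eval₂ (algebraMap A R) (r i) = 0) ∧
      (∀ i j, i ≠ j → IsUnit (r i - r j)) ∧
      ∀ (L : Type u) [Field L] (φ : R →+* L) (x : L), D.g.eval₂ (φ.comp (algebraMap A R)) x = 0 → ∃ i, φ (r i) = x := by
  classical
  let gR := D.g.map (algebraMap A R)
  have hgR : gR.Monic := D.monic.map _
  let gk := gR.map (residue R)
  have hsep : gk.Separable := by
    show ((D.g.map (algebraMap A R)).map (residue R)).Separable
    rw [Polynomial.map_map]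
    exact D.sep _ _ (ha.map (residue R)).ne_zero
  have hne : gk ≠ 0 := (hgR.map _).ne_zero
  have hcard : gk.roots.toFinset.card = gk.natDegree := by
    rw [Multiset.toFinset_card_of_nodup (nodup_roots hsep)]
    exact (IsSepClosed.splits_of_separable gk hsep).natDegree_eq_card_roots.symm
  have hlift : ∀ x : {x // x ∈ gk.roots.toFinset}, ∃ a : R, gR.IsRoot a ∧ residue R a = x.1 := fun x => by
    obtain ⟨a₀, ha₀⟩ := residue_surjective x.1
    have hx : gk.IsRoot x.1 := (mem_roots hne).1 (Multiset.mem_toFinset.1 x.2)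
    obtain ⟨a, h1, h2⟩ := HenselianLocalRing.is_henselian gR hgR a₀ (by
        rw [← residue_eq_zero_iff, ← eval_map_apply, ha₀]; exact hx) (by
      rw [← residue_ne_zero_iff_isUnit, ← eval_map_apply, ← derivative_map, ha₀]
      exact fun h0 => hsep.eval₂_derivative_ne_zero (RingHom.id _) (by rw [eval₂_id]; exact hx) (by rwa [eval₂_id]))
    refine ⟨a, h1, ?_⟩
    rw [← ha₀, ← sub_eq_zero, ← map_sub, residue_eq_zero_iff]
    exact h2
  choose r hr hrx using hlift
  have hdiff : ∀ i j, i ≠ j → IsUnit (r i - r j) := fun i j hij => by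
    rw [← residue_ne_zero_iff_isUnit, map_sub, sub_ne_zero, hrx, hrx]
    exact fun h => hij (Subtype.ext h)
  refine ⟨_, inferInstance, r, fun i => by rw [eval₂_eq_eval_map]; exact hr i, hdiff, fun L _ φ x hx => ?_⟩
  by_contra hcon
  simp only [not_exists] at hcon
  let gL := gR.map φ
  have hgL : gL ≠ 0 := (hgR.map _).ne_zero
  have hinj : Function.Injective fun i => φ (r i) := fun i j hij => by
    by_contra hne'
    exact ((hdiff i j hne').map φ).ne_zero (by rw [map_sub, sub_eq_zero]; exact hij)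
  have hsub : insert x (Finset.univ.image fun i => φ (r i)) ⊆ gL.roots.toFinset := fun y hy => by
    rw [Multiset.mem_toFinset, mem_roots hgL]
    rcases Finset.mem_insert.1 hy with rfl | hy
    · show IsRoot ((D.g.map (algebraMap A R)).map φ) y
      rw [Polynomial.map_map, IsRoot, ← eval₂_eq_eval_map]
      exact hx
    · obtain ⟨i, -, rfl⟩ := Finset.mem_image.1 hy
      exact (hr i).map
  have h1 := (Finset.card_le_card hsub).trans ((Multiset.toFinset_card_le _).trans (card_roots' gL))
  rw [Finset.card_insert_of_notMem (by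
      simp only [Finset.mem_image, Finset.mem_univ, true_and, not_exists]; exact hcon),
    Finset.card_image_of_injective _ hinj, Finset.card_univ, Fintype.card_coe, hcard,
    hgR.natDegree_map φ, hgR.natDegree_map (residue R)] at h1
  omega

theorem mem_piece_range {r : R} (t : PrimeSpectrum (B ⊗[A] R)) :
    t ∈ Set.range (PrimeSpectrum.comap (Ideal.Quotient.mk (D.pieceIdeal R r))) ↔
      D.θ ⊗ₜ[A] (1 : R) - (1 : B) ⊗ₜ[A] r ∈ t.asIdeal := by
  rw [range_comap_of_surjective _ _ Ideal.Quotient.mk_surjective, Ideal.mk_ker, PrimeSpectrum.mem_zeroLocus]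
  exact ⟨fun h => h (Ideal.subset_span rfl), fun h => Ideal.span_le.2 (Set.singleton_subset_iff.2 h)⟩

theorem exists_mem_piece {ι' : Type u} (r : ι' → R)
    (hr : ∀ (L : Type u) [Field L] (φ : R →+* L) (x : L), D.g.eval₂ (φ.comp (algebraMap A R)) x = 0 → ∃ i, φ (r i) = x)
    (t : PrimeSpectrum (B ⊗[A] R)) : ∃ i, D.θ ⊗ₜ[A] (1 : R) - (1 : B) ⊗ₜ[A] r i ∈ t.asIdeal := by
  let L := t.asIdeal.ResidueField
  let χ : (B ⊗[A] R) →+* L := algebraMap _ L
  have h := D.eval_hom R χ
  rw [show χ.comp (algebraMap A (B ⊗[A] R)) =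
      (χ.comp Algebra.TensorProduct.includeRight.toRingHom).comp (algebraMap A R) from
    RingHom.ext fun a => congrArg χ (Algebra.TensorProduct.includeRight.commutes a).symm] at h
  obtain ⟨i, hi⟩ := hr L _ _ h
  refine ⟨i, ?_⟩
  rw [← t.asIdeal.algebraMap_residueField_eq_zero, map_sub, sub_eq_zero]
  exact hi.symm

end RootData

/-- Over strictly henselian rings landing in `U` the scheme decomposes into strictly henselian pieces with one
geometric point over each geometric point. -/
def Split {S₁ S : Scheme.{u}} (s : S₁ ⟶ S) (U : S.Opens) : Prop :=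
  ∀ (R : Type u) [CommRing R] [HenselianLocalRing R] [IsSepClosed (ResidueField R)]
    (e : Spec (CommRingCat.of R) ⟶ S), (∀ x, e x ∈ U) →
    ∃ (ι : Type u) (_ : Finite ι) (Ri : ι → CommRingCat.{u}) (c : ∀ i, Spec (Ri i) ⟶ pullback s e),
      (∀ i, IsClosedImmersion (c i)) ∧ (∀ i, ∃ _ : HenselianLocalRing (Ri i), IsSepClosed (ResidueField (Ri i))) ∧
      (∀ t : ↥(pullback s e), ∃ i, t ∈ Set.range (c i)) ∧
      (∀ i j, i ≠ j → Disjoint (Set.range (c i)) (Set.range (c j))) ∧
      ∀ (Ω : Type u) [Field Ω] [IsAlgClosed Ω] (σ : Spec (CommRingCat.of Ω) ⟶ Spec (CommRingCat.of R)) (i : ι),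
        ∃ l : Spec (CommRingCat.of Ω) ⟶ pullback (c i ≫ pullback.snd s e) σ, Surjective l

theorem Split.mono {S₁ S : Scheme.{u}} {s : S₁ ⟶ S} {U U' : S.Opens} (h : Split s U) (hle : U' ≤ U) : Split s U' :=
  fun R _ _ _ e he => h R e fun x => hle (he x)

theorem surjective_piece_point {R Ri Ω : Type u} [CommRing R] [CommRing Ri] [Field Ω] [IsAlgClosed Ω] [Algebra R Ri]
    [Algebra R Ω] (χ : Ri →+* Ω) (hχ : χ.comp (algebraMap R Ri) = algebraMap R Ω)
    (huniq : ∀ (L : Type u) [Field L] (χ₁ χ₂ : Ri →+* L),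
      χ₁.comp (algebraMap R Ri) = χ₂.comp (algebraMap R Ri) → χ₁ = χ₂) :
    ∃ l : Spec (CommRingCat.of Ω) ⟶
        pullback (Spec.map (CommRingCat.ofHom (algebraMap R Ri))) (Spec.map (CommRingCat.ofHom (algebraMap R Ω))),
      Surjective l := by
  let χA : Ri →ₐ[R] Ω := { χ with commutes' := fun x => DFunLike.congr_fun hχ x }
  let Λ : (Ri ⊗[R] Ω) →ₐ[R] Ω := Algebra.TensorProduct.productMap χA (AlgHom.id R Ω)
  have hΛ : Function.Surjective (Spec.map (CommRingCat.ofHom Λ.toRingHom)) := fun P => by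
    let P' : PrimeSpectrum (Ri ⊗[R] Ω) := P
    let L := P'.asIdeal.ResidueField
    let μ : (Ri ⊗[R] Ω) →+* L := algebraMap _ L
    let μΩ : Ω →+* L := μ.comp Algebra.TensorProduct.includeRight.toRingHom
    have h1 : μ.comp Algebra.TensorProduct.includeLeftRingHom = μΩ.comp χ := huniq L _ _ (RingHom.ext fun x => by
      show μ (algebraMap R Ri x ⊗ₜ[R] (1 : Ω)) = μ ((1 : Ri) ⊗ₜ[R] χ (algebraMap R Ri x))
      rw [show χ (algebraMap R Ri x) = algebraMap R Ω x from DFunLike.congr_fun hχ x]
      exact congrArg μ (((Algebra.TensorProduct.includeLeft : Ri →ₐ[R] Ri ⊗[R] Ω).commutes x).trans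
        ((Algebra.TensorProduct.includeRight : Ω →ₐ[R] Ri ⊗[R] Ω).commutes x).symm))
    have h2 : μ = μΩ.comp Λ.toRingHom := RingHom.ext fun z => by
      induction z using TensorProduct.induction_on with
      | zero => rw [map_zero, map_zero]
      | add x y hx hy => rw [map_add, map_add, hx, hy]
      | tmul b x =>
        show μ (b ⊗ₜ[R] x) = μΩ (χ b * x)
        rw [map_mul, ← show μ (b ⊗ₜ[R] (1 : Ω)) = μΩ (χ b) from DFunLike.congr_fun h1 b]
        show _ = μ _ * μ ((1 : Ri) ⊗ₜ[R] x)
        rw [← map_mul, Algebra.TensorProduct.tmul_mul_tmul, mul_one, one_mul]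
    refine ⟨(⟨⊥, Ideal.isPrime_bot⟩ : PrimeSpectrum Ω), PrimeSpectrum.ext ?_⟩
    show (⊥ : Ideal Ω).comap Λ.toRingHom = P'.asIdeal
    rw [← RingHom.ker_eq_comap_bot, ← RingHom.ker_comp_of_injective Λ.toRingHom μΩ.injective, ← h2]
    exact Ideal.ker_algebraMap_residueField P'.asIdeal
  haveI : Surjective (Spec.map (CommRingCat.ofHom Λ.toRingHom)) := ⟨hΛ⟩
  exact ⟨Spec.map (CommRingCat.ofHom Λ.toRingHom) ≫ (pullbackSpecIso R Ri Ω).inv, inferInstance⟩

attribute [local instance] Algebra.TensorProduct.rightAlgebra in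
/-- Finite extensions split over a basic open of the base. -/
theorem split_of_rootData {A B : Type u} [CommRing A] [CommRing B] [Algebra A B] [Module.Finite A B]
    (D : RootData A B) :
    Split (Spec.map (CommRingCat.ofHom (algebraMap A B))) (PrimeSpectrum.basicOpen D.a) := by
  intro R _ _ _ e he
  obtain ⟨φ, rfl⟩ := Spec.map_surjective e
  letI : Algebra A R := φ.hom.toAlgebra
  have ha : IsUnit (algebraMap A R D.a) := by
    by_contra hu
    have hm : algebraMap A R D.a ∈ maximalIdeal R := (mem_maximalIdeal _).2 hu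
    have hmem := he (closedPoint R)
    exact (PrimeSpectrum.mem_basicOpen _ _).1 hmem hm
  change ∃ (ι : Type u) (_ : Finite ι) (Ri : ι → CommRingCat.{u}) (c : ∀ i, Spec (Ri i) ⟶
      pullback (Spec.map (CommRingCat.ofHom (algebraMap A B))) (Spec.map (CommRingCat.ofHom (algebraMap A R)))), _
  obtain ⟨ι, _, r, hr, hdiff, hall⟩ := D.exists_roots R ha
  let ps := pullbackSpecIso A B R
  let c : ∀ i, Spec (CommRingCat.of (D.Piece R (r i))) ⟶
      pullback (Spec.map (CommRingCat.ofHom (algebraMap A B))) (Spec.map (CommRingCat.ofHom (algebraMap A R))) :=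
    fun i => Spec.map (CommRingCat.ofHom (Ideal.Quotient.mk (D.pieceIdeal R (r i)))) ≫ ps.inv
  have hmem : ∀ (i : ι) (t : ↥(Spec (CommRingCat.of (B ⊗[A] R)))), ps.inv t ∈ Set.range (c i) ↔
      D.θ ⊗ₜ[A] (1 : R) - (1 : B) ⊗ₜ[A] r i ∈ (t : PrimeSpectrum (B ⊗[A] R)).asIdeal := fun i t => by
    rw [← D.mem_piece_range R]
    constructor
    · rintro ⟨z, hz⟩
      rw [Scheme.Hom.comp_apply] at hz
      exact ⟨z, ps.inv.homeomorph.injective hz⟩
    · rintro ⟨z, hz⟩
      exact ⟨z, (Scheme.Hom.comp_apply (Spec.map (CommRingCat.ofHom (Ideal.Quotient.mk (D.pieceIdeal R (r i))))) ps.inv z).trans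
        (congrArg ps.inv hz)⟩
  refine ⟨ι, inferInstance, fun i => CommRingCat.of (D.Piece R (r i)), c, fun i => ?_,
    fun i => D.strict_piece ha (hr i), fun t => ?_, fun i j hij => ?_, fun Ω _ _ σ i => ?_⟩
  · haveI : IsClosedImmersion (Spec.map (CommRingCat.ofHom (Ideal.Quotient.mk (D.pieceIdeal R (r i))))) :=
      IsClosedImmersion.spec_of_surjective _ Ideal.Quotient.mk_surjective
    infer_instance
  · obtain ⟨t', rfl⟩ := ps.inv.homeomorph.surjective t
    obtain ⟨i, hi⟩ := D.exists_mem_piece R r hall t'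
    exact ⟨i, (hmem i t').2 hi⟩
  · rw [Set.disjoint_left]
    intro t hi hj
    obtain ⟨t', rfl⟩ := ps.inv.homeomorph.surjective t
    have h1 := (hmem i t').1 hi
    have h2 := (hmem j t').1 hj
    have h3 := Ideal.sub_mem _ h2 h1
    rw [sub_sub_sub_cancel_left, ← TensorProduct.tmul_sub] at h3
    exact (t' : PrimeSpectrum (B ⊗[A] R)).isPrime.ne_top (Ideal.eq_top_of_isUnit_mem _ h3
      ((hdiff i j hij).map (Algebra.TensorProduct.includeRight (R := A) (A := B))))
  · obtain ⟨φΩ, rfl⟩ := Spec.map_surjective σ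
    letI : Algebra R Ω := φΩ.hom.toAlgebra
    have hc : c i ≫ pullback.snd _ _ = Spec.map (CommRingCat.ofHom (algebraMap R (D.Piece R (r i)))) := by
      show (_ ≫ ps.inv) ≫ pullback.snd _ _ = _
      rw [Category.assoc, pullbackSpecIso_inv_snd, ← Spec.map_comp]
      rfl
    obtain ⟨χ, hχ⟩ := D.exists_piece_hom ha (hr i) Ω (algebraMap R Ω)
    obtain ⟨l, hl⟩ := surjective_piece_point χ hχ fun L _ χ₁ χ₂ h => D.piece_hom_ext ha χ₁ χ₂ h
    haveI := hl
    exact ⟨l ≫ (pullback.congrHom hc rfl).inv, MorphismProperty.comp_mem @Surjective _ _ hl inferInstance⟩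

end Groth.L23.CohProp
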