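import Groth.Agent.L06.Spectral
import Mathlib.Topology.LocallyConstant.Basic

/-! # Extension of locally constant functions from opens with connected sets of generisations -/

universe u v

open TopologicalSpace

set_option autoImplicit false
set_option linter.style.haveILetI false
set_option linter.unusedSectionVars false

noncomputable section

namespace Groth.L23.CohProp

variable {Q : Type u} [TopologicalSpace Q]

/-- Restriction of a locally constant function to a subset. -/
def res (V : Set Q) {M : Type v} (c : LocallyConstant Q M) : LocallyConstant V M :=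
  c.comap ⟨((↑) : V → Q), continuous_subtype_val⟩

@[simp] theorem res_apply (V : Set Q) {M : Type v} (c : LocallyConstant Q M) (x : V) : res V c x = c x := rfl

/-- Locally constant functions on the subset extend uniquely. -/
def Ext (V : Set Q) : Prop :=
  ∀ M : Type (u + 1), Function.Bijective (res V : LocallyConstant Q M → LocallyConstant V M)

/-- In each set of generisations, the part in the subset is connected. -/
def Milnor (V : Set Q) : Prop :=
  ∀ m : Q, _root_.IsConnected (V ∩ {d | d ⤳ m})

theorem Milnor.exists_generization {V : Set Q} (h : Milnor V) (m : Q) : ∃ v ∈ V, v ⤳ m :=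
  let ⟨v, hv⟩ := (h m).1
  ⟨v, hv.1, hv.2⟩

/-- Locally constant functions are determined on a subset containing generisations of all points. -/
theorem res_injective {V : Set Q} (h : ∀ m : Q, ∃ v ∈ V, v ⤳ m) (M : Type v) :
    Function.Injective (res V : LocallyConstant Q M → LocallyConstant V M) := by
  intro c d hcd
  refine LocallyConstant.ext fun m => ?_
  obtain ⟨v, hv, hvm⟩ := h m
  have e := DFunLike.congr_fun hcd ⟨v, hv⟩
  have hc : v ∈ {z | c z = c m} :=
    hvm.mem_open ((c.isLocallyConstant.isOpen_fiber (c m))) rfl
  have hd : v ∈ {z | d z = d m} :=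
    hvm.mem_open ((d.isLocallyConstant.isOpen_fiber (d m))) rfl
  exact (Set.mem_ofPred.1 hc).symm.trans (e.trans hd)

variable [T0Space Q] [CompactSpace Q] [QuasiSeparatedSpace Q] [PrespectralSpace Q] [QuasiSober Q]

/-- Milnor subsets which are open and quasi-compact allow unique extensions. -/
theorem Milnor.ext {V : Set Q} (hV : IsOpen V) (hVc : IsCompact V) (h : Milnor V) : Ext V := by
  haveI : SpectralSpace Q := {}
  intro M
  refine ⟨res_injective h.exists_generization M, fun f => ?_⟩
  choose v hv hvm using h.exists_generization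
  let g : Q → M := fun m => f ⟨v m, hv m⟩
  have hconst : ∀ (m d : Q) (hd : d ∈ V), d ⤳ m → f ⟨d, hd⟩ = g m := fun m d hd hdm => by
    have hc : _root_.IsPreconnected {z : V | (z : Q) ⤳ m} := by
      refine (Topology.IsInducing.subtypeVal (t := V)).isPreconnected_image.1 ?_
      convert (h m).2 using 1
      ext z
      constructor
      · rintro ⟨w, hw, rfl⟩; exact ⟨w.2, hw⟩
      · rintro ⟨h1, h2⟩; exact ⟨⟨z, h1⟩, h2, rfl⟩
    exact f.isLocallyConstant.apply_eq_of_isPreconnected hc hdm (show v m ⤳ m from hvm m)
  -- the level sets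
  let A : M → Set Q := fun a => Subtype.val '' (f ⁻¹' {a})
  haveI : CompactSpace V := isCompact_iff_compactSpace.1 hVc
  have hAo : ∀ a, IsOpen (A a) := fun a => hV.isOpenMap_subtype_val _ (f.isLocallyConstant _)
  have hAc : ∀ a, IsCompact (A a) := fun a =>
    (f.isLocallyConstant.isClopen_fiber a).1.isCompact.image continuous_subtype_val
  have hclos : ∀ a, g ⁻¹' {a} = closure (A a) := fun a => by
    ext m
    constructor
    · intro hm
      exact (hvm m).mem_closed isClosed_closure (subset_closure ⟨⟨v m, hv m⟩, hm, rfl⟩)
    · intro hm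
      obtain ⟨e, ⟨⟨e', he'⟩, hea, rfl⟩, hem⟩ :=
        L06.Spectral.exists_specializes_of_mem_closure (L06.Spectral.isClopen_cons (hAo a) (hAc a)).1 hm
      exact (hconst m e' he' hem).symm.trans hea
  have hfin : (Set.range f).Finite := f.range_finite
  have hg : IsLocallyConstant g := (IsLocallyConstant.iff_isOpen_fiber).2 fun a => by
    show IsOpen (g ⁻¹' {a})
    have hc : (g ⁻¹' {a})ᶜ = ⋃ b ∈ (Set.range f \ {a}), g ⁻¹' {b} := by
      ext m
      simp only [Set.mem_compl_iff, Set.mem_preimage, Set.mem_singleton_iff, Set.mem_iUnion, Set.mem_sdiff,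
        exists_prop]
      constructor
      · exact fun hm => ⟨g m, ⟨⟨_, rfl⟩, hm⟩, rfl⟩
      · rintro ⟨b, ⟨-, hb⟩, rfl⟩; exact hb
    rw [← isClosed_compl_iff, hc]
    exact (hfin.subset Set.sdiff_subset).isClosed_biUnion fun b _ => (hclos b).symm ▸ isClosed_closure
  exact ⟨⟨g, hg⟩, LocallyConstant.ext fun x => (hconst x x x.2 specializes_rfl).symm⟩

end Groth.L23.CohProp
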